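import Mathlib
import Cfsg.Agent.Lib.Coprime.Generation

/-!
Offenders. A finite group `X` acts faithfully, through `φ`, on a finite abelian group `V` of
exponent `p`. If an abelian `p`-subgroup `A` with `|V| ≤ |A| |C_V(A)|` normalizes an abelian
`p'`-subgroup `Y` and `A ⊓ C(Y) = 1`, then `A = 1` or `p = 2` and an element of `A` inverts an
element of `Y` acting on a four-subgroup of `V`.
-/

set_option autoImplicit false
set_option linter.style.haveILetI false

namespace CfsgLib.Offender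

variable {X : Type*} [Group X] {V : Type*} [AddCommGroup V]

/-- Fixed points of a subgroup. -/
def fixSub (φ : X →* AddMonoid.End V) (B : Subgroup X) : AddSubgroup V where
  carrier := {v | ∀ b ∈ B, φ b v = v}
  zero_mem' := fun b _ => map_zero (φ b)
  add_mem' := fun {u v} hu hv b hb => by rw [map_add, hu b hb, hv b hb]
  neg_mem' := fun {u} hu b hb => by rw [map_neg, hu b hb]

theorem mem_fixSub {φ : X →* AddMonoid.End V} {B : Subgroup X} {v : V} :
    v ∈ fixSub φ B ↔ ∀ b ∈ B, φ b v = v := Iff.rfl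

theorem fixSub_anti (φ : X →* AddMonoid.End V) {B D : Subgroup X} (h : D ≤ B) :
    fixSub φ B ≤ fixSub φ D := fun _ hv d hd => hv d (h hd)

variable {p : ℕ} [hp : Fact p.Prime]

omit hp in
theorem End_natCast_self (hV : ∀ v : V, p • v = 0) : ((p : ℕ) : AddMonoid.End V) = 0 := by
  refine DFunLike.ext _ _ fun v => ?_
  exact (AddMonoid.End.natCast_apply p v).trans (hV v)

theorem charP_End [Nontrivial V] (hV : ∀ v : V, p • v = 0) : CharP (AddMonoid.End V) p := by
  haveI : Nontrivial (AddMonoid.End V) := by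
    obtain ⟨v, hv⟩ := exists_ne (0 : V)
    exact ⟨⟨1, 0, fun h => hv (DFunLike.congr_fun h v)⟩⟩
  exact (CharP.charP_iff_prime_eq_zero hp.out).2 (End_natCast_self hV)

theorem isPGroup_addSubgroup_card [Finite V] (hV : ∀ v : V, p • v = 0) (W : AddSubgroup V) :
    ∃ n, Nat.card W = p ^ n := by
  have h : IsPGroup p (Multiplicative W) := fun w => ⟨1, by
    apply Multiplicative.toAdd.injective
    rw [toAdd_pow, toAdd_one, pow_one]
    exact Subtype.ext (hV _)⟩
  obtain ⟨n, hn⟩ := h.exists_card_eq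
  exact ⟨n, (Nat.card_congr Multiplicative.ofAdd).trans hn⟩

/-- The commutators `[B, v]` never fill `V` modulo `C_V(B)`. -/
theorem fixed_of_mem_sup [Finite X] [Nontrivial V] (hV : ∀ v : V, p • v = 0)
    (φ : X →* AddMonoid.End V) {B : Subgroup X} (hBp : IsPGroup p B)
    (hBc : ∀ a ∈ B, ∀ b ∈ B, a * b = b * a) {v : V}
    (hv : v ∈ AddSubgroup.closure ((fun b => φ b v - v) '' (B : Set X)) ⊔ fixSub φ B) :
    v ∈ fixSub φ B := by
  haveI := charP_End hV
  let S : Subring (AddMonoid.End V) := Subring.closure (φ '' (B : Set X))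
  have hcomm : ∀ x ∈ S, ∀ y ∈ S, x * y = y * x := by
    haveI : IsMulCommutative S := Subring.isMulCommutative_closure (by
      rintro _ ⟨a, ha, rfl⟩ _ ⟨b, hb, rfl⟩
      rw [← map_mul, ← map_mul, hBc a ha b hb])
    exact fun x hx y hy => congrArg Subtype.val (mul_comm' (⟨x, hx⟩ : S) ⟨y, hy⟩)
  have hmem : ∀ b ∈ B, φ b ∈ S := fun b hb => Subring.subset_closure ⟨b, hb, rfl⟩
  let T : AddSubgroup V :=
    { carrier := {w | ∃ r ∈ S, IsNilpotent r ∧ r v = w}
      zero_mem' := ⟨0, zero_mem S, IsNilpotent.zero, rfl⟩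
      add_mem' := by
        rintro _ _ ⟨r, hr, hrn, rfl⟩ ⟨s, hs, hsn, rfl⟩
        exact ⟨r + s, add_mem hr hs, Commute.isNilpotent_add (hcomm r hr s hs) hrn hsn, rfl⟩
      neg_mem' := by
        rintro _ ⟨r, hr, hrn, rfl⟩
        exact ⟨-r, neg_mem hr, hrn.neg, rfl⟩ }
  have hle : AddSubgroup.closure ((fun b => φ b v - v) '' (B : Set X)) ≤ T := by
    rw [AddSubgroup.closure_le]
    rintro _ ⟨b, hb, rfl⟩
    refine ⟨φ b - 1, sub_mem (hmem b hb) (one_mem S), ?_, rfl⟩
    obtain ⟨k, hk⟩ := hBp ⟨b, hb⟩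
    have hk' : b ^ p ^ k = 1 := congrArg Subtype.val hk
    refine ⟨p ^ k, ?_⟩
    rw [sub_pow_char_pow_of_commute p k (Commute.one_right _), ← map_pow, hk', map_one,
      one_pow, sub_self]
  obtain ⟨w, hw, c, hc, hwc⟩ := AddSubgroup.mem_sup.mp hv
  obtain ⟨r, hr, hrn, rfl⟩ := hle hw
  obtain ⟨u, hu⟩ := hrn.isUnit_one_sub
  have hcv : (u : AddMonoid.End V) v = c := by
    rw [hu]
    show v - r v = c
    exact sub_eq_iff_eq_add'.mpr hwc.symm
  have hinv : (↑u⁻¹ : AddMonoid.End V) c = v := by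
    rw [← hcv, ← Function.comp_apply (f := (↑u⁻¹ : AddMonoid.End V)), ← AddMonoid.End.coe_mul,
      Units.inv_mul]
    rfl
  intro b hb
  have hcu : Commute (φ b) (↑u⁻¹ : AddMonoid.End V) := by
    apply Commute.units_inv_right
    rw [hu]
    exact (Commute.one_right _).sub_right (hcomm _ (hmem b hb) r hr)
  calc φ b v = (φ b * (↑u⁻¹ : AddMonoid.End V)) c := by
        rw [← hinv]; rfl
    _ = ((↑u⁻¹ : AddMonoid.End V) * φ b) c := by rw [hcu.eq]
    _ = v := by
        show (↑u⁻¹ : AddMonoid.End V) (φ b c) = v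
        rw [hc b hb, hinv]

/-- Thompson replacement: the centralizer of `[B, v]` in `B` is at least as good as `B`. -/
theorem replacement [Finite X] [Finite V] (φ : X →* AddMonoid.End V) {B : Subgroup X}
    (hBc : ∀ a ∈ B, ∀ b ∈ B, a * b = b * a) (v : V) :
    ∃ D ≤ B,
      (∀ d ∈ B, (∀ c ∈ B, φ d (φ c v - v) = φ c v - v) → d ∈ D) ∧
      AddSubgroup.closure ((fun b => φ b v - v) '' (B : Set X)) ⊔ fixSub φ B ≤ fixSub φ D ∧
      Nat.card B * Nat.card (fixSub φ B) ≤ Nat.card D *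
        Nat.card ↥(AddSubgroup.closure ((fun b => φ b v - v) '' (B : Set X)) ⊔ fixSub φ B) := by
  classical
  let D : Subgroup X :=
    { carrier := {d | d ∈ B ∧ ∀ c ∈ B, φ d (φ c v - v) = φ c v - v}
      one_mem' := ⟨one_mem B, fun c _ => by rw [map_one]; rfl⟩
      mul_mem' := fun {a b} ha hb => ⟨mul_mem ha.1 hb.1, fun c hc => by
        rw [map_mul]
        show φ a (φ b _) = _
        rw [hb.2 c hc, ha.2 c hc]⟩
      inv_mem' := fun {a} ha => ⟨inv_mem ha.1, fun c hc => by
        conv_lhs => rw [← ha.2 c hc]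
        show (φ a⁻¹ * φ a) _ = _
        rw [← map_mul, inv_mul_cancel, map_one]
        rfl⟩ }
  refine ⟨D, fun d hd => hd.1, fun d hd h => ⟨hd, h⟩, ?_, ?_⟩
  · refine sup_le ((AddSubgroup.closure_le _).mpr ?_) (fixSub_anti φ fun d hd => hd.1)
    rintro _ ⟨b, hb, rfl⟩ d hd
    exact hd.2 b hb
  · set W := AddSubgroup.closure ((fun b => φ b v - v) '' (B : Set X)) ⊔ fixSub φ B with hW
    have hFW : fixSub φ B ≤ W := le_sup_right
    let f : B → W := fun b => ⟨φ (b : X) v - v,
      AddSubgroup.mem_sup_left (AddSubgroup.subset_closure ⟨b, b.2, rfl⟩)⟩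
    have hf : ∀ a b : B, (f a : W ⧸ (fixSub φ B).addSubgroupOf W) = (f b : W ⧸ _) →
        (a : B ⧸ D.subgroupOf B) = (b : B ⧸ D.subgroupOf B) := by
      intro a b h
      rw [QuotientAddGroup.eq, AddSubgroup.mem_addSubgroupOf] at h
      rw [QuotientGroup.eq, Subgroup.mem_subgroupOf]
      set d : X := ((a⁻¹ * b : B) : X) with hd
      have hdB : d ∈ B := (a⁻¹ * b).2
      have hb : (b : X) = (a : X) * d := by simp [hd]
      have hfa : ∀ w ∈ fixSub φ B, φ (a : X) w = w := fun w hw => hw a a.2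
      have h1 : φ d v - v ∈ fixSub φ B := by
        have h' : φ (b : X) v - φ (a : X) v ∈ fixSub φ B := by
          have : -(φ (a : X) v - v) + (φ (b : X) v - v) ∈ fixSub φ B := h
          rwa [show -(φ (a : X) v - v) + (φ (b : X) v - v) = φ (b : X) v - φ (a : X) v by abel]
            at this
        have h'' : φ (a : X) (φ d v - v) ∈ fixSub φ B := by
          rw [map_sub]
          show (φ (a : X) * φ d) v - _ ∈ _
          rw [← map_mul, ← hb]
          exact h'
        have : φ d v - v = φ (a : X) (φ d v - v) := by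
          have h2 := h'' (a : X)⁻¹ (inv_mem a.2)
          rw [show φ (a : X)⁻¹ (φ (a : X) (φ d v - v)) = (φ (a : X)⁻¹ * φ (a : X)) (φ d v - v)
            from rfl, ← map_mul, inv_mul_cancel, map_one] at h2
          exact h2
        rw [this]
        exact h''
      refine ⟨hdB, fun c hc => ?_⟩
      have h2 : φ c (φ d v - v) = φ d v - v := h1 c hc
      rw [map_sub, show φ c (φ d v) = (φ c * φ d) v from rfl, ← map_mul, hBc c hc d hdB, map_mul]
        at h2
      rw [map_sub]
      have h3 : φ d (φ c v) = φ d v - v + φ c v := sub_eq_iff_eq_add.mp h2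
      rw [h3]
      abel
    have hcard : Nat.card (B ⧸ D.subgroupOf B) ≤ Nat.card (W ⧸ (fixSub φ B).addSubgroupOf W) := by
      refine Nat.card_le_card_of_injective
        (fun q => ((f q.out : W) : W ⧸ (fixSub φ B).addSubgroupOf W)) fun q r h => ?_
      rw [← q.out_eq, ← r.out_eq]
      exact hf _ _ h
    have hB := Subgroup.card_eq_card_quotient_mul_card_subgroup (D.subgroupOf B)
    have hW' := AddSubgroup.card_eq_card_quotient_mul_card_addSubgroup ((fixSub φ B).addSubgroupOf W)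
    rw [Nat.card_congr (Subgroup.subgroupOfEquivOfLe (fun d hd => hd.1 : D ≤ B)).toEquiv] at hB
    rw [Nat.card_congr (AddSubgroup.addSubgroupOfEquivOfLe hFW).toEquiv] at hW'
    rw [hB, hW']
    calc _ = Nat.card (B ⧸ D.subgroupOf B) * (Nat.card D * Nat.card (fixSub φ B)) := by ring
      _ ≤ Nat.card (W ⧸ (fixSub φ B).addSubgroupOf W) * (Nat.card D * Nat.card (fixSub φ B)) :=
          Nat.mul_le_mul_right _ hcard
      _ = _ := by ring

/-- A minimal offender acts quadratically. -/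
theorem exists_quadratic [Finite X] [Finite V] [Nontrivial V] (hV : ∀ v : V, p • v = 0)
    (φ : X →* AddMonoid.End V) {A : Subgroup X} (hA1 : A ≠ ⊥)
    (hAp : IsPGroup p A) (hAc : ∀ a ∈ A, ∀ b ∈ A, a * b = b * a)
    (hoff : Nat.card V ≤ Nat.card A * Nat.card (fixSub φ A)) :
    ∃ B ≤ A, B ≠ ⊥ ∧ Nat.card V ≤ Nat.card B * Nat.card (fixSub φ B) ∧
      (∀ D < B, D ≠ ⊥ → Nat.card D * Nat.card (fixSub φ D) < Nat.card V) ∧
      ∀ b ∈ B, ∀ c ∈ B, ∀ v, φ c (φ b v - v) = φ b v - v := by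
  obtain ⟨B, hBA, hmin⟩ := exists_minimal_le_of_wellFoundedLT
    (fun B : Subgroup X => B ≤ A ∧ B ≠ ⊥ ∧ Nat.card V ≤ Nat.card B * Nat.card (fixSub φ B)) A
    ⟨le_rfl, hA1, hoff⟩
  obtain ⟨⟨-, hB1, hBoff⟩, hB⟩ := hmin
  have hlt : ∀ D < B, D ≠ ⊥ → Nat.card D * Nat.card (fixSub φ D) < Nat.card V := fun D hD hD1 => by
    by_contra h
    exact hD.not_ge (hB ⟨hD.le.trans hBA, hD1, not_lt.mp h⟩ hD.le)
  refine ⟨B, hBA, hB1, hBoff, hlt, ?_⟩
  have hBc : ∀ a ∈ B, ∀ b ∈ B, a * b = b * a := fun a ha b hb => hAc a (hBA ha) b (hBA hb)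
  intro b hb c hc v
  obtain ⟨D, hDB, hDmem, hWD, hcard⟩ := replacement φ hBc v
  set W := AddSubgroup.closure ((fun b => φ b v - v) '' (B : Set X)) ⊔ fixSub φ B with hW
  rcases hDB.eq_or_lt with hDeq | hDlt
  · exact hWD (AddSubgroup.mem_sup_left (AddSubgroup.subset_closure ⟨b, hb, rfl⟩)) c (hDeq ▸ hc)
  · rcases eq_or_ne D ⊥ with rfl | hD1
    · rw [Subgroup.card_bot, one_mul] at hcard
      have hWtop : W = ⊤ := AddSubgroup.eq_top_of_le_card W (hBoff.trans hcard)
      have hvfix : v ∈ fixSub φ B := fixed_of_mem_sup hV φ (hAp.to_le hBA) hBc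
        (by rw [← hW, hWtop]; trivial)
      rw [hvfix b hb, sub_self, map_zero]
    · refine absurd (hlt D hDlt hD1) (not_lt.mpr (hBoff.trans (hcard.trans ?_)))
      exact Nat.mul_le_mul_left _ (AddSubgroup.card_le_of_le hWD)

/-- For odd `p` a quadratic automorphism centralizes each abelian `p'`-group it normalizes. -/
theorem commute_of_quadratic [Finite X] [Nontrivial V] (hV : ∀ v : V, p • v = 0) (hp2 : p ≠ 2)
    (φ : X →* AddMonoid.End V) (hφ : Function.Injective φ) {a : X}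
    (hq : (φ a - 1) * (φ a - 1) = 0) {Y : Subgroup X} (hYc : ∀ x ∈ Y, ∀ y ∈ Y, x * y = y * x)
    (hY : (Nat.card Y).Coprime p) (ha : a ∈ Subgroup.normalizer (Y : Set X)) :
    ∀ y ∈ Y, a * y = y * a := by
  haveI := charP_End hV
  set N := φ a - 1 with hN
  have ha1 : φ a = 1 + N := by rw [hN, add_sub_cancel]
  have hb1 : φ a⁻¹ = 1 - N := by
    have h1 : φ a * (1 - N) = 1 := by
      rw [ha1, mul_sub, mul_one, add_mul, one_mul, hq, add_zero, add_sub_cancel_right]
    have h2 : φ a⁻¹ * φ a = 1 := by rw [← map_mul, inv_mul_cancel, map_one]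
    calc φ a⁻¹ = φ a⁻¹ * (φ a * (1 - N)) := by rw [h1, mul_one]
      _ = 1 - N := by rw [← mul_assoc, h2, one_mul]
  obtain ⟨m, hm0, hm⟩ : ∃ m, 0 < m ∧ p ^ m ≡ 1 [MOD Nat.card Y] :=
    ⟨_, Nat.totient_pos.mpr Nat.card_pos, Nat.ModEq.pow_totient hY.symm⟩
  have hn2 : 2 ≤ p ^ m := hp.out.two_le.trans (Nat.le_self_pow hm0.ne' p)
  have hpowY : ∀ y ∈ Y, φ y ^ (p ^ m) = φ y := fun y hy => by
    rw [← map_pow]
    congr 1
    have h1 : p ^ m ≡ 1 [MOD orderOf (⟨y, hy⟩ : Y)] := Nat.ModEq.of_dvd (orderOf_dvd_natCard _) hm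
    have h2 := pow_eq_pow_iff_modEq.mpr h1
    rw [pow_one] at h2
    exact congrArg Subtype.val h2
  have hcj : ∀ y ∈ Y, a * y * a⁻¹ ∈ Y := fun y hy => (Subgroup.mem_normalizer_iff.mp ha y).mp hy
  have hcj' : ∀ y ∈ Y, a⁻¹ * y * a ∈ Y := fun y hy => (Subgroup.mem_normalizer_iff''.mp ha y).mp hy
  have hc : ∀ x ∈ Y, ∀ y ∈ Y, Commute (φ x) (φ y) := fun x hx y hy => by
    rw [commute_iff_eq, ← map_mul, ← map_mul, hYc x hx y hy]
  have hzero : ∀ t : AddMonoid.End V, t * t = 0 → t ^ (p ^ m) = 0 := fun t ht =>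
    pow_eq_zero_of_le hn2 (by rw [pow_two, ht])
  have hNrN : ∀ y ∈ Y, N * φ y * N = 0 := by
    intro y hy
    set r := φ y with hr
    have hya : φ (a * y * a⁻¹) = (1 + N) * r * (1 - N) := by rw [map_mul, map_mul, ha1, hb1]
    have hyb : φ (a⁻¹ * y * a) = (1 - N) * r * (1 + N) := by rw [map_mul, map_mul, ha1, hb1]
    set t := (r + r) - (φ (a * y * a⁻¹) + φ (a⁻¹ * y * a)) with ht
    have ht' : t = N * r * N + N * r * N := by
      rw [ht, hya, hyb]
      noncomm_ring
    have htt : t * t = 0 := by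
      have h0 : N * r * N * (N * r * N) = 0 := by
        rw [show N * r * N * (N * r * N) = N * r * (N * N) * r * N by simp only [mul_assoc], hq]
        simp
      rw [ht']
      simp only [mul_add, add_mul, h0, add_zero]
    have htn : t ^ (p ^ m) = t := by
      have hc1 := hc _ (hcj y hy) _ (hcj' y hy)
      have hc2 : Commute (r + r) (φ (a * y * a⁻¹) + φ (a⁻¹ * y * a)) :=
        ((hc _ hy _ (hcj y hy)).add_left (hc _ hy _ (hcj y hy))).add_right
          ((hc _ hy _ (hcj' y hy)).add_left (hc _ hy _ (hcj' y hy)))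
      rw [ht, sub_pow_char_pow_of_commute p m hc2,
        add_pow_char_pow_of_commute p m (Commute.refl r),
        add_pow_char_pow_of_commute p m hc1, hpowY y hy, hpowY _ (hcj y hy),
        hpowY _ (hcj' y hy)]
    have h2 : N * r * N + N * r * N = 0 := by rw [← ht', ← htn, hzero t htt]
    obtain ⟨k, hk⟩ := hp.out.odd_of_ne_two hp2
    calc N * r * N = ((2 * k + 1 + 1 : ℕ) : AddMonoid.End V) * (N * r * N) := by
          rw [Nat.cast_succ, ← hk, CharP.cast_eq_zero, zero_add, one_mul]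
      _ = ((k + 1 : ℕ) : AddMonoid.End V) * (N * r * N + N * r * N) := by
          rw [show 2 * k + 1 + 1 = (k + 1) * 2 by ring, Nat.cast_mul, mul_assoc, Nat.cast_ofNat,
            two_mul]
      _ = 0 := by rw [h2, mul_zero]
  intro y hy
  set r := φ y with hr
  have hya : φ (a * y * a⁻¹) = r + (N * r - r * N) := by
    rw [map_mul, map_mul, ha1, hb1]
    have := hNrN y hy
    rw [← hr] at this
    calc (1 + N) * r * (1 - N) = r + (N * r - r * N) - N * r * N := by noncomm_ring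
      _ = _ := by rw [this, sub_zero]
  have hs : (φ (a * y * a⁻¹) - r) * (φ (a * y * a⁻¹) - r) = 0 := by
    rw [hya, add_sub_cancel_left]
    have h1 := hNrN y hy
    rw [← hr] at h1
    have h2 : N * (r * r) * N = 0 := by
      have := hNrN (y * y) (mul_mem hy hy)
      rwa [map_mul] at this
    have h3 : r * N * (r * N) = 0 := by
      rw [show r * N * (r * N) = r * (N * r * N) by simp only [mul_assoc], h1, mul_zero]
    have h4 : N * r * (N * r) = 0 := by
      rw [show N * r * (N * r) = N * r * N * r by simp only [mul_assoc], h1, zero_mul]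
    have h5 : N * r * (r * N) = 0 := by
      rw [show N * r * (r * N) = N * (r * r) * N by simp only [mul_assoc], h2]
    have h6 : r * N * (N * r) = 0 := by
      rw [show r * N * (N * r) = r * (N * N) * r by simp only [mul_assoc], hq, mul_zero, zero_mul]
    simp only [mul_sub, sub_mul, h3, h4, h5, h6, sub_zero]
  have h7 : φ (a * y * a⁻¹) = r := by
    have h8 := hzero _ hs
    rw [sub_pow_char_pow_of_commute p m (hc _ (hcj y hy) _ hy), hpowY y hy,
      hpowY _ (hcj y hy), sub_eq_zero] at h8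
    exact h8
  exact mul_inv_eq_iff_eq_mul.mp (hφ h7)

omit hp in
theorem conj_mem_fixSub {φ : X →* AddMonoid.End V} {B : Subgroup X} {y : X}
    (h : ∀ b ∈ B, b * y = y * b) {v : V} (hv : v ∈ fixSub φ B) : φ y v ∈ fixSub φ B := by
  intro b hb
  show (φ b * φ y) v = φ y v
  rw [← map_mul, h b hb, map_mul]
  show φ y (φ b v) = φ y v
  rw [hv b hb]

omit hp in
/-- Automorphisms normalizing a fixed subgroup `W` centralize a `p'`-element stabilizing `V ≥ W`. -/
theorem eq_one_of_stabilizes [Finite V] (hV : ∀ v : V, p • v = 0) (φ : X →* AddMonoid.End V)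
    (hφ : Function.Injective φ) {z : X} (hz : (orderOf z).Coprime p) {W : AddSubgroup V}
    (h1 : ∀ w ∈ W, φ z w = w) (h2 : ∀ v, φ z v - v ∈ W) : z = 1 := by
  apply hφ
  rw [map_one]
  refine DFunLike.ext _ _ fun v => ?_
  have key : ∀ n : ℕ, φ (z ^ n) v = v + n • (φ z v - v) := by
    intro n
    induction n with
    | zero => simp
    | succ n ih =>
      rw [pow_succ', map_mul]
      show φ z (φ (z ^ n) v) = _
      rw [ih, map_add, map_nsmul, h1 _ (h2 v), add_smul, one_smul]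
      abel
  have h3 := key (orderOf z)
  rw [pow_orderOf_eq_one, map_one] at h3
  have h4 : orderOf z • (φ z v - v) = 0 := by simpa using h3.symm
  have h5 := (addOrderOf_dvd_iff_nsmul_eq_zero).mpr h4
  have h6 := (addOrderOf_dvd_iff_nsmul_eq_zero).mpr (hV (φ z v - v))
  have h7 := Nat.eq_one_of_dvd_coprimes hz h5 h6
  rw [AddMonoid.addOrderOf_eq_one_iff, sub_eq_zero] at h7
  exact h7

/-- At `p = 2` an offender not centralizing an abelian odd-order group contains a transvection. -/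
theorem exists_transvection [Finite X] [Finite V] [Nontrivial V] (hV : ∀ v : V, 2 • v = 0)
    (φ : X →* AddMonoid.End V) (hφ : Function.Injective φ) {A Y : Subgroup X}
    (hA1 : A ≠ ⊥) (hAp : IsPGroup 2 A) (hAc : ∀ a ∈ A, ∀ b ∈ A, a * b = b * a)
    (hY : (Nat.card Y).Coprime 2) (hAY : A ≤ Subgroup.normalizer (Y : Set X))
    (hAC : A ⊓ Subgroup.centralizer (Y : Set X) = ⊥)
    (hoff : Nat.card V ≤ Nat.card A * Nat.card (fixSub φ A)) :
    ∃ a ∈ A, a ≠ 1 ∧ a * a = 1 ∧ Nat.card V ≤ 2 * Nat.card (fixSub φ (Subgroup.zpowers a)) := by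
  haveI : Fact (Nat.Prime 2) := ⟨Nat.prime_two⟩
  haveI := charP_End (p := 2) hV
  obtain ⟨B, hBA, hB1, hBoff, hlt, hq⟩ := exists_quadratic hV φ hA1 hAp hAc hoff
  have hsq : ∀ b ∈ B, b * b = 1 := by
    intro b hb
    apply hφ
    rw [map_mul, map_one]
    have h0 : (φ b - 1) ^ 2 ^ 1 = 0 := by
      rw [pow_one, pow_two]
      refine DFunLike.ext _ _ fun v => ?_
      show φ b (φ b v - v) - (φ b v - v) = (0 : V)
      rw [hq b hb b hb v, sub_self]
    rw [sub_pow_char_pow_of_commute 2 1 (Commute.one_right _), one_pow, sub_eq_zero, pow_one,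
      pow_two] at h0
    exact h0
  by_cases hcard : Nat.card B ≤ 2
  · obtain ⟨b, hb, hb1⟩ : ∃ b ∈ B, b ≠ 1 := (Subgroup.ne_bot_iff_exists_ne_one.mp hB1).elim
      fun b h => ⟨b, b.2, fun hb => h (Subtype.ext hb)⟩
    refine ⟨b, hBA hb, hb1, hsq b hb, hBoff.trans (Nat.mul_le_mul hcard ?_)⟩
    exact AddSubgroup.card_le_of_le (fixSub_anti φ ((Subgroup.zpowers_le).mpr hb))
  · exfalso
    push Not at hcard
    have hBc : ∀ a ∈ B, ∀ b ∈ B, a * b = b * a := fun a ha b hb => hAc a (hBA ha) b (hBA hb)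
    have hpow : ∀ b ∈ B, b ^ 2 = 1 := fun b hb => by rw [pow_two]; exact hsq b hb
    obtain ⟨n, hn⟩ := (hAp.to_le hBA).exists_card_eq
    have h4 : 2 ^ 2 ≤ Nat.card B := by
      rw [hn] at hcard ⊢
      refine Nat.pow_le_pow_right two_pos ?_
      by_contra h
      push Not at h
      interval_cases n <;> omega
    set W := fixSub φ B with hW
    let N : Subgroup X :=
      { carrier := {y | ∀ w, φ y w ∈ W ↔ w ∈ W}
        one_mem' := fun w => by rw [map_one]; rfl
        mul_mem' := fun {x y} hx hy w => by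
          rw [map_mul]; exact (hx (φ y w)).trans (hy w)
        inv_mem' := fun {x} hx w => by
          have h := (hx (φ x⁻¹ w)).symm
          rwa [show φ x (φ x⁻¹ w) = (φ x * φ x⁻¹) w from rfl, ← map_mul, mul_inv_cancel,
            map_one] at h }
    have hN : ∀ D ≤ B, D.relIndex B ≤ 2 → Y ⊓ Subgroup.centralizer (D : Set X) ≤ N := by
      intro D hDB hD y hy
      have hmono : ∀ {y}, y ∈ Y ⊓ Subgroup.centralizer (D : Set X) → ∀ {w}, w ∈ W → φ y w ∈ W := by
        intro y hy w hw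
        have hfix : fixSub φ D = W := by
          rcases hDB.eq_or_lt with rfl | hlt'
          · rfl
          have hmul : D.relIndex B * Nat.card D = Nat.card B := by
            have := Subgroup.relIndex_mul_relIndex ⊥ D B bot_le hDB
            rwa [Subgroup.relIndex_bot_left, Subgroup.relIndex_bot_left, mul_comm] at this
          have hD1 : D ≠ ⊥ := by
            rintro rfl
            rw [Subgroup.card_bot, mul_one] at hmul
            omega
          have h1 := hlt D hlt' hD1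
          refine (AddSubgroup.eq_of_le_of_card_ge (fixSub_anti φ hDB) ?_).symm
          obtain ⟨i, hi⟩ := isPGroup_addSubgroup_card (p := 2) hV W
          obtain ⟨j, hj⟩ := isPGroup_addSubgroup_card (p := 2) hV (fixSub φ D)
          rw [hi, hj]
          have h2 : Nat.card D * 2 ^ j < Nat.card D * 2 ^ (i + 1) := by
            rw [← hj]
            calc _ < Nat.card B * Nat.card W := h1.trans_le hBoff
              _ ≤ 2 * Nat.card D * 2 ^ i := by
                  rw [← hmul, hi]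
                  exact Nat.mul_le_mul_right _ (Nat.mul_le_mul_right _ hD)
              _ = _ := by ring
          have h3 := (Nat.pow_lt_pow_iff_right one_lt_two).mp (Nat.lt_of_mul_lt_mul_left h2)
          exact Nat.pow_le_pow_right two_pos (by omega)
        rw [← hfix] at hw ⊢
        exact conj_mem_fixSub (Subgroup.mem_inf.mp hy).2 hw
      intro w
      refine ⟨fun h => ?_, fun h => hmono hy h⟩
      have := hmono (inv_mem hy) h
      rwa [show φ y⁻¹ (φ y w) = (φ y⁻¹ * φ y) w from rfl, ← map_mul, inv_mul_cancel, map_one]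
        at this
    have hcop : (Nat.card B).Coprime (Nat.card Y) := hn ▸ hY.symm.pow_left n
    have hYN : Y ≤ N := Coprime.le_of_hyperplane_centralizer_le ⟨⟨fun a b =>
      Subtype.ext (hBc a a.2 b b.2)⟩⟩ hpow h4 (hBA.trans hAY) hcop hN
    refine hB1 (eq_bot_iff.mpr fun b hb => ?_)
    rw [← hAC]
    refine Subgroup.mem_inf.mpr ⟨hBA hb, fun y hy => ?_⟩
    set z := y * b * y⁻¹ * b⁻¹ with hz
    have hzY : z ∈ Y := by
      rw [hz, show y * b * y⁻¹ * b⁻¹ = y * (b * y⁻¹ * b⁻¹) by group]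
      exact mul_mem hy ((Subgroup.mem_normalizer_iff.mp (hAY (hBA hb)) _).mp (inv_mem hy))
    have hzc : (orderOf z).Coprime 2 :=
      Nat.Coprime.coprime_dvd_left (Y.orderOf_dvd_natCard hzY) hY
    have happ : ∀ (x x' : X) (v : V), φ (x * x') v = φ x (φ x' v) := fun x x' v => by
      rw [map_mul]; rfl
    have hbW : ∀ c ∈ B, ∀ v, φ c v - v ∈ W := fun c hc v d hd => hq c hc d hd v
    have hz1 : z = 1 := by
      refine eq_one_of_stabilizes (p := 2) hV φ hφ hzc (W := W) (fun w hw => ?_) (fun v => ?_)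
      · have h1 : φ b (φ y⁻¹ w) = φ y⁻¹ w := (hYN (inv_mem hy) w).mpr hw b hb
        rw [hz, happ, happ, happ, hw b⁻¹ (inv_mem hb), h1, ← happ, mul_inv_cancel, map_one]
        rfl
      · set u := φ b⁻¹ v with hu
        have h1 : φ z v - v = φ y (φ b (φ y⁻¹ u) - φ y⁻¹ u) + (u - v) := by
          rw [hz, happ, happ, happ, map_sub, ← happ y y⁻¹ u, mul_inv_cancel, map_one]
          simp [hu]
        rw [h1]
        exact add_mem ((hYN hy _).mpr (hbW b hb _)) (hbW b⁻¹ (inv_mem hb) v)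
    rw [hz, mul_inv_eq_one, mul_inv_eq_iff_eq_mul] at hz1
    exact hz1

/-- **Offenders on abelian `p'`-groups.** -/
theorem eq_two_of_offender [Finite X] [Finite V] [Nontrivial V] (hV : ∀ v : V, p • v = 0)
    (φ : X →* AddMonoid.End V) (hφ : Function.Injective φ) {A Y : Subgroup X}
    (hA1 : A ≠ ⊥) (hAp : IsPGroup p A) (hAc : ∀ a ∈ A, ∀ b ∈ A, a * b = b * a)
    (hYc : ∀ x ∈ Y, ∀ y ∈ Y, x * y = y * x)
    (hY : (Nat.card Y).Coprime p) (hAY : A ≤ Subgroup.normalizer (Y : Set X))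
    (hAC : A ⊓ Subgroup.centralizer (Y : Set X) = ⊥)
    (hoff : Nat.card V ≤ Nat.card A * Nat.card (fixSub φ A)) :
    p = 2 ∧ ∃ a y : X, ∃ V₁ : AddSubgroup V, Nat.card V₁ = 4 ∧ Odd (orderOf y) ∧
      a * y * a⁻¹ = y⁻¹ ∧ (∀ v ∈ V₁, φ a v ∈ V₁) ∧ (∀ v ∈ V₁, φ y v ∈ V₁) ∧
      ∃ v ∈ V₁, φ y v ≠ v := by
  by_cases hp2 : p = 2
  case neg =>
    exfalso
    obtain ⟨B, hBA, hB1, -, -, hq⟩ := exists_quadratic hV φ hA1 hAp hAc hoff
    refine hB1 (eq_bot_iff.mpr fun b hb => ?_)
    rw [← hAC]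
    refine Subgroup.mem_inf.mpr ⟨hBA hb, fun y hy => ?_⟩
    refine (commute_of_quadratic hV hp2 φ hφ ?_ hYc hY (hAY (hBA hb)) y hy).symm
    refine DFunLike.ext _ _ fun v => ?_
    show φ b (φ b v - v) - (φ b v - v) = (0 : V)
    rw [hq b hb b hb v, sub_self]
  subst hp2
  refine ⟨rfl, ?_⟩
  haveI := charP_End hV
  obtain ⟨a, ha, ha1, haa, htr⟩ := exists_transvection hV φ hφ hA1 hAp hAc hY hAY hAC hoff
  obtain ⟨x, hx, hxa⟩ : ∃ x ∈ Y, x * a ≠ a * x := by
    by_contra h
    push Not at h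
    exact ha1 (Subgroup.mem_bot.mp (hAC ▸ Subgroup.mem_inf.mpr ⟨ha, fun x hx => h x hx⟩))
  have hainv : a⁻¹ = a := inv_eq_of_mul_eq_one_right haa
  set a' := x * a * x⁻¹ with ha'
  set y := a * a' with hy
  have hyY : y ∈ Y := by
    rw [hy, ha', show a * (x * a * x⁻¹) = a * x * a * x⁻¹ by group]
    refine mul_mem ?_ (inv_mem hx)
    nth_rw 2 [← hainv]
    exact (Subgroup.mem_normalizer_iff.mp (hAY ha) x).mp hx
  have hodd : Odd (orderOf y) := Nat.coprime_two_right.mp
    (Nat.Coprime.coprime_dvd_left (Y.orderOf_dvd_natCard hyY) hY)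
  have hy1 : y ≠ 1 := by
    intro h
    rw [hy, mul_eq_one_iff_inv_eq, hainv, ha', eq_mul_inv_iff_mul_eq] at h
    exact hxa h.symm
  have hinv : a * y * a⁻¹ = y⁻¹ := by
    have h' : a'⁻¹ = a' := by rw [ha', mul_inv_rev, mul_inv_rev, inv_inv, hainv, mul_assoc]
    rw [hy, mul_inv_rev, h', hainv, ← mul_assoc a a, haa, one_mul]
  have happ : ∀ (x x' : X) (v : V), φ (x * x') v = φ x (φ x' v) := fun x x' v => by
    rw [map_mul]; rfl
  set T : V →+ V := (φ y - 1 : AddMonoid.End V) with hT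
  have hTv : ∀ v, T v = φ y v - v := fun v => rfl
  refine ⟨a, y, T.range, ?_, hodd, hinv, ?_, ?_, ?_⟩
  rotate_left
  · rintro _ ⟨v, rfl⟩
    refine ⟨-(φ y⁻¹ (φ a v)), ?_⟩
    rw [hTv, hTv, map_neg, ← happ y y⁻¹, mul_inv_cancel, map_one, map_sub,
      show φ a (φ y v) = φ y⁻¹ (φ a v) from by
        rw [← happ, ← happ, ← hinv, mul_assoc (a * y), inv_mul_cancel, mul_one]]
    show -(φ a v) - -(φ y⁻¹ (φ a v)) = _
    abel
  · rintro _ ⟨v, rfl⟩
    exact ⟨φ y v, by rw [hTv, hTv, map_sub]⟩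
  · by_contra h
    push Not at h
    refine hy1 (eq_one_of_stabilizes hV φ hφ (Nat.coprime_two_right.mpr hodd) h fun v => ⟨v, rfl⟩)
  have hker : fixSub φ (Subgroup.zpowers a) ⊓
      (fixSub φ (Subgroup.zpowers a)).map (φ x : V →+ V) ≤ T.ker := by
    rintro w ⟨hw, u, hu, rfl⟩
    rw [AddMonoidHom.mem_ker, hTv, sub_eq_zero, hy, happ]
    have h1 : φ a' (φ x u) = φ x u := by
      rw [← happ, ha', inv_mul_cancel_right, happ, hu a (Subgroup.mem_zpowers a)]
    exact (congrArg (φ a) h1).trans (hw a (Subgroup.mem_zpowers a))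
  set F := fixSub φ (Subgroup.zpowers a) with hF
  have hinj : Function.Injective (φ x : V →+ V) := Function.LeftInverse.injective
    (g := φ x⁻¹) fun v => by
      show φ x⁻¹ (φ x v) = v
      rw [← happ, inv_mul_cancel, map_one]
      rfl
  have hF' : Nat.card (F.map (φ x : V →+ V)) = Nat.card F :=
    AddSubgroup.card_map_of_injective hinj
  have hidx : ∀ H : AddSubgroup V, Nat.card F ≤ Nat.card H → H.index ≤ 2 := fun H hH => by
    have h1 := H.card_mul_index
    have h2 : 0 < Nat.card H := Nat.card_pos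
    refine Nat.le_of_mul_le_mul_left ?_ h2
    rw [h1, mul_comm]
    exact htr.trans (Nat.mul_le_mul_left _ hH)
  have h4 : T.ker.index ≤ 4 := by
    refine (Nat.le_of_dvd (Nat.pos_of_ne_zero ?_) (AddSubgroup.index_dvd_of_le hker)).trans ?_
    · exact AddSubgroup.index_ne_zero_of_finite
    · exact (AddSubgroup.index_inf_le).trans
        (Nat.mul_le_mul (hidx F le_rfl) (hidx _ hF'.ge))
  rw [AddSubgroup.index_ker] at h4
  obtain ⟨n, hn⟩ := isPGroup_addSubgroup_card (p := 2) hV T.range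
  rw [hn] at h4 ⊢
  have hn2 : n ≤ 2 := (Nat.pow_le_pow_iff_right one_lt_two).mp h4
  have : n ≠ 0 ∧ n ≠ 1 := by
    constructor
    · rintro rfl
      rw [pow_zero, AddSubgroup.card_eq_one, AddMonoidHom.range_eq_bot_iff] at hn
      exact hy1 (hφ (by rw [map_one, ← sub_eq_zero]; exact hn))
    · rintro rfl
      refine hy1 (eq_one_of_stabilizes hV φ hφ (Nat.coprime_two_right.mpr hodd) (W := T.range)
        (fun w hw => ?_) fun v => ⟨v, rfl⟩)
      rw [pow_one] at hn
      have hw' : φ y w ∈ T.range := by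
        obtain ⟨v, rfl⟩ := hw
        exact ⟨φ y v, by rw [hTv, hTv, map_sub]⟩
      rcases eq_or_ne w 0 with rfl | hw0
      · rw [map_zero]
      obtain ⟨⟨z, hz⟩, ⟨z', hz'⟩, hne, huniv⟩ := Nat.card_eq_two_iff.mp hn
      have hall : ∀ t ∈ T.range, t = 0 ∨ t = w := by
        intro t ht
        have hm : ∀ s ∈ T.range, s = z ∨ s = z' := fun s hs => by
          have : (⟨s, hs⟩ : T.range) ∈ ({⟨z, hz⟩, ⟨z', hz'⟩} : Set _) := huniv ▸ Set.mem_univ _
          simpa using this
        rcases hm 0 (zero_mem _) with h | h <;> rcases hm w hw with h' | h' <;>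
          rcases hm t ht with h'' | h'' <;> simp_all
      refine (hall _ hw').resolve_left fun h => hw0 ?_
      rw [← inv_mul_cancel y] at *
      have := congrArg (φ y⁻¹) h
      rwa [map_zero, ← happ, inv_mul_cancel, map_one] at this
  rw [show n = 2 by omega]
  norm_num

end CfsgLib.Offender
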