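import Mathlib
import Cfsg.Prelude.Def_LocalEven
import Cfsg.Agent.Lib.Coprime.Action

/-!
Sections: `Involves` passes to overgroups and preimages; recognition of an `S₄`-section from a
four-subgroup with full automizer.
-/

set_option autoImplicit false
set_option linter.style.haveILetI false

namespace CfsgLib.Offender

theorem involves_of_hom {H : Type*} [Group H] {G : Type*} [Group G] {K : Subgroup G} (ψ : K →* H)
    (hψ : Function.Surjective ψ) : Cfsg.Involves H G := by
  set R := ψ.ker.map K.subtype with hR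
  have hsub : R.subgroupOf K = ψ.ker :=
    Subgroup.comap_map_eq_self_of_injective K.subtype_injective ψ.ker
  haveI hn : (R.subgroupOf K).Normal := hsub ▸ inferInstance
  exact ⟨K, R, hn, ⟨(QuotientGroup.quotientMulEquivOfEq hsub).trans
    (QuotientGroup.quotientKerEquivOfSurjective ψ hψ)⟩⟩

theorem exists_hom_of_involves {H : Type*} [Group H] {G : Type*} [Group G]
    (h : Cfsg.Involves H G) : ∃ (K : Subgroup G) (ψ : K →* H), Function.Surjective ψ := by
  obtain ⟨K, R, hn, ⟨e⟩⟩ := h
  exact ⟨K, e.toMonoidHom.comp (QuotientGroup.mk' _),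
    e.surjective.comp (QuotientGroup.mk'_surjective _)⟩

theorem involves_of_injective {H : Type*} [Group H] {G G' : Type*} [Group G] [Group G']
    (f : G →* G') (hf : Function.Injective f) (h : Cfsg.Involves H G) : Cfsg.Involves H G' := by
  obtain ⟨K, ψ, hψ⟩ := exists_hom_of_involves h
  let e := K.equivMapOfInjective f hf
  exact involves_of_hom (ψ.comp e.symm.toMonoidHom) (hψ.comp e.symm.surjective)

theorem involves_of_surjective {H : Type*} [Group H] {G G' : Type*} [Group G] [Group G']
    (f : G →* G') (hf : Function.Surjective f) (h : Cfsg.Involves H G') : Cfsg.Involves H G := by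
  obtain ⟨K, ψ, hψ⟩ := exists_hom_of_involves h
  exact involves_of_hom (ψ.comp (f.subgroupComap K)) (hψ.comp
    (f.subgroupComap_surjective_of_surjective K hf))

/-- A group of order `24` with a subgroup of index `4` and trivial core is `S₄`. -/
theorem nonempty_mulEquiv_perm_four {K : Type*} [Group K] [Finite K] (hK : Nat.card K = 24)
    (H : Subgroup K) (hH : H.index = 4) (hcore : H.normalCore = ⊥) :
    Nonempty (K ≃* Equiv.Perm (Fin 4)) := by
  classical
  let e : K ⧸ H ≃ Fin 4 := (Finite.equivFinOfCardEq hH)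
  let f : K →* Equiv.Perm (Fin 4) := e.permCongrHom.toMonoidHom.comp (MulAction.toPermHom K (K ⧸ H))
  have hinj : Function.Injective f := e.permCongrHom.injective.comp (by
    rw [← MonoidHom.ker_eq_bot_iff, ← Subgroup.normalCore_eq_ker, hcore])
  refine ⟨MulEquiv.ofBijective f ?_⟩
  haveI := Fintype.ofFinite K
  rw [Fintype.bijective_iff_injective_and_card]
  refine ⟨hinj, ?_⟩
  rw [← Nat.card_eq_fintype_card, hK, Fintype.card_perm, Fintype.card_fin]
  rfl

theorem card_mulAut_le_six (V : Type*) [Group V] (hV : Nat.card V = 4) :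
    Nat.card (MulAut V) ≤ 6 := by
  classical
  haveI : Finite V := Nat.finite_of_card_ne_zero (by rw [hV]; norm_num)
  haveI := Fintype.ofFinite V
  have h : Nat.card (Equiv.Perm {v : V // v ≠ 1}) = 6 := by
    have hc : Fintype.card {v : V // v ≠ 1} = 3 := by
      rw [Fintype.card_subtype_compl, Fintype.card_subtype_eq, ← Nat.card_eq_fintype_card, hV]
    rw [Nat.card_eq_fintype_card, Fintype.card_perm, hc]
    rfl
  rw [← h]
  refine Nat.card_le_card_of_injective
    (fun φ : MulAut V => (Equiv.Perm.subtypePerm φ.toEquiv (fun v => by simp) :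
      Equiv.Perm {v : V // v ≠ 1})) fun φ ψ hφψ => MulEquiv.ext fun v => ?_
  rcases eq_or_ne v 1 with rfl | hv
  · rw [map_one, map_one]
  · exact congrArg Subtype.val (DFunLike.congr_fun hφψ ⟨v, hv⟩)

/-- A four-subgroup whose normalizer induces all of `S₃` gives an `S₄`-section. -/
theorem involves_perm_four {G : Type*} [Group G] [Finite G] {V : Subgroup G}
    (hV : Nat.card V = 4) {a y : G}
    (ha : a ∈ Subgroup.normalizer (V : Set G)) (hy : y ∈ Subgroup.normalizer (V : Set G))
    (hinv : ∀ v ∈ V, (a * y * a⁻¹) * v * (a * y * a⁻¹)⁻¹ = y⁻¹ * v * y)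
    (hmove : ∃ v ∈ V, y * v * y⁻¹ ≠ v)
    (hodd : ∃ n, Odd n ∧ ∀ v ∈ V, y ^ n * v * (y ^ n)⁻¹ = v) :
    Cfsg.Involves (Equiv.Perm (Fin 4)) G := by
  classical
  haveI : Fact (Nat.Prime 3) := ⟨Nat.prime_three⟩
  set L := Subgroup.normalizer (V : Set G) with hL
  let θ : L →* MulAut V := V.normalizerMonoidHom
  have hθ : ∀ (g : L) (v : V), ((θ g v : V) : G) = g * v * (g : G)⁻¹ := fun _ _ => rfl
  set ty := θ ⟨y, hy⟩ with hty
  set ta := θ ⟨a, ha⟩ with hta
  have hty1 : ty ≠ 1 := by
    obtain ⟨v, hv, hne⟩ := hmove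
    exact fun h => hne (by
      have := congrArg (fun φ : MulAut V => ((φ ⟨v, hv⟩ : V) : G)) h
      simpa [hty, hθ] using this)
  have hinv' : ta * ty * ta⁻¹ = ty⁻¹ := by
    rw [hta, hty, ← map_inv θ, ← map_mul, ← map_mul, ← map_inv θ]
    refine MulEquiv.ext fun v => Subtype.ext ?_
    rw [hθ, hθ]
    simpa using hinv v v.2
  have hoy : Odd (orderOf ty) := by
    obtain ⟨n, hn, hfixn⟩ := hodd
    refine hn.of_dvd_nat (orderOf_dvd_of_pow_eq_one ?_)
    rw [hty, ← map_pow]
    refine MulEquiv.ext fun v => Subtype.ext ?_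
    rw [hθ]
    exact hfixn v v.2
  have hle := card_mulAut_le_six V hV
  set Θ := θ.range with hΘ
  have hty' : ty ∈ Θ := ⟨_, rfl⟩
  have hΘle : Nat.card Θ ≤ 6 := le_trans (Subgroup.card_le_card_group _) hle
  have h3 : orderOf ty = 3 := by
    have h1 : orderOf ty ≤ 6 := (orderOf_le_card.trans_eq' rfl).trans hle
    have h2 : orderOf ty ≠ 1 := fun h => hty1 (orderOf_eq_one_iff.mp h)
    obtain ⟨k, hk⟩ := hoy
    by_contra h
    have h5 : orderOf ty = 5 := by omega
    have h6 : Nat.card Θ = 5 ∨ 5 < Nat.card Θ := by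
      have := Nat.le_of_dvd Nat.card_pos (h5 ▸ Θ.orderOf_dvd_natCard hty')
      omega
    have h7 : 5 ∣ Nat.card Θ := h5 ▸ Θ.orderOf_dvd_natCard hty'
    have h8 : Nat.card Θ = 5 := by omega
    have h9 : IsCyclic Θ := isCyclic_of_prime_card (hp := ⟨by norm_num⟩) h8
    have h10 : ta * ty = ty * ta := by
      have := mul_comm' (⟨ta, ⟨_, rfl⟩⟩ : Θ) ⟨ty, hty'⟩
      exact congrArg Subtype.val this
    rw [h10, mul_inv_cancel_right] at hinv'
    have : ty ^ 2 = 1 := by
      rw [pow_two]
      nth_rw 2 [hinv']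
      exact mul_inv_cancel ty
    have := Nat.le_of_dvd two_pos (orderOf_dvd_of_pow_eq_one this)
    omega
  have hΘ6 : Nat.card Θ = 6 := by
    have h1 : 3 ∣ Nat.card Θ := h3 ▸ Θ.orderOf_dvd_natCard hty'
    have h2 : Nat.card Θ ≠ 3 := by
      intro h8
      have h9 : IsCyclic Θ := isCyclic_of_prime_card (hp := ⟨Nat.prime_three⟩) h8
      have h10 : ta * ty = ty * ta := by
        have := mul_comm' (⟨ta, ⟨_, rfl⟩⟩ : Θ) ⟨ty, hty'⟩
        exact congrArg Subtype.val this
      rw [h10, mul_inv_cancel_right] at hinv'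
      have : ty ^ 2 = 1 := by
        rw [pow_two]
        nth_rw 2 [hinv']
        exact mul_inv_cancel ty
      have := Nat.le_of_dvd two_pos (orderOf_dvd_of_pow_eq_one this)
      omega
    have := Nat.card_pos (α := Θ)
    omega
  -- the preimage of the subgroup of order three is normal of index two
  let T : Subgroup Θ := Subgroup.zpowers ⟨ty, hty'⟩
  have hT : Nat.card T = 3 := by
    rw [Nat.card_zpowers, ← Subgroup.orderOf_coe]; exact h3
  haveI hTn : T.Normal := Subgroup.normal_of_index_eq_two (by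
    have := T.card_mul_index
    rw [hT, hΘ6] at this
    omega)
  let M : Subgroup L := T.comap θ.rangeRestrict
  haveI : M.Normal := hTn.comap _
  let R : Sylow 3 M := default
  set R' := (R : Subgroup M).map M.subtype with hR'
  have hR'map : R'.map θ.rangeRestrict = T := by
    let g : M →* T := θ.rangeRestrict.subgroupComap T
    have hg : Function.Surjective g :=
      θ.rangeRestrict.subgroupComap_surjective_of_surjective T θ.rangeRestrict_surjective
    have h1 : (R : Subgroup M).map g = ⊤ := by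
      have h2 := (R.mapSurjective hg).card_eq_multiplicity
      rw [hT, Nat.Prime.factorization_self Nat.prime_three, pow_one,
        Sylow.coe_mapSurjective] at h2
      exact Subgroup.eq_top_of_card_eq _ (h2.trans hT.symm)
    rw [hR', Subgroup.map_map,
      show θ.rangeRestrict.comp M.subtype = T.subtype.comp g from rfl, ← Subgroup.map_map, h1,
      ← MonoidHom.range_eq_map, Subgroup.range_subtype]
  set H := Subgroup.normalizer (R' : Set L) with hH
  have hfr : H ⊔ M = ⊤ := Sylow.normalizer_sup_eq_top R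
  have hHmap : H.map θ.rangeRestrict = ⊤ := by
    rw [eq_top_iff]
    have h1 : (H ⊔ M).map θ.rangeRestrict = ⊤ := by
      rw [hfr, Subgroup.map_top_of_surjective _ θ.rangeRestrict_surjective]
    have h2 : M.map θ.rangeRestrict ≤ H.map θ.rangeRestrict := by
      refine le_trans (Subgroup.map_comap_le _ T) ?_
      rw [← hR'map]
      exact Subgroup.map_mono Subgroup.le_normalizer
    rw [← h1, Subgroup.map_sup, sup_eq_left.mpr h2]
  set VL : Subgroup L := V.subgroupOf L with hVL
  haveI hVLn : VL.Normal := Subgroup.normal_subgroupOf_iff_le_normalizer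
    (Subgroup.le_normalizer : V ≤ L) |>.mpr le_rfl
  -- H meets V trivially
  have hfix : ∀ v : V, ty v = v → v = 1 := by
    intro v hv
    by_contra hne
    have hcyc : (Subgroup.zpowers ty : Subgroup (MulAut V)) ≤ (MulAction.stabilizer (MulAut V) v) :=
      Subgroup.zpowers_le.mpr hv
    haveI : Finite V := Nat.finite_of_card_ne_zero (by rw [hV]; norm_num)
    haveI := Fintype.ofFinite V
    have hfixT : ∀ w : V, ty (ty (ty w)) = w := fun w => by
      have := pow_orderOf_eq_one ty
      rw [h3, pow_succ, pow_two] at this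
      exact DFunLike.congr_fun this w
    obtain ⟨w, hw⟩ : ∃ w, ty w ≠ w := by
      by_contra h; push Not at h; exact hty1 (MulEquiv.ext h)
    have hw1 : w ≠ 1 := fun h => hw (by rw [h, map_one])
    have hd : ({1, v, w, ty w, ty (ty w)} : Finset V).card = 5 := by
      have e1 : ∀ u, ty u = 1 → u = 1 := fun u h => ty.injective (h.trans (map_one ty).symm)
      have e2 : ty (ty w) ≠ w := fun h => hw ((congrArg ty h).symm.trans (hfixT w))
      have e3 : ty (ty w) ≠ ty w := fun h => hw (ty.injective h)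
      have e4 : v ≠ w := fun h => hw (h ▸ hv)
      have e5 : v ≠ ty w := fun h => e4 (ty.injective (hv.trans h))
      have e6 : v ≠ ty (ty w) := fun h => e5 (ty.injective (hv.trans h))
      have e7 : ty w ≠ 1 := fun h => hw1 (e1 _ h)
      have e8 : ty (ty w) ≠ 1 := fun h => e7 (e1 _ h)
      have h1 : (1 : V) ∉ ({v, w, ty w, ty (ty w)} : Finset V) := by
        simp [Ne.symm hne, hw1.symm, e7.symm, e8.symm]
      have h2 : v ∉ ({w, ty w, ty (ty w)} : Finset V) := by simp [e4, e5, e6]
      have h3 : w ∉ ({ty w, ty (ty w)} : Finset V) := by simp [hw.symm, e2.symm]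
      have h4 : ty w ∉ ({ty (ty w)} : Finset V) := by simp [e3.symm]
      rw [Finset.card_insert_of_notMem h1, Finset.card_insert_of_notMem h2,
        Finset.card_insert_of_notMem h3, Finset.card_insert_of_notMem h4, Finset.card_singleton]
    have := Finset.card_le_univ ({1, v, w, ty w, ty (ty w)} : Finset V)
    rw [hd, ← Nat.card_eq_fintype_card, hV] at this
    omega
  have hHV : H ⊓ VL = ⊥ := by
    rw [eq_bot_iff]
    intro x hx
    obtain ⟨hxH, hxV⟩ := Subgroup.mem_inf.mp hx
    rw [Subgroup.mem_bot]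
    obtain ⟨r, hr, hrt⟩ : ∃ r ∈ R', θ.rangeRestrict r = ⟨ty, hty'⟩ := by
      have : (⟨ty, hty'⟩ : Θ) ∈ R'.map θ.rangeRestrict := hR'map ▸ Subgroup.mem_zpowers _
      exact this
    have h1 : x * r * x⁻¹ * r⁻¹ ∈ R' :=
      mul_mem ((Subgroup.mem_normalizer_iff.mp hxH r).mp hr) (inv_mem hr)
    have h2 : x * r * x⁻¹ * r⁻¹ ∈ VL := by
      rw [show x * r * x⁻¹ * r⁻¹ = x * (r * x⁻¹ * r⁻¹) by group]
      exact mul_mem hxV (hVLn.conj_mem _ (inv_mem hxV) r)
    have h3' : x * r * x⁻¹ * r⁻¹ = 1 := by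
      obtain ⟨k, hk⟩ := (R.2.map M.subtype) ⟨_, h1⟩
      have hk' : orderOf (x * r * x⁻¹ * r⁻¹) ∣ 3 ^ k :=
        orderOf_dvd_of_pow_eq_one (congrArg Subtype.val hk)
      have h4 : orderOf (x * r * x⁻¹ * r⁻¹) ∣ 4 := by
        have := VL.orderOf_dvd_natCard h2
        rwa [Nat.card_congr (Subgroup.subgroupOfEquivOfLe (Subgroup.le_normalizer : V ≤ L)).toEquiv,
          hV] at this
      rw [← orderOf_eq_one_iff]
      exact Nat.eq_one_of_dvd_coprimes (Nat.Coprime.pow_left k (by norm_num)) hk' h4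
    have h5 : (⟨(x : G), hxV⟩ : V) = 1 := by
      refine hfix _ ?_
      have h7 : θ r = ty := congrArg Subtype.val hrt
      rw [← h7]
      apply Subtype.ext
      rw [hθ]
      have h6 := congrArg Subtype.val h3'
      simp only [Subgroup.coe_mul, Subgroup.coe_inv, Subgroup.coe_one] at h6
      rw [mul_inv_eq_one, mul_inv_eq_iff_eq_mul] at h6
      show (r : G) * x * (r : G)⁻¹ = x
      rw [← h6, mul_inv_cancel_right]
    exact Subtype.ext (congrArg Subtype.val h5 :)
  -- the section
  let K : Subgroup L := VL ⊔ H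
  let C : Subgroup K := ((H ⊓ θ.ker) : Subgroup L).subgroupOf K
  haveI hCn : C.Normal := by
    refine (Subgroup.normal_subgroupOf_iff_le_normalizer
      (inf_le_left.trans le_sup_right : H ⊓ θ.ker ≤ K)).mpr (sup_le ?_ ?_)
    · intro x hx
      refine Subgroup.centralizer_le_normalizer _ fun c hc' => ?_
      have h1 := congrArg (fun φ : MulAut V => ((φ ⟨(x : G), hx⟩ : V) : G))
        (MonoidHom.mem_ker.mp (Subgroup.mem_inf.mp hc').2)
      simp only [hθ, MulAut.one_apply] at h1
      exact Subtype.ext (mul_inv_eq_iff_eq_mul.mp h1)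
    · exact Coprime.le_normalizer_inf_of_le Subgroup.le_normalizer
        Subgroup.le_normalizer_of_normal
  let π := QuotientGroup.mk' C
  have hπ : Function.Surjective π := QuotientGroup.mk'_surjective C
  let Hb : Subgroup (K ⧸ C) := (H.subgroupOf K).map π
  have hcardK : Nat.card K = 4 * Nat.card H := by
    have h1 := Coprime.card_sup_mul_card_inf (K := VL) (S := H) Subgroup.le_normalizer_of_normal
    rwa [inf_comm, hHV, Subgroup.card_bot, mul_one,
      Nat.card_congr (Subgroup.subgroupOfEquivOfLe (Subgroup.le_normalizer : V ≤ L)).toEquiv,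
      hV] at h1
  have hcardC : Nat.card C * 6 = Nat.card H := by
    let g : H →* Θ := θ.rangeRestrict.comp H.subtype
    have hg : Function.Surjective g := fun t => by
      obtain ⟨x, hx, rfl⟩ := (hHmap ▸ Subgroup.mem_top t : t ∈ H.map θ.rangeRestrict)
      exact ⟨⟨x, hx⟩, rfl⟩
    have h1 := g.ker.card_mul_index
    rw [Subgroup.index_ker, MonoidHom.range_eq_top.mpr hg, Subgroup.card_top, hΘ6] at h1
    rw [← h1]
    congr 1
    rw [Nat.card_congr (Subgroup.subgroupOfEquivOfLe
      (inf_le_left.trans le_sup_right : H ⊓ θ.ker ≤ K)).toEquiv]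
    have h2 : g.ker = (H ⊓ θ.ker).subgroupOf H := by
      ext x
      simp [g, Subgroup.mem_subgroupOf, MonoidHom.ker_rangeRestrict, ← Subtype.coe_inj]
    rw [h2, Nat.card_congr (Subgroup.subgroupOfEquivOfLe inf_le_left).toEquiv]
  have hcard24 : Nat.card (K ⧸ C) = 24 := by
    have h1 := C.card_mul_index
    rw [hcardK, ← hcardC, Subgroup.index] at h1
    have := Nat.card_pos (α := C)
    nlinarith
  have hidx : Hb.index = 4 := by
    rw [Subgroup.index_map_eq _ hπ (by
      rw [QuotientGroup.ker_mk']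
      exact Subgroup.comap_mono inf_le_left)]
    have h1 := (H.subgroupOf K).card_mul_index
    rw [Nat.card_congr (Subgroup.subgroupOfEquivOfLe (le_sup_right : H ≤ K)).toEquiv, hcardK,
      mul_comm 4] at h1
    exact Nat.eq_of_mul_eq_mul_left Nat.card_pos h1
  have hcore : Hb.normalCore = ⊥ := by
    rw [eq_bot_iff]
    intro q hq
    obtain ⟨k, hk, rfl⟩ := Subgroup.normalCore_le _ hq
    have hkH : (k : L) ∈ H := hk
    rw [Subgroup.mem_bot, QuotientGroup.mk'_apply, QuotientGroup.eq_one_iff]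
    refine Subgroup.mem_inf.mpr ⟨hkH, MonoidHom.mem_ker.mpr (MulEquiv.ext fun v => ?_)⟩
    have hvL : (v : G) ∈ L := Subgroup.le_normalizer v.2
    let vK : K := ⟨⟨v, hvL⟩, le_sup_left (a := VL) v.2⟩
    have h1 := (Hb.normalCore_normal).conj_mem _ hq (π vK)
    rw [← map_inv, ← map_mul, ← map_mul] at h1
    have h2 : ((vK * k * vK⁻¹ : K) : L) ∈ H := by
      have h3 : vK * k * vK⁻¹ ∈ (H.subgroupOf K) := by
        have h4 := Subgroup.normalCore_le _ h1
        rw [← Subgroup.mem_comap, Subgroup.comap_map_eq, QuotientGroup.ker_mk',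
          sup_eq_left.mpr (show C ≤ H.subgroupOf K from Subgroup.comap_mono inf_le_left)] at h4
        exact h4
      exact h3
    have h5 : (⟨v, hvL⟩ : L) * k * (⟨v, hvL⟩ : L)⁻¹ * (k : L)⁻¹ = 1 := by
      rw [← Subgroup.mem_bot, ← hHV]
      refine Subgroup.mem_inf.mpr ⟨mul_mem h2 (inv_mem hkH), ?_⟩
      rw [show (⟨v, hvL⟩ : L) * k * (⟨v, hvL⟩ : L)⁻¹ * (k : L)⁻¹
        = ⟨v, hvL⟩ * ((k : L) * (⟨v, hvL⟩ : L)⁻¹ * (k : L)⁻¹) by group]
      exact mul_mem v.2 (hVLn.conj_mem _ (inv_mem (show (⟨v, hvL⟩ : L) ∈ VL from v.2)) _)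
    have h6 := congrArg Subtype.val h5
    simp only [Subgroup.coe_mul, Subgroup.coe_inv, Subgroup.coe_one] at h6
    rw [mul_inv_eq_one, mul_inv_eq_iff_eq_mul] at h6
    rw [MulAut.one_apply]
    apply Subtype.ext
    rw [hθ]
    show ((k : L) : G) * v * ((k : L) : G)⁻¹ = v
    rw [← h6, mul_inv_cancel_right]
  obtain ⟨e⟩ := nonempty_mulEquiv_perm_four hcard24 Hb hidx hcore
  exact involves_of_injective L.subtype L.subtype_injective
    (involves_of_hom (e.toMonoidHom.comp π) (e.surjective.comp hπ))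

end CfsgLib.Offender
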