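import Mathlib
import Cfsg.Agent.Lib.Offender.Basic
import Cfsg.Agent.Lib.Offender.Involves
import Cfsg.Agent.Lib.Transfer.ThompsonJ
import Cfsg.Agent.Lib.Transfer.Sylow
import Cfsg.Agent.Lib.PSolvable.Core

/-!
Thompson factorization of solvable `S₄`-free groups with Sylow `2`-subgroups of class two.
-/

set_option autoImplicit false
set_option linter.style.haveILetI false

namespace CfsgLib.Offender

open scoped commutatorElement

/-- An offender in a module of exponent two, normalizing an odd-order subgroup on which it acts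
faithfully, gives an involution inverting an element of order three and a four-subgroup of the
module on which both act non-trivially. -/
theorem exists_four_of_offender {X : Type*} [Group X] [Finite X] {V : Type*} [AddCommGroup V]
    [Finite V] [Nontrivial V] (hV : ∀ v : V, 2 • v = 0) (φ : X →* AddMonoid.End V)
    (hφ : Function.Injective φ) {A Y : Subgroup X} (hA1 : A ≠ ⊥) (hAp : IsPGroup 2 A)
    (hAc : ∀ a ∈ A, ∀ b ∈ A, a * b = b * a) (hY : (Nat.card Y).Coprime 2)
    (hAY : A ≤ Subgroup.normalizer (Y : Set X)) (hAC : A ⊓ Subgroup.centralizer (Y : Set X) = ⊥)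
    (hoff : Nat.card V ≤ Nat.card A * Nat.card (fixSub φ A)) :
    ∃ a y : X, ∃ V₁ : AddSubgroup V, Nat.card V₁ = 4 ∧ Odd (orderOf y) ∧
      a * y * a⁻¹ = y⁻¹ ∧ (∀ v ∈ V₁, φ a v ∈ V₁) ∧ (∀ v ∈ V₁, φ y v ∈ V₁) ∧
      ∃ v ∈ V₁, φ y v ≠ v := by
  classical
  haveI : Fact (Nat.Prime 2) := ⟨Nat.prime_two⟩
  obtain ⟨a, haA, ha1, ha2, hat⟩ := exists_transvection hV φ hφ hA1 hAp hAc hY hAY hAC hoff
  have happ : ∀ (x x' : X) (v : V), φ (x * x') v = φ x (φ x' v) := fun x x' v => by
    rw [map_mul]; rfl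
  have hainv : a⁻¹ = a := inv_eq_of_mul_eq_one_right ha2
  obtain ⟨f, hf, hfa⟩ : ∃ f ∈ Y, f * a ≠ a * f := by
    by_contra! h
    exact ha1 (Subgroup.mem_bot.mp (hAC ▸ Subgroup.mem_inf.mpr
      ⟨haA, fun y hy => h y hy⟩))
  set y := f * a * f⁻¹ * a with hy
  have hyY : y ∈ Y := by
    rw [hy, show f * a * f⁻¹ * a = f * (a * f⁻¹ * a) by group]
    nth_rw 2 [← hainv]
    exact mul_mem hf ((Subgroup.mem_normalizer_iff.mp (hAY haA) _).mp (inv_mem hf))
  have hy1 : y ≠ 1 := fun h => hfa (by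
    rw [hy, mul_eq_one_iff_eq_inv, hainv, mul_inv_eq_iff_eq_mul] at h
    exact h)
  have hyinv : a * y * a⁻¹ = y⁻¹ := by
    rw [hy, mul_inv_rev, mul_inv_rev, mul_inv_rev, inv_inv, hainv,
      show a * (f * a * f⁻¹ * a) * a = a * (f * a * f⁻¹) * (a * a) by group, ha2, mul_one]
    group
  have hodd : Odd (orderOf y) :=
    (Nat.coprime_two_right.mp hY).of_dvd_nat (Y.orderOf_dvd_natCard hyY)
  -- the common fixed points
  set W₁ := fixSub φ (Subgroup.zpowers a) with hW₁
  let φf : V →+ V := φ f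
  have hφf : Function.Injective φf := fun u v h => by
    have h2 : φ f u = φ f v := h
    have h' := congrArg (φ f⁻¹) h2
    rwa [← happ, ← happ, inv_mul_cancel, map_one] at h'
  set W₂ := W₁.map φf with hW₂
  set C := W₁ ⊓ W₂ with hC
  have hfixa : ∀ v ∈ W₁, φ a v = v := fun v hv => hv a (Subgroup.mem_zpowers a)
  have hfixb : ∀ v ∈ W₂, φ (f * a * f⁻¹) v = v := by
    rintro _ ⟨w, hw, rfl⟩
    show φ (f * a * f⁻¹) (φ f w) = φ f w
    rw [← happ, inv_mul_cancel_right, happ, hfixa w hw]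
  have hCy : ∀ v ∈ C, φ y v = v := fun v hv => by
    rw [hy, happ, hfixa v (AddSubgroup.mem_inf.mp hv).1, hfixb v (AddSubgroup.mem_inf.mp hv).2]
  have hidx : C.index ≤ 4 := by
    have h1 : W₁.index ≤ 2 := by
      have h := W₁.card_mul_index
      by_contra hcon
      have : Nat.card W₁ * 3 ≤ Nat.card W₁ * W₁.index := Nat.mul_le_mul_left _ (by omega)
      have hpos : 0 < Nat.card W₁ := Nat.card_pos
      omega
    have h2 : W₂.index = W₁.index := by
      have e1 := W₁.card_mul_index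
      have e2 := W₂.card_mul_index
      rw [hW₂, AddSubgroup.card_map_of_injective hφf, ← e1] at e2
      exact Nat.eq_of_mul_eq_mul_left Nat.card_pos e2
    calc C.index ≤ W₁.index * W₂.index := AddSubgroup.index_inf_le
      _ ≤ 2 * 2 := Nat.mul_le_mul h1 (h2 ▸ h1)
  -- the cube of `y` stabilizes the chain `0 ≤ C ≤ V`
  let σ : Equiv.Perm (V ⧸ C) :=
    { toFun := QuotientAddGroup.map C C (φ y) (fun v hv => by
        show φ y v ∈ C
        rw [hCy v hv]; exact hv)
      invFun := QuotientAddGroup.map C C (φ y⁻¹) (fun v hv => by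
        show φ y⁻¹ v ∈ C
        nth_rw 1 [← hCy v hv]
        rw [← happ, inv_mul_cancel, map_one]; exact hv)
      left_inv := fun q => by
        induction q using QuotientAddGroup.induction_on with
        | _ v =>
          show ((φ y⁻¹ (φ y v) : V) : V ⧸ C) = _
          rw [← happ, inv_mul_cancel, map_one]; rfl
      right_inv := fun q => by
        induction q using QuotientAddGroup.induction_on with
        | _ v =>
          show ((φ y (φ y⁻¹ v) : V) : V ⧸ C) = _
          rw [← happ, mul_inv_cancel, map_one]; rfl }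
  have hσ : ∀ n : ℕ, ∀ v : V, (σ ^ n) (v : V ⧸ C) = ((φ (y ^ n) v : V) : V ⧸ C) := by
    intro n
    induction n with
    | zero => intro v; simp
    | succ n ih =>
      intro v
      rw [pow_succ', Equiv.Perm.mul_apply, ih, pow_succ', happ]
      rfl
  have hσ3 : σ ^ 3 = 1 := by
    have h1 : σ ^ orderOf y = 1 := by
      refine Equiv.ext fun q => ?_
      induction q using QuotientAddGroup.induction_on with
      | _ v => rw [hσ, pow_orderOf_eq_one, map_one]; rfl
    have h2 : orderOf σ ∣ 24 := by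
      refine (orderOf_dvd_natCard σ).trans ?_
      rw [Nat.card_perm, show (24 : ℕ) = Nat.factorial 4 from rfl]
      exact Nat.factorial_dvd_factorial hidx
    have h3 : Nat.Coprime (orderOf σ) 8 :=
      (Nat.coprime_two_right.mpr (hodd.of_dvd_nat (orderOf_dvd_of_pow_eq_one h1))).pow_right 3
    exact orderOf_dvd_iff_pow_eq_one.mp (h3.dvd_of_dvd_mul_right (show orderOf σ ∣ 3 * 8 from h2))
  have hy3 : y ^ 3 = 1 := by
    refine eq_one_of_stabilizes (p := 2) hV φ hφ ?_ (W := C) (fun v hv => ?_) (fun v => ?_)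
    · exact Nat.Coprime.coprime_dvd_left (orderOf_pow_dvd 3) (Nat.coprime_two_right.mpr hodd)
    · rw [pow_succ, pow_two, happ, happ, hCy v hv, hCy v hv, hCy v hv]
    · rw [← QuotientAddGroup.eq_zero_iff, QuotientAddGroup.mk_sub, ← hσ, hσ3]
      exact sub_self _
  -- a four-subgroup
  obtain ⟨v, hv⟩ : ∃ v, φ y v ≠ v := by
    by_contra! h
    exact hy1 (hφ (by rw [map_one]; exact DFunLike.ext _ _ h))
  have hsum : ∀ u : V, u + u = 0 := fun u => (two_nsmul u).symm.trans (hV u)
  have hneg : ∀ u : V, -u = u := fun u => neg_eq_of_add_eq_zero_left (hsum u)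
  have hy3v : ∀ u, φ y (φ y (φ y u)) = u := fun u => by
    rw [← happ, ← happ, show y * y * y = y ^ 3 by rw [pow_succ, pow_two], hy3, map_one]
    rfl
  have hay : ∀ u, φ a (φ y u) = φ y (φ y (φ a u)) := fun u => by
    rw [← happ, ← happ, ← happ]
    congr 2
    have h2 : y * y = y⁻¹ := eq_inv_of_mul_eq_one_left (by rw [← pow_two, ← pow_succ]; exact hy3)
    calc a * y = a * y * a⁻¹ * a := by group
      _ = y * y * a := by rw [hyinv, h2]
  let T : V → V := fun u => u + φ y u + φ y (φ y u)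
  have hTy : ∀ u, T (φ y u) = T u := fun u => by
    show φ y u + φ y (φ y u) + φ y (φ y (φ y u)) = u + φ y u + φ y (φ y u)
    rw [hy3v]; abel
  have hTadd : ∀ u w, T (u + w) = T u + T w := fun u w => by
    show (u + w) + φ y (u + w) + φ y (φ y (u + w))
      = (u + φ y u + φ y (φ y u)) + (w + φ y w + φ y (φ y w))
    rw [map_add, map_add]; abel
  have hTa : ∀ u, T (φ a u) = φ a (T u) := fun u => by
    show φ a u + φ y (φ a u) + φ y (φ y (φ a u)) = φ a (u + φ y u + φ y (φ y u))
    rw [map_add, map_add, hay u, hay (φ y u), hay u, hy3v]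
    abel
  obtain ⟨w, hw0, hwT, hwa⟩ : ∃ w, w ≠ 0 ∧ T w = 0 ∧ φ a w = w := by
    have hT0 : T (v + φ y v) = 0 := by rw [hTadd, hTy, hsum]
    have hu0 : v + φ y v ≠ 0 := fun h => hv (by
      rw [add_eq_zero_iff_neg_eq, hneg] at h; exact h.symm)
    set u := v + φ y v
    by_cases hau : u + φ a u = 0
    · refine ⟨u, hu0, hT0, ?_⟩
      rw [add_eq_zero_iff_neg_eq, hneg] at hau
      exact hau.symm
    · refine ⟨u + φ a u, hau, by rw [hTadd, hTa, hT0, map_zero, add_zero], ?_⟩
      rw [map_add, ← happ, ha2, map_one]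
      exact add_comm _ _
  set w' := φ y w with hw'
  have hyw' : φ y w' = w + w' := by
    have h : w + w' + φ y w' = 0 := hwT
    rw [add_eq_zero_iff_neg_eq, hneg] at h
    exact h.symm
  have hw'0 : w' ≠ 0 := fun h => hw0 (by
    have := hy3v w
    rw [← hw', h, map_zero, map_zero] at this
    exact this.symm)
  have hww' : w' ≠ w := fun h => hw0 (by rw [h, hsum, ← hw', h] at hyw'; exact hyw')
  let V₁ : AddSubgroup V :=
    { carrier := {0, w, w', w + w'}
      zero_mem' := Or.inl rfl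
      add_mem' := by
        have e1 : w + (w + w') = w' := by rw [← add_assoc, hsum, zero_add]
        have e2 : w' + (w + w') = w := by rw [add_left_comm, hsum, add_zero]
        intro p q hp hq
        simp only [Set.mem_insert_iff, Set.mem_singleton_iff] at hp hq ⊢
        rcases hp with hp | hp | hp | hp <;> rcases hq with hq | hq | hq | hq <;>
          simp [hp, hq, hsum, e1, e2, add_comm w' w, add_comm (w + w')]
      neg_mem' := fun {p} hp => by rwa [hneg] }
  refine ⟨a, y, V₁, ?_, hodd, hyinv, ?_, ?_, ⟨w, Or.inr (Or.inl rfl), hww'⟩⟩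
  · have h1 : w + w' ≠ 0 := fun h => hww' (by
      rw [add_eq_zero_iff_neg_eq, hneg] at h; exact h.symm)
    have h2 : w + w' ≠ w := fun h => hw'0 (by simpa using h)
    have h3 : w + w' ≠ w' := fun h => hw0 (by simpa using h)
    change Nat.card ↥({0, w, w', w + w'} : Set V) = 4
    rw [Nat.card_coe_set_eq, Set.ncard_insert_of_notMem (by simp [hw0.symm, hw'0.symm, h1.symm]),
      Set.ncard_insert_of_notMem (by simp [hww'.symm, h2.symm]), Set.ncard_pair h3.symm]
  · have haw' : φ a w' = w + w' := by rw [hw', hay, hwa]; exact hyw'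
    rintro _ (rfl | rfl | rfl | rfl)
    · rw [map_zero]; exact Or.inl rfl
    · rw [hwa]; exact Or.inr (Or.inl rfl)
    · rw [haw']; exact Or.inr (Or.inr (Or.inr rfl))
    · rw [map_add, hwa, haw', ← add_assoc, hsum, zero_add]; exact Or.inr (Or.inr (Or.inl rfl))
  · rintro _ (rfl | rfl | rfl | rfl)
    · rw [map_zero]; exact Or.inl rfl
    · exact Or.inr (Or.inr (Or.inl rfl))
    · rw [hyw']; exact Or.inr (Or.inr (Or.inr rfl))
    · rw [map_add, hyw', ← hw', add_left_comm, hsum, add_zero]; exact Or.inr (Or.inl rfl)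

/-- A group in which only the identity has odd order is a `2`-group. -/
theorem isPGroup_two_of_forall {H : Type*} [Group H] [Finite H]
    (h : ∀ x : H, Odd (orderOf x) → x = 1) : IsPGroup 2 H := by
  intro x
  refine ⟨(orderOf x).factorization 2, h _ ?_⟩
  rw [orderOf_pow' x (pow_ne_zero _ two_ne_zero), Nat.gcd_eq_right (Nat.ordProj_dvd _ 2)]
  exact Nat.odd_iff.mpr (Nat.two_dvd_ne_zero.mp
    (Nat.not_dvd_ordCompl Nat.prime_two (orderOf_pos x).ne'))

universe u

/-- **Factorization.** In a solvable `S₄`-free group with trivial odd core and Sylow `2`-subgroups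
of class at most two, the Thompson subgroup is normal. -/
theorem thompsonJ_normal_of_class_two {G : Type u} [Group G] [Finite G] [Group.IsSolvable G]
    (hO : Cfsg.pPrimeCore 2 G = ⊥) (hS4 : ¬ Cfsg.Involves (Equiv.Perm (Fin 4)) G) (S : Sylow 2 G)
    (hcl : ∀ a ∈ (S : Subgroup G), ∀ b ∈ (S : Subgroup G), ∀ c ∈ (S : Subgroup G),
      Commute c (a * b * a⁻¹ * b⁻¹)) :
    (Transfer.thompsonJ 2 (S : Subgroup G)).Normal := by
  classical
  haveI : Fact (Nat.Prime 2) := ⟨Nat.prime_two⟩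
  set Q := Cfsg.pCore 2 G with hQdef
  haveI hQn : Q.Normal := Fitting.pCore_normal 2
  have hQp : IsPGroup 2 Q := Fitting.pCore_isPGroup 2
  have hCQ : Subgroup.centralizer (Q : Set G) ≤ Q :=
    PSolvable.centralizer_pCore_le (PSolvable.isPSolvable_of_isSolvable inferInstance) hO
  have hQS : Q ≤ (S : Subgroup G) :=
    le_sup_left.trans (S.3 (hQp.to_sup_of_normal_left S.2) le_sup_right).le
  by_cases hne : ∀ A ∈ Transfer.maxAbExp 2 (S : Subgroup G), A ≤ Q
  · have hJ : Transfer.thompsonJ 2 (S : Subgroup G) = Transfer.thompsonJ 2 Q := by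
      unfold Transfer.thompsonJ
      congr 1
      ext B
      refine ⟨fun hB => ⟨hne B hB, hB.2.1, fun C hC => hB.2.2 C (hC.trans hQS)⟩, fun hB => ?_⟩
      obtain ⟨C, hC⟩ := Transfer.thompsonJ_nonempty 2 (S : Subgroup G)
      exact ⟨hB.1.trans hQS, hB.2.1, fun D hD hDe =>
        (hC.2.2 D hD hDe).trans (hB.2.2 C (hne C hC) hC.2.1)⟩
    rw [hJ, ← Subgroup.normalizer_eq_top_iff, eq_top_iff, ← Subgroup.normalizer_eq_top Q]
    exact Transfer.normalizer_le_normalizer_thompsonJ 2 Q
  exfalso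
  push Not at hne
  obtain ⟨A, hA, hAQ⟩ := hne
  haveI : IsMulCommutative A := hA.2.1.1
  have hAS : A ≤ (S : Subgroup G) := hA.1
  -- the kernel of the action on `Q / Z(Q)`
  set Z := Q ⊓ Subgroup.centralizer (Q : Set G) with hZ
  haveI hZn : Z.Normal := Subgroup.normal_inf_normal _ _
  haveI : IsMulCommutative Z := ⟨⟨fun a b => Subtype.ext (b.2.2 a a.2.1)⟩⟩
  let M : Subgroup G :=
    { carrier := {g | ∀ q ∈ Q, g * q * g⁻¹ * q⁻¹ ∈ Z}
      one_mem' := fun q _ => by simp [one_mem]
      mul_mem' := fun {g h} hg hh q hq => by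
        rw [show g * h * q * (g * h)⁻¹ * q⁻¹
          = g * (h * q * h⁻¹ * q⁻¹) * g⁻¹ * (g * q * g⁻¹ * q⁻¹) by group]
        exact mul_mem (hZn.conj_mem _ (hh q hq) g) (hg q hq)
      inv_mem' := fun {g} hg q hq => by
        have hq' : g⁻¹ * q * g ∈ Q := by simpa using hQn.conj_mem q hq g⁻¹
        have h := inv_mem (hg _ hq')
        rwa [show (g * (g⁻¹ * q * g) * g⁻¹ * (g⁻¹ * q * g)⁻¹)⁻¹ = g⁻¹ * q * g⁻¹⁻¹ * q⁻¹ by group]
          at h }
  haveI hMn : M.Normal := ⟨fun g hg x q hq => by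
    have hq' : x⁻¹ * q * x ∈ Q := by simpa using hQn.conj_mem q hq x⁻¹
    have h := hZn.conj_mem _ (hg _ hq') x
    rwa [show x * (g * (x⁻¹ * q * x) * g⁻¹ * (x⁻¹ * q * x)⁻¹) * x⁻¹
      = x * g * x⁻¹ * q * (x * g * x⁻¹)⁻¹ * q⁻¹ by group] at h⟩
  have hSM : (S : Subgroup G) ≤ M := fun s hs q hq =>
    Subgroup.mem_inf.mpr ⟨mul_mem (hQn.conj_mem q hq s) (inv_mem hq),
      fun u hu => hcl s hs q (hQS hq) u (hQS hu)⟩
  -- the module
  let Vs : Subgroup G :=
    { carrier := {v | v ∈ Q ∧ v ∈ Subgroup.centralizer (Q : Set G) ∧ v ^ 2 = 1}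
      one_mem' := ⟨one_mem _, one_mem _, one_pow 2⟩
      mul_mem' := fun {a b} ha hb => ⟨mul_mem ha.1 hb.1, mul_mem ha.2.1 hb.2.1, by
        rw [Commute.mul_pow (hb.2.1 a ha.1), ha.2.2, hb.2.2, mul_one]⟩
      inv_mem' := fun {a} ha => ⟨inv_mem ha.1, inv_mem ha.2.1, by rw [inv_pow, ha.2.2, inv_one]⟩ }
  have hVcomm : ∀ u ∈ Vs, ∀ v ∈ Vs, u * v = v * u := fun u hu v hv => hv.2.1 u hu.1
  haveI hVn : Vs.Normal := ⟨fun v hv g => ⟨Subgroup.Normal.conj_mem inferInstance v hv.1 g,
    Subgroup.Normal.conj_mem inferInstance v hv.2.1 g, by rw [conj_pow, hv.2.2]; group⟩⟩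
  haveI : IsMulCommutative Vs := ⟨⟨fun a b => Subtype.ext (hVcomm a a.2 b b.2)⟩⟩
  letI : CommGroup Vs := { (inferInstance : Group Vs) with mul_comm := mul_comm' }
  have hexp : ∀ v : Additive Vs, 2 • v = 0 := fun v => Subtype.ext (Additive.toMul v).2.2.2
  -- faithfulness
  have hfaith : M ⊓ Subgroup.centralizer (Vs : Set G) ≤ Q := by
    set N0 := M ⊓ Subgroup.centralizer (Vs : Set G) with hN0
    haveI : N0.Normal := Subgroup.normal_inf_normal _ _
    refine Fitting.le_pCore inferInstance (isPGroup_two_of_forall fun x hx => ?_)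
    obtain ⟨d, hdN⟩ := x
    rw [Subgroup.orderOf_mk] at hx
    have hcop : (Nat.card (Subgroup.zpowers d)).Coprime (Nat.card Z) := by
      rw [Nat.card_zpowers]
      obtain ⟨k, hk⟩ := (hQp.to_le inf_le_left : IsPGroup 2 Z).exists_card_eq
      rw [hk]
      exact (Nat.coprime_two_right.mpr hx).pow_right k
    have hdZ : Subgroup.zpowers d ≤ Subgroup.centralizer (Z : Set G) := by
      refine Coprime.le_centralizer_of_prime_order Subgroup.le_normalizer_of_normal hcop
        fun v hv hprime a ha => ?_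
      have hv2 : v ^ 2 = 1 := by
        obtain ⟨k, hk⟩ := hQp ⟨v, (Subgroup.mem_inf.mp hv).1⟩
        have hk' : v ^ 2 ^ k = 1 := congrArg Subtype.val hk
        have h5 : orderOf v = 2 := (Nat.prime_dvd_prime_iff_eq hprime Nat.prime_two).mp
          (hprime.dvd_of_dvd_pow (orderOf_dvd_of_pow_eq_one hk'))
        rw [← h5, pow_orderOf_eq_one]
      have hdv : Commute d v := ((Subgroup.mem_inf.mp hdN).2 v
        ⟨(Subgroup.mem_inf.mp hv).1, (Subgroup.mem_inf.mp hv).2, hv2⟩).symm
      obtain ⟨i, rfl⟩ := Subgroup.mem_zpowers_iff.mp ha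
      exact (hdv.zpow_left i).eq
    have hdQ : d ∈ Subgroup.centralizer (Q : Set G) := by
      intro q hq
      set z := d * q * d⁻¹ * q⁻¹ with hz
      have hzZ : z ∈ Z := (Subgroup.mem_inf.mp hdN).1 q hq
      have hdz : z * d = d * z := hdZ (Subgroup.mem_zpowers d) z hzZ
      have hconj : ∀ n : ℕ, d ^ n * q * (d ^ n)⁻¹ = z ^ n * q := by
        intro n
        induction n with
        | zero => simp
        | succ n ih =>
          have hc : Commute d (z ^ n) := Commute.pow_right hdz.symm n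
          rw [pow_succ' d, show d * d ^ n * q * (d * d ^ n)⁻¹ = d * (d ^ n * q * (d ^ n)⁻¹) * d⁻¹
            by group, ih, ← mul_assoc, hc.eq, pow_succ, hz]
          group
      have h1 := hconj (orderOf d)
      rw [pow_orderOf_eq_one, one_mul, inv_one, mul_one] at h1
      have h1' : z ^ orderOf d = 1 := mul_eq_right.mp h1.symm
      obtain ⟨k, hk⟩ := hQp ⟨z, (Subgroup.mem_inf.mp hzZ).1⟩
      have hk' : z ^ 2 ^ k = 1 := congrArg Subtype.val hk
      have hz1 : z = 1 := orderOf_eq_one_iff.mp (Nat.eq_one_of_dvd_coprimes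
        ((Nat.coprime_two_right.mpr hx).pow_right k) (orderOf_dvd_of_pow_eq_one h1')
        (orderOf_dvd_of_pow_eq_one hk'))
      rw [hz, mul_inv_eq_one, mul_inv_eq_iff_eq_mul] at hz1
      exact hz1.symm
    obtain ⟨k, hk⟩ := hQp ⟨d, hCQ hdQ⟩
    have hk' : d ^ 2 ^ k = 1 := congrArg Subtype.val hk
    exact Subtype.ext (orderOf_eq_one_iff.mp (Nat.eq_one_of_dvd_coprimes
      ((Nat.coprime_two_right.mpr hx).pow_right k) dvd_rfl (orderOf_dvd_of_pow_eq_one hk')))
  have hQM : Q ≤ M := hQS.trans hSM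
  set Qm := Q.subgroupOf M with hQm
  set π := QuotientGroup.mk' Qm with hπ
  have hπs : Function.Surjective π := QuotientGroup.mk'_surjective Qm
  let φ₀ : M →* AddMonoid.End (Additive Vs) :=
    { toFun := fun g => MonoidHom.toAdditive ((MulAut.conjNormal (g : G) : MulAut Vs).toMonoidHom)
      map_one' := by rw [Subgroup.coe_one, map_one]; rfl
      map_mul' := fun g h => by rw [Subgroup.coe_mul, map_mul]; rfl }
  have hφ₀ : ∀ (g : M) (v : Additive Vs),
      ((Additive.toMul (φ₀ g v) : Vs) : G) = g * (Additive.toMul v : Vs) * (g : G)⁻¹ := fun g v =>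
    MulAut.conjNormal_apply (g : G) _
  have hkerQ : Qm ≤ φ₀.ker := fun g hg => by
    refine DFunLike.ext _ _ fun v => ?_
    apply Additive.toMul.injective
    apply Subtype.ext
    rw [hφ₀]
    show (g : G) * _ * (g : G)⁻¹ = ((Additive.toMul v : Vs) : G)
    rw [(Additive.toMul v : Vs).2.2.1 (g : G) hg, mul_inv_cancel_right]
  let φ : M ⧸ Qm →* AddMonoid.End (Additive Vs) := QuotientGroup.lift Qm φ₀ hkerQ
  have hφπ : ∀ g, φ (π g) = φ₀ g := fun g => rfl
  have hφinj : Function.Injective φ := by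
    rw [← MonoidHom.ker_eq_bot_iff, eq_bot_iff]
    intro x hx
    obtain ⟨g, rfl⟩ := hπs x
    rw [Subgroup.mem_bot, hπ, QuotientGroup.mk'_apply, QuotientGroup.eq_one_iff]
    refine Subgroup.mem_subgroupOf.mpr (hfaith ⟨g.2, fun v hv => ?_⟩)
    have h1 := hφ₀ g (Additive.ofMul ⟨v, hv⟩)
    rw [← hφπ, MonoidHom.mem_ker.mp hx] at h1
    exact mul_inv_eq_iff_eq_mul.mp h1.symm |>.symm
  -- the Fitting subgroup of the quotient has odd order
  have hO2 : Cfsg.pCore 2 (M ⧸ Qm) = ⊥ := by
    haveI := Fitting.pCore_normal (G := M ⧸ Qm) 2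
    have hp2 : IsPGroup 2 ((Cfsg.pCore 2 (M ⧸ Qm)).comap π) :=
      (Fitting.pCore_isPGroup 2).comap_of_ker_isPGroup π (by
        rw [hπ, QuotientGroup.ker_mk']
        exact hQp.of_equiv (Subgroup.subgroupOfEquivOfLe hQM).symm)
    have hle := (Subgroup.map_mono (f := M.subtype)
      (Fitting.le_pCore (inferInstance : ((Cfsg.pCore 2 (M ⧸ Qm)).comap π).Normal) hp2)).trans
      (PSolvable.map_pCore_le M)
    rw [eq_bot_iff]
    intro x hx
    obtain ⟨g, rfl⟩ := hπs x
    rw [Subgroup.mem_bot, hπ, QuotientGroup.mk'_apply, QuotientGroup.eq_one_iff]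
    exact Subgroup.mem_subgroupOf.mpr (hle ⟨g, hx, rfl⟩)
  set F := Cfsg.fittingSubgroup (M ⧸ Qm) with hF
  haveI : F.Normal := Fitting.fittingSubgroup_normal
  have hFodd : (Nat.card F).Coprime 2 := by
    haveI : Group.IsNilpotent F := Fitting.fittingSubgroup_isNilpotent
    let P : Sylow 2 F := default
    haveI hPn : (P : Subgroup F).Normal :=
      (((Group.isNilpotent_of_finite_tfae (G := F)).out 0 3 : Group.IsNilpotent F ↔ ∀ (r : ℕ) (_ : Fact r.Prime) (R : Sylow r F), (R : Subgroup F).Normal)).mp ‹Group.IsNilpotent F› 2 inferInstance P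
    haveI := Sylow.characteristic_of_normal P hPn
    have hP : (P : Subgroup F).map F.subtype ≤ Cfsg.pCore 2 (M ⧸ Qm) :=
      Fitting.le_pCore (PSolvable.normal_map_of_characteristic F (P : Subgroup F)) (P.2.map _)
    rw [hO2, le_bot_iff, Subgroup.map_eq_bot_iff_of_injective _ F.subtype_injective] at hP
    have h := P.card_eq_multiplicity
    rw [hP, Subgroup.card_bot] at h
    have h0 : (Nat.card F).factorization 2 = 0 := by
      rcases Nat.eq_zero_or_pos ((Nat.card F).factorization 2) with h' | h'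
      · exact h'
      · exact absurd h (Nat.one_lt_two_pow h'.ne').ne
    rw [Nat.coprime_two_right, ← Nat.not_even_iff_odd, even_iff_two_dvd]
    intro hd
    have := Nat.prime_two.factorization_pos_of_dvd Nat.card_pos.ne' hd
    omega
  -- cardinalities
  set Am := A.subgroupOf M with hAm
  set Ab := Am.map π with hAb
  have hAb1 : Ab ≠ ⊥ := fun h => hAQ fun a ha => by
    rw [hAb, Subgroup.map_eq_bot_iff, hπ, QuotientGroup.ker_mk'] at h
    exact Subgroup.mem_subgroupOf.mp (h (x := ⟨a, hSM (hAS ha)⟩) ha)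
  haveI : Nontrivial (Additive Vs) := by
    by_contra hnt
    rw [not_nontrivial_iff_subsingleton] at hnt
    refine hAb1 (eq_bot_iff.mpr fun x _ => ?_)
    rw [Subgroup.mem_bot]
    exact hφinj (DFunLike.ext _ _ fun v => Subsingleton.elim _ _)
  have hoff : Nat.card (Additive Vs) ≤ Nat.card Ab * Nat.card (fixSub φ Ab) := by
    have hW := Coprime.card_sup_mul_card_inf (K := Vs) (S := A ⊓ Q)
      Subgroup.le_normalizer_of_normal
    have hWmax : Nat.card ↥(Vs ⊔ (A ⊓ Q)) ≤ Nat.card A := by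
      refine hA.2.2 _ (sup_le (fun v hv => hQS hv.1) (inf_le_left.trans hAS)) ⟨⟨⟨?_⟩⟩, ?_⟩
      · rintro ⟨x, hx⟩ ⟨y, hy⟩
        obtain ⟨v, hv, a, ha, rfl⟩ := Subgroup.mem_sup_of_normal_left.mp hx
        obtain ⟨w, hw, b, hb, rfl⟩ := Subgroup.mem_sup_of_normal_left.mp hy
        refine Subtype.ext (show v * a * (w * b) = w * b * (v * a) from ?_)
        have hab : a * b = b * a := congrArg Subtype.val (mul_comm' (⟨a, ha.1⟩ : A) ⟨b, hb.1⟩)
        have haw : a * w = w * a := hw.2.1 a ha.2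
        have hbv : b * v = v * b := hv.2.1 b hb.2
        calc v * a * (w * b) = v * (a * w) * b := by group
          _ = (v * w) * (a * b) := by rw [haw]; group
          _ = (w * v) * (b * a) := by rw [hVcomm v hv w hw, hab]
          _ = w * (v * b) * a := by group
          _ = w * (b * v) * a := by rw [hbv]
          _ = _ := by group
      · intro x hx
        obtain ⟨v, hv, a, ha, rfl⟩ := Subgroup.mem_sup_of_normal_left.mp hx
        rw [Commute.mul_pow (hv.2.1 a ha.2).symm, hA.2.1.2 a ha.1, mul_one, hv.2.2]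
    have hAcard : Nat.card Ab * Nat.card ↥(A ⊓ Q) = Nat.card A := by
      let g : Am →* M ⧸ Qm := π.comp Am.subtype
      have h1 := g.ker.card_mul_index
      rw [Subgroup.index_ker, show g.range = Ab by rw [MonoidHom.range_comp, Subgroup.range_subtype],
        mul_comm, Nat.card_congr (Subgroup.subgroupOfEquivOfLe (hAS.trans hSM)).toEquiv] at h1
      rw [← h1]
      congr 1
      refine Nat.card_congr
        { toFun := fun x => ⟨⟨⟨(x : G), hSM (hAS x.2.1)⟩, x.2.1⟩,
            (QuotientGroup.eq_one_iff _).mpr x.2.2⟩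
          invFun := fun x => ⟨((x : Am) : M), (x : Am).2,
            Subgroup.mem_subgroupOf.mp ((QuotientGroup.eq_one_iff _).mp (MonoidHom.mem_ker.mp x.2))⟩
          left_inv := fun _ => rfl
          right_inv := fun _ => rfl }
    have hfix : Nat.card ↥(Vs ⊓ (A ⊓ Q)) ≤ Nat.card (fixSub φ Ab) := by
      refine Nat.card_le_card_of_injective
        (fun v => ⟨Additive.ofMul ⟨(v : G), v.2.1⟩, ?_⟩) fun v w h => Subtype.ext
          (congrArg (fun t : fixSub φ Ab => ((Additive.toMul (t : Additive Vs) : Vs) : G)) h :)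
      rintro _ ⟨a, ha, rfl⟩
      apply Additive.toMul.injective
      apply Subtype.ext
      rw [hφπ, hφ₀]
      have : (a : G) * (v : G) = v * a :=
        congrArg Subtype.val (mul_comm' (⟨(a : G), ha⟩ : A) ⟨v, v.2.2.1⟩)
      show (a : G) * (v : G) * (a : G)⁻¹ = v
      rw [this, mul_inv_cancel_right]
    rw [show Nat.card (Additive Vs) = Nat.card Vs from Nat.card_congr Additive.toMul]
    refine Nat.le_of_mul_le_mul_left (c := ↥(A ⊓ Q) |> Nat.card) ?_ Nat.card_pos
    calc Nat.card ↥(A ⊓ Q) * Nat.card Vs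
        = Nat.card ↥(Vs ⊔ (A ⊓ Q)) * Nat.card ↥(Vs ⊓ (A ⊓ Q)) := by rw [hW, mul_comm]
      _ ≤ Nat.card A * Nat.card (fixSub φ Ab) := Nat.mul_le_mul hWmax hfix
      _ = _ := by rw [← hAcard]; ring
  have hAbp : IsPGroup 2 Ab :=
    ((S.2.to_le hAS).comap_of_injective M.subtype M.subtype_injective).map π
  have hAC : Ab ⊓ Subgroup.centralizer (F : Set (M ⧸ Qm)) = ⊥ := by
    rw [eq_bot_iff]
    intro x hx
    rw [Subgroup.mem_bot]
    exact PSolvable.eq_one_of_mem_of_mem hAbp hFodd hx.1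
      (PSolvable.centralizer_fittingSubgroup_le hx.2)
  have hAbc : ∀ a ∈ Ab, ∀ b ∈ Ab, a * b = b * a := by
    rintro _ ⟨a, ha, rfl⟩ _ ⟨b, hb, rfl⟩
    rw [← map_mul, ← map_mul]
    exact congrArg π (Subtype.ext (congrArg Subtype.val
      (mul_comm' (⟨(a : G), ha⟩ : A) ⟨(b : G), hb⟩) :))
  obtain ⟨a, y, V₁, hV₁, hodd, hinv, haV, hyV, v₀, hv₀, hmove⟩ :=
    exists_four_of_offender hexp φ hφinj hAb1 hAbp hAbc hFodd
      Subgroup.le_normalizer_of_normal hAC hoff
  refine hS4 ?_
  obtain ⟨ga, rfl⟩ := hπs a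
  obtain ⟨gy, rfl⟩ := hπs y
  let V₁' : Subgroup Vs :=
    { carrier := {v | Additive.ofMul v ∈ V₁}
      one_mem' := zero_mem V₁
      mul_mem' := fun {a b} ha hb =>
        show Additive.ofMul a + Additive.ofMul b ∈ V₁ from add_mem ha hb
      inv_mem' := fun {a} ha => show -(Additive.ofMul a) ∈ V₁ from neg_mem ha }
  set W := V₁'.map Vs.subtype with hW
  have hWcard : Nat.card W = 4 := by
    rw [hW, Subgroup.card_map_of_injective Vs.subtype_injective]
    exact (Nat.card_congr ⟨fun v => ⟨Additive.ofMul (v : Vs), v.2⟩,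
      fun v => ⟨Additive.toMul (v : Additive Vs), v.2⟩, fun _ => rfl, fun _ => rfl⟩).trans hV₁
  have hnorm : ∀ g : M, (∀ v ∈ V₁, φ (π g) v ∈ V₁) →
      (g : G) ∈ Subgroup.normalizer (W : Set G) := by
    intro g hg
    rw [Coprime.mem_normalizer_iff_conj_smul]
    refine Subgroup.eq_of_le_of_card_ge ?_ (by rw [Coprime.card_conj_smul])
    rw [Subgroup.pointwise_smul_def]
    rintro _ ⟨_, ⟨v, hv, rfl⟩, rfl⟩
    exact ⟨Additive.toMul (φ (π g) (Additive.ofMul v)), hg _ hv, hφ₀ g (Additive.ofMul v)⟩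
  refine involves_perm_four hWcard (hnorm ga haV) (hnorm gy hyV) ?_ ?_
    ⟨orderOf (π gy), hodd, ?_⟩
  · rintro _ ⟨v, hv, rfl⟩
    have h1 := hφ₀ (ga * gy * ga⁻¹) (Additive.ofMul v)
    have h2 := hφ₀ gy⁻¹ (Additive.ofMul v)
    have h3 : π (ga * gy * ga⁻¹) = π gy⁻¹ := by rw [map_mul, map_mul, map_inv, hinv, map_inv]
    rw [← hφπ, h3, hφπ, h2, Subgroup.coe_mul, Subgroup.coe_mul, Subgroup.coe_inv,
      Subgroup.coe_inv, inv_inv] at h1
    exact h1.symm
  · refine ⟨_, ⟨Additive.toMul v₀, hv₀, rfl⟩, fun h => hmove ?_⟩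
    apply Additive.toMul.injective
    apply Subtype.ext
    rw [hφπ, hφ₀]
    exact h
  · rintro _ ⟨v, hv, rfl⟩
    have h1 : ((gy : G)) ^ orderOf (π gy) ∈ Q := by
      have : gy ^ orderOf (π gy) ∈ Qm := by
        rw [← QuotientGroup.eq_one_iff, ← QuotientGroup.mk'_apply, map_pow]
        exact pow_orderOf_eq_one _
      simpa [hQm, Subgroup.mem_subgroupOf] using this
    show _ * (v : G) * _ = (v : G)
    rw [v.2.2.1 _ h1, mul_inv_cancel_right]

/-- Thompson factorization in solvable `S₄`-free groups with class two Sylow `2`-subgroups. -/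
theorem thompson_factorization_class_two {G : Type u} [Group G] [Finite G] [Group.IsSolvable G]
    (hS4 : ¬ Cfsg.Involves (Equiv.Perm (Fin 4)) G) (S : Sylow 2 G)
    (hcl : ∀ a ∈ (S : Subgroup G), ∀ b ∈ (S : Subgroup G), ∀ c ∈ (S : Subgroup G),
      Commute c (a * b * a⁻¹ * b⁻¹)) :
    Subgroup.normalizer (Transfer.thompsonJ 2 (S : Subgroup G) : Set G)
      ⊔ Cfsg.pPrimeCore 2 G = ⊤ := by
  haveI : Fact (Nat.Prime 2) := ⟨Nat.prime_two⟩
  haveI := Transfer.pPrimeCore_normal 2 G
  set N := Cfsg.pPrimeCore 2 G with hN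
  set f := QuotientGroup.mk' N with hf
  have hfs : Function.Surjective f := QuotientGroup.mk'_surjective N
  set J := Transfer.thompsonJ 2 (S : Subgroup G) with hJ
  have hJS : J ≤ (S : Subgroup G) := Transfer.thompsonJ_le 2 _
  have hNcop : (Nat.card N).Coprime 2 := Transfer.pPrimeCore_coprime 2
  have hinj : Set.InjOn f ((S : Subgroup G) : Set G) := by
    intro x hx y hy h
    have h1 : x * y⁻¹ ∈ N := by
      rw [← QuotientGroup.eq_one_iff]
      show f (x * y⁻¹) = 1
      rw [map_mul, map_inv, h, mul_inv_cancel]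
    exact mul_inv_eq_one.mp (PSolvable.eq_one_of_mem_of_mem S.2 hNcop (mul_mem hx (inv_mem hy)) h1)
  have hJn : (J.map f).Normal := by
    have h := thompsonJ_normal_of_class_two (G := G ⧸ N)
      (PSolvable.pPrimeCore_eq_bot_of_ker hfs (QuotientGroup.ker_mk' N))
      (fun h => hS4 (involves_of_surjective f hfs h)) (S.mapSurjective hfs) (by
        rintro _ ⟨a, ha, rfl⟩ _ ⟨b, hb, rfl⟩ _ ⟨c, hc, rfl⟩
        have h := (hcl a ha b hb c hc).map f
        simpa only [map_mul, map_inv] using h)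
    rw [Sylow.coe_mapSurjective, ← Transfer.map_thompsonJ 2 f hinj] at h
    exact h
  haveI : (J ⊔ N).Normal := by
    have h := hJn.comap f
    rwa [Subgroup.comap_map_eq, hf, QuotientGroup.ker_mk'] at h
  set L := J ⊔ N with hL
  have hJL : J ≤ L := le_sup_left
  have hsylow : ∃ P : Sylow 2 L, (P : Subgroup L) = J.subgroupOf L := by
    have hJp : IsPGroup 2 J := S.2.to_le hJS
    refine ⟨Sylow.ofCard (J.subgroupOf L) ?_, rfl⟩
    rw [Nat.card_congr (Subgroup.subgroupOfEquivOfLe hJL).toEquiv]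
    obtain ⟨k, hk⟩ := hJp.exists_card_eq
    have hd : J ⊓ N = ⊥ := eq_bot_iff.mpr fun x hx =>
      Subgroup.mem_bot.mpr (PSolvable.eq_one_of_mem_of_mem hJp hNcop hx.1 hx.2)
    have hc := Coprime.card_sup_mul_card_inf (K := N) (S := J) Subgroup.le_normalizer_of_normal
    rw [inf_comm, hd, Subgroup.card_bot, mul_one, sup_comm] at hc
    rw [hL, hc, hk, Nat.factorization_mul Nat.card_pos.ne' (pow_ne_zero _ two_ne_zero),
      Finsupp.add_apply, Nat.Prime.factorization_pow Nat.prime_two, Finsupp.single_eq_same,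
      Nat.factorization_eq_zero_of_not_dvd ((Nat.Prime.coprime_iff_not_dvd Nat.prime_two).mp
        hNcop.symm), zero_add]
  obtain ⟨P, hP⟩ := hsylow
  have h := Sylow.normalizer_sup_eq_top P
  rw [hP, Subgroup.map_subgroupOf_eq_of_le hJL] at h
  rw [eq_top_iff, ← h]
  exact sup_le le_sup_left (sup_le (le_trans Subgroup.le_normalizer le_sup_left) le_sup_right)

end CfsgLib.Offender
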