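import Mathlib
import Cfsg.Agent.Lib.Offender.Basic

/-!
Replacement for best offenders: if an abelian `p`-group `A` maximizes `|B| |C_V(B)|` among its
subgroups `B` and acts nontrivially on `V`, then some element of `A` acting nontrivially
centralizes all commutators `[V, A]`.
-/

set_option autoImplicit false
set_option linter.style.haveILetI false

namespace CfsgLib.Offender

variable {X : Type*} [Group X] {V : Type*} [AddCommGroup V]

/-- The measure `|B| |C_V(B)|`. -/
noncomputable def measure (φ : X →* AddMonoid.End V) (B : Subgroup X) : ℕ :=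
  Nat.card B * Nat.card (fixSub φ B)

theorem card_mul_card_le_addSubgroup [Finite V] (P Q : AddSubgroup V) :
    Nat.card P * Nat.card Q ≤ Nat.card ↥(P ⊔ Q) * Nat.card ↥(P ⊓ Q) := by
  have h1 : P.relIndex Q * Nat.card ↥(P ⊓ Q) = Nat.card Q := by
    rw [← AddSubgroup.inf_relIndex_right, ← AddSubgroup.relIndex_bot_left,
      ← AddSubgroup.relIndex_bot_left, mul_comm]
    exact AddSubgroup.relIndex_mul_relIndex _ _ _ bot_le inf_le_right
  have h2 : P.relIndex (P ⊔ Q) * Nat.card P = Nat.card ↥(P ⊔ Q) := by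
    rw [← AddSubgroup.relIndex_bot_left, ← AddSubgroup.relIndex_bot_left, mul_comm]
    exact AddSubgroup.relIndex_mul_relIndex _ _ _ bot_le le_sup_left
  have h3 : P.relIndex Q ≤ P.relIndex (P ⊔ Q) :=
    AddSubgroup.relIndex_le_of_le_right le_sup_right (AddSubgroup.index_ne_zero_of_finite (H := P.addSubgroupOf (P ⊔ Q)))
  calc Nat.card P * Nat.card Q = Nat.card P * (P.relIndex Q * Nat.card ↥(P ⊓ Q)) := by rw [h1]
    _ ≤ Nat.card P * (P.relIndex (P ⊔ Q) * Nat.card ↥(P ⊓ Q)) :=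
        Nat.mul_le_mul_left _ (Nat.mul_le_mul_right _ h3)
    _ = Nat.card ↥(P ⊔ Q) * Nat.card ↥(P ⊓ Q) := by rw [← h2]; ring

theorem card_mul_card_le_subgroup [Finite X] (P Q : Subgroup X) :
    Nat.card P * Nat.card Q ≤ Nat.card ↥(P ⊔ Q) * Nat.card ↥(P ⊓ Q) := by
  have h1 : P.relIndex Q * Nat.card ↥(P ⊓ Q) = Nat.card Q := by
    rw [← Subgroup.inf_relIndex_right, ← Subgroup.relIndex_bot_left,
      ← Subgroup.relIndex_bot_left, mul_comm]
    exact Subgroup.relIndex_mul_relIndex _ _ _ bot_le inf_le_right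
  have h2 : P.relIndex (P ⊔ Q) * Nat.card P = Nat.card ↥(P ⊔ Q) := by
    rw [← Subgroup.relIndex_bot_left, ← Subgroup.relIndex_bot_left, mul_comm]
    exact Subgroup.relIndex_mul_relIndex _ _ _ bot_le le_sup_left
  have h3 : P.relIndex Q ≤ P.relIndex (P ⊔ Q) :=
    Subgroup.relIndex_le_of_le_right le_sup_right (Subgroup.index_ne_zero_of_finite (H := P.subgroupOf (P ⊔ Q)))
  calc Nat.card P * Nat.card Q = Nat.card P * (P.relIndex Q * Nat.card ↥(P ⊓ Q)) := by rw [h1]
    _ ≤ Nat.card P * (P.relIndex (P ⊔ Q) * Nat.card ↥(P ⊓ Q)) :=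
        Nat.mul_le_mul_left _ (Nat.mul_le_mul_right _ h3)
    _ = Nat.card ↥(P ⊔ Q) * Nat.card ↥(P ⊓ Q) := by rw [← h2]; ring

theorem fixSub_bot (φ : X →* AddMonoid.End V) : fixSub φ (⊥ : Subgroup X) = ⊤ :=
  eq_top_iff.mpr fun v _ b hb => by rw [Subgroup.mem_bot.mp hb, map_one]; rfl

theorem fixSub_inf_le (φ : X →* AddMonoid.End V) (B₁ B₂ : Subgroup X) :
    fixSub φ B₁ ⊓ fixSub φ B₂ ≤ fixSub φ (B₁ ⊔ B₂) := by
  intro v hv
  let S : Subgroup X :=
    { carrier := {x | φ x v = v}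
      one_mem' := by show φ 1 v = v; rw [map_one]; rfl
      mul_mem' := fun {a b} ha hb => by
        show φ (a * b) v = v
        rw [map_mul]
        show φ a (φ b v) = v
        rw [hb, ha]
      inv_mem' := fun {a} ha => by
        show φ a⁻¹ v = v
        conv_lhs => rw [← ha]
        show (φ a⁻¹ * φ a) v = v
        rw [← map_mul, inv_mul_cancel, map_one]
        rfl }
  exact fun b hb => (sup_le (c := S) (fun a ha => hv.1 a ha) (fun a ha => hv.2 a ha)) hb

/-- The subgroups of largest measure are closed under intersection. -/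
theorem measure_inf [Finite X] [Finite V] {φ : X →* AddMonoid.End V} {A : Subgroup X}
    (hmax : ∀ B ≤ A, measure φ B ≤ measure φ A) {B₁ B₂ : Subgroup X} (h1 : B₁ ≤ A) (h2 : B₂ ≤ A)
    (e1 : measure φ B₁ = measure φ A) (e2 : measure φ B₂ = measure φ A) :
    measure φ (B₁ ⊓ B₂) = measure φ A ∧
      fixSub φ (B₁ ⊓ B₂) = fixSub φ B₁ ⊔ fixSub φ B₂ := by
  have hle : fixSub φ B₁ ⊔ fixSub φ B₂ ≤ fixSub φ (B₁ ⊓ B₂) :=
    sup_le (fixSub_anti φ inf_le_left) (fixSub_anti φ inf_le_right)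
  set b := Nat.card ↥(B₁ ⊓ B₂) with hb
  set c := Nat.card ↥(fixSub φ B₁ ⊔ fixSub φ B₂) with hc
  have key : measure φ A * measure φ A ≤ measure φ A * (b * c) := by
    calc measure φ A * measure φ A = measure φ B₁ * measure φ B₂ := by rw [e1, e2]
      _ = (Nat.card B₁ * Nat.card B₂) *
          (Nat.card ↥(fixSub φ B₁) * Nat.card ↥(fixSub φ B₂)) := by
        rw [measure, measure]; ring
      _ ≤ (Nat.card ↥(B₁ ⊔ B₂) * b) * (c * Nat.card ↥(fixSub φ B₁ ⊓ fixSub φ B₂)) :=
        Nat.mul_le_mul (card_mul_card_le_subgroup _ _) (card_mul_card_le_addSubgroup _ _)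
      _ ≤ (Nat.card ↥(B₁ ⊔ B₂) * b) * (c * Nat.card ↥(fixSub φ (B₁ ⊔ B₂))) :=
        Nat.mul_le_mul_left _ (Nat.mul_le_mul_left _
          (AddSubgroup.card_le_of_le (fixSub_inf_le φ B₁ B₂)))
      _ = measure φ (B₁ ⊔ B₂) * (b * c) := by rw [measure]; ring
      _ ≤ measure φ A * (b * c) := Nat.mul_le_mul_right _ (hmax _ (sup_le h1 h2))
  have hge := Nat.le_of_mul_le_mul_left key (Nat.mul_pos Nat.card_pos Nat.card_pos)
  have hbc : b * c ≤ measure φ (B₁ ⊓ B₂) :=
    Nat.mul_le_mul_left _ (AddSubgroup.card_le_of_le hle)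
  have hm := hmax _ (inf_le_left.trans h1 : B₁ ⊓ B₂ ≤ A)
  refine ⟨le_antisymm hm (hge.trans hbc), (AddSubgroup.eq_of_le_of_card_ge hle ?_).symm⟩
  exact Nat.le_of_mul_le_mul_left (hm.trans hge) (Nat.card_pos (α := ↥(B₁ ⊓ B₂)))

/-- Some element acting nontrivially centralizes every commutator with an element of `A`. -/
theorem exists_inner [Finite X] [Finite V] {p : ℕ} [Fact p.Prime] (hV : ∀ v : V, p • v = 0)
    {φ : X →* AddMonoid.End V} {A : Subgroup X} (hAp : IsPGroup p A)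
    (hAc : ∀ a ∈ A, ∀ b ∈ A, a * b = b * a)
    (hmax : ∀ B ≤ A, measure φ B ≤ measure φ A) (hnt : ∃ a ∈ A, φ a ≠ 1) :
    ∃ b ∈ A, φ b ≠ 1 ∧ ∀ a ∈ A, ∀ v, φ b (φ a v - v) = φ a v - v := by
  classical
  haveI : Nontrivial V := by
    by_contra h
    haveI := not_nontrivial_iff_subsingleton.mp h
    obtain ⟨a, -, ha⟩ := hnt
    exact ha (DFunLike.ext _ _ fun v => Subsingleton.elim _ _)
  haveI := charP_End hV
  haveI := Fintype.ofFinite V
  have key : ∀ s : Finset V, ∃ D ≤ A, measure φ D = measure φ A ∧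
      (∀ d ∈ D, ∀ v ∈ s, ∀ a ∈ A, φ d (φ a v - v) = φ a v - v) ∧
      fixSub φ D ≤
        AddSubgroup.closure {w | ∃ v : V, ∃ a ∈ A, w = φ a v - v} ⊔ fixSub φ A := by
    intro s
    induction s using Finset.induction with
    | empty => exact ⟨A, le_rfl, rfl, fun d _ v hv => by simp at hv, le_sup_right⟩
    | insert u s _ ih =>
      obtain ⟨D₁, hD₁, m₁, k₁, f₁⟩ := ih
      obtain ⟨D₂, hD₂, -, w₂, c₂⟩ := replacement φ hAc u
      set W := AddSubgroup.closure ((fun b => φ b u - u) '' (A : Set X)) ⊔ fixSub φ A with hW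
      have hchain : measure φ A ≤ Nat.card D₂ * Nat.card W := c₂
      have h3 : Nat.card D₂ * Nat.card W ≤ measure φ D₂ :=
        Nat.mul_le_mul_left _ (AddSubgroup.card_le_of_le w₂)
      have m₂ : measure φ D₂ = measure φ A := le_antisymm (hmax _ hD₂) (hchain.trans h3)
      have f₂ : fixSub φ D₂ = W := (AddSubgroup.eq_of_le_of_card_ge w₂
        (Nat.le_of_mul_le_mul_left ((hmax _ hD₂).trans hchain) Nat.card_pos)).symm
      obtain ⟨m, f⟩ := measure_inf hmax hD₁ hD₂ m₁ m₂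
      refine ⟨D₁ ⊓ D₂, inf_le_left.trans hD₁, m, fun d hd v hv a ha => ?_, ?_⟩
      · rcases Finset.mem_insert.mp hv with rfl | hv
        · exact w₂ (AddSubgroup.mem_sup_left
            (AddSubgroup.subset_closure ⟨a, ha, rfl⟩)) d hd.2
        · exact k₁ d hd.1 v hv a ha
      · rw [f, f₂]
        refine sup_le f₁ (sup_le_sup_right ((AddSubgroup.closure_le _).mpr ?_) _)
        rintro _ ⟨a, ha, rfl⟩
        exact AddSubgroup.subset_closure ⟨u, a, ha, rfl⟩
  obtain ⟨D, hDA, -, hD, hDfix⟩ := key Finset.univ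
  by_contra hcon
  push Not at hcon
  have htriv : ∀ d ∈ D, φ d = 1 := fun d hd => by
    by_contra hd1
    obtain ⟨a, ha, v, hv⟩ := hcon d (hDA hd) hd1
    exact hv (hD d hd v (Finset.mem_univ v) a ha)
  have htop : (⊤ : AddSubgroup V) ≤
      AddSubgroup.closure {w | ∃ v : V, ∃ a ∈ A, w = φ a v - v} ⊔ fixSub φ A :=
    le_trans (fun v _ => show v ∈ fixSub φ D from fun d hd => by rw [htriv d hd]; rfl) hDfix
  have hne : fixSub φ A < ⊤ := by
    refine lt_top_iff_ne_top.mpr fun h => ?_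
    obtain ⟨a, ha, hane⟩ := hnt
    exact hane (DFunLike.ext _ _ fun v => (h ▸ AddSubgroup.mem_top v : v ∈ fixSub φ A) a ha)
  -- a maximal invariant proper subgroup containing the fixed points
  obtain ⟨M, -, hM⟩ := exists_maximal_ge_of_wellFoundedGT
    (fun M : AddSubgroup V => M < ⊤ ∧ fixSub φ A ≤ M ∧ ∀ a ∈ A, ∀ v ∈ M, φ a v ∈ M) (fixSub φ A)
    ⟨hne, le_rfl, fun a ha v hv => by rw [hv a ha]; exact hv⟩
  let act : ↥A →* Function.End (V ⧸ M) :=
    { toFun := fun a q => QuotientAddGroup.map M M (φ (a : X)) (fun v hv => hM.1.2.2 a a.2 v hv) q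
      map_one' := by
        funext q
        induction q using QuotientAddGroup.induction_on with
        | H v =>
          refine congrArg QuotientAddGroup.mk ?_
          show φ ((1 : ↥A) : X) v = v
          rw [OneMemClass.coe_one, map_one]
          rfl
      map_mul' := fun a b => by
        funext q
        induction q using QuotientAddGroup.induction_on with
        | H v =>
          refine congrArg QuotientAddGroup.mk ?_
          show φ ((a * b : ↥A) : X) v = φ (a : X) (φ (b : X) v)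
          rw [Subgroup.coe_mul, map_mul]
          rfl }
  letI : MulAction ↥A (V ⧸ M) := MulAction.compHom _ act
  obtain ⟨v₁, hv₁⟩ : ∃ v, v ∉ M := by
    by_contra h
    push Not at h
    exact hM.1.1.ne (eq_top_iff.mpr fun v _ => h v)
  have hQp : p ∣ Nat.card (V ⧸ M) := by
    have h1 : addOrderOf (v₁ : V ⧸ M) ∣ p := addOrderOf_dvd_iff_nsmul_eq_zero.mpr (by
      rw [← QuotientAddGroup.mk_nsmul, hV, QuotientAddGroup.mk_zero])
    rcases (Nat.dvd_prime Fact.out).mp h1 with h | h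
    · exact absurd (AddMonoid.addOrderOf_eq_one_iff.mp h)
        (fun e => hv₁ ((QuotientAddGroup.eq_zero_iff _).mp e))
    · exact h ▸ addOrderOf_dvd_natCard _
  obtain ⟨q, hqfix, hq0⟩ :=
    hAp.exists_fixed_point_of_prime_dvd_card_of_fixed_point (V ⧸ M) hQp (a := 0)
      (show ∀ a : ↥A, act a 0 = 0 from fun a => map_zero (QuotientAddGroup.map M M (φ (a : X))
        (fun v hv => hM.1.2.2 a a.2 v hv)))
  obtain ⟨v, rfl⟩ := QuotientAddGroup.mk_surjective q
  have hfix : ∀ a ∈ A, φ a v - v ∈ M := fun a ha => by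
    have h := QuotientAddGroup.eq.mp
      (show (QuotientAddGroup.mk (φ a v) : V ⧸ M) = QuotientAddGroup.mk v from hqfix ⟨a, ha⟩)
    have h' : -(φ a v) + v ∈ M := h
    rw [← neg_mem_iff, neg_sub]
    rwa [neg_add_eq_sub] at h'
  have hvM : v ∉ M := fun h => hq0 ((QuotientAddGroup.eq_zero_iff _).mpr h).symm
  let M' := M ⊔ AddSubgroup.closure {v}
  have hMlt : M < M' := lt_of_le_of_ne le_sup_left fun e => hvM (e ▸ AddSubgroup.mem_sup_right
    (AddSubgroup.subset_closure rfl))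
  have hstep : ∀ u ∈ M', ∀ a ∈ A, φ a u - u ∈ M := by
    intro u hu a ha
    obtain ⟨m, hm, c, hc, rfl⟩ := AddSubgroup.mem_sup.mp hu
    obtain ⟨k, rfl⟩ := AddSubgroup.mem_closure_singleton.mp hc
    rw [map_add, map_zsmul, add_sub_add_comm, ← smul_sub]
    exact add_mem (sub_mem (hM.1.2.2 a ha m hm) hm) (zsmul_mem (hfix a ha) k)
  have hM'top : M' = ⊤ := by
    by_contra h
    refine hMlt.not_ge (hM.2 ⟨lt_top_iff_ne_top.mpr h, hM.1.2.1.trans le_sup_left,
      fun a ha u hu => ?_⟩ hMlt.le)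
    have := add_mem (le_sup_left (b := AddSubgroup.closure {v}) (hstep u hu a ha)) hu
    rwa [sub_add_cancel] at this
  refine hM.1.1.not_ge (htop.trans (sup_le ((AddSubgroup.closure_le _).mpr ?_) hM.1.2.1))
  rintro _ ⟨u, a, ha, rfl⟩
  exact hstep u (hM'top ▸ AddSubgroup.mem_top u) a ha

end CfsgLib.Offender
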