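import Mathlib
import Cfsg.Prelude.Def_PLocal
import Cfsg.Agent.Lib.Coprime.Generation

/-!
The Thompson and Timmesfeld replacement theorems for an abelian group acting on an elementary
abelian `p`-group inside an ambient group.
-/

set_option autoImplicit false
set_option linter.style.haveILetI false

open scoped commutatorElement

namespace CfsgLib.Offender.Timmesfeld

open Cfsg

variable {G : Type*} [Group G]

/-- The fixed points of `B` in `V`. -/
def fix (V B : Subgroup G) : Subgroup G := V ⊓ Subgroup.centralizer (B : Set G)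

/-- The measure `|B| |C_V(B)|`. -/
noncomputable def meas (V B : Subgroup G) : ℕ := Nat.card B * Nat.card ↥(fix V B)

/-- The subgroup `[u, A]`. -/
def comm1 (u : G) (A : Subgroup G) : Subgroup G := Subgroup.closure {g | ∃ a ∈ A, ⁅u, a⁆ = g}

theorem fix_anti (V : Subgroup G) {B D : Subgroup G} (h : D ≤ B) : fix V B ≤ fix V D :=
  inf_le_inf_left V (Subgroup.centralizer_le h)

theorem comm1_le {V A : Subgroup G} (hAV : A ≤ Subgroup.normalizer (V : Set G)) {u : G}
    (hu : u ∈ V) : comm1 u A ≤ V := by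
  refine (Subgroup.closure_le _).mpr ?_
  rintro _ ⟨a, ha, rfl⟩
  rw [commutatorElement_def, SetLike.mem_coe, mul_assoc u a, mul_assoc]
  refine mul_mem hu ?_
  exact (Subgroup.mem_normalizer_iff.mp (hAV ha) _).mp (inv_mem hu)

variable [Finite G]

theorem card_mul_card_le (H K : Subgroup G) :
    Nat.card H * Nat.card K ≤ Nat.card ↥(H ⊔ K) * Nat.card ↥(H ⊓ K) := by
  have h1 := Coprime.relIndex_mul_card_inf H K
  have h2 := Coprime.relIndex_mul_card_inf H (H ⊔ K)
  rw [inf_eq_left.mpr (le_sup_left : H ≤ H ⊔ K)] at h2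
  have h3 : H.relIndex K ≤ H.relIndex (H ⊔ K) :=
    Subgroup.relIndex_le_of_le_right le_sup_right Subgroup.index_ne_zero_of_finite
  calc Nat.card H * Nat.card K = Nat.card H * (H.relIndex K * Nat.card ↥(H ⊓ K)) := by rw [h1]
    _ ≤ Nat.card H * (H.relIndex (H ⊔ K) * Nat.card ↥(H ⊓ K)) :=
        Nat.mul_le_mul_left _ (Nat.mul_le_mul_right _ h3)
    _ = Nat.card ↥(H ⊔ K) * Nat.card ↥(H ⊓ K) := by rw [← h2]; ring

variable {V A : Subgroup G}

/-- The subgroups of largest measure are closed under intersection. -/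
theorem inf_max (hmax : ∀ B ≤ A, meas V B ≤ meas V A) {B₁ B₂ : Subgroup G} (h1 : B₁ ≤ A)
    (h2 : B₂ ≤ A) (e1 : meas V B₁ = meas V A) (e2 : meas V B₂ = meas V A) :
    meas V (B₁ ⊓ B₂) = meas V A ∧ fix V (B₁ ⊓ B₂) = fix V B₁ ⊔ fix V B₂ := by
  have hle : fix V B₁ ⊔ fix V B₂ ≤ fix V (B₁ ⊓ B₂) :=
    sup_le (fix_anti V inf_le_left) (fix_anti V inf_le_right)
  have hle2 : fix V B₁ ⊓ fix V B₂ ≤ fix V (B₁ ⊔ B₂) := by
    refine le_inf (inf_le_left.trans inf_le_left) ?_
    rw [Subgroup.le_centralizer_iff]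
    exact sup_le (Subgroup.le_centralizer_iff.mp (inf_le_left.trans inf_le_right))
      (Subgroup.le_centralizer_iff.mp (inf_le_right.trans inf_le_right))
  set b := Nat.card ↥(B₁ ⊓ B₂) with hb
  set c := Nat.card ↥(fix V B₁ ⊔ fix V B₂) with hc
  have key : meas V A * meas V A ≤ meas V A * (b * c) := by
    calc meas V A * meas V A = meas V B₁ * meas V B₂ := by rw [e1, e2]
      _ = (Nat.card B₁ * Nat.card B₂) * (Nat.card ↥(fix V B₁) * Nat.card ↥(fix V B₂)) := by
          rw [meas, meas]; ring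
      _ ≤ (Nat.card ↥(B₁ ⊔ B₂) * b) * (c * Nat.card ↥(fix V B₁ ⊓ fix V B₂)) :=
          Nat.mul_le_mul (card_mul_card_le _ _) (card_mul_card_le _ _)
      _ ≤ (Nat.card ↥(B₁ ⊔ B₂) * b) * (c * Nat.card ↥(fix V (B₁ ⊔ B₂))) :=
          Nat.mul_le_mul_left _ (Nat.mul_le_mul_left _ (Subgroup.card_le_of_le hle2))
      _ = meas V (B₁ ⊔ B₂) * (b * c) := by rw [meas]; ring
      _ ≤ meas V A * (b * c) := Nat.mul_le_mul_right _ (hmax _ (sup_le h1 h2))
  have hpos : 0 < meas V A := Nat.mul_pos Nat.card_pos Nat.card_pos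
  have hge := Nat.le_of_mul_le_mul_left key hpos
  have hbc : b * c ≤ meas V (B₁ ⊓ B₂) := Nat.mul_le_mul_left _ (Subgroup.card_le_of_le hle)
  have hm := hmax _ (inf_le_left.trans h1 : B₁ ⊓ B₂ ≤ A)
  refine ⟨le_antisymm hm (hge.trans hbc), (Subgroup.eq_of_le_of_card_ge hle ?_).symm⟩
  refine Nat.le_of_mul_le_mul_left ?_ (Nat.card_pos (α := ↥(B₁ ⊓ B₂)))
  exact (hm.trans hge : meas V (B₁ ⊓ B₂) ≤ b * c)

variable (hVc : ∀ x ∈ V, ∀ y ∈ V, Commute x y) (hAV : A ≤ Subgroup.normalizer (V : Set G))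
  (hab : ⁅A, A⁆ ≤ Subgroup.centralizer (V : Set G))

include hVc hAV hab

/-- Replacement for one element. -/
theorem single_max (hmax : ∀ B ≤ A, meas V B ≤ meas V A) {u : G} (hu : u ∈ V) :
    meas V (A ⊓ Subgroup.centralizer (comm1 u A : Set G)) = meas V A ∧
      fix V (A ⊓ Subgroup.centralizer (comm1 u A : Set G)) = comm1 u A ⊔ fix V A := by
  classical
  set W := comm1 u A with hW
  set B := A ⊓ Subgroup.centralizer (W : Set G) with hB
  set C := fix V A with hC
  have hWV : W ≤ V := comm1_le hAV hu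
  have hle : W ⊔ C ≤ fix V B := sup_le
    (le_inf hWV (Subgroup.le_centralizer_iff.mp inf_le_right)) (fix_anti V inf_le_left)
  have hmem : ∀ a ∈ A, ∀ w ∈ V, a * w * a⁻¹ ∈ V := fun a ha w hw =>
    (Subgroup.mem_normalizer_iff.mp (hAV ha) w).mp hw
  have hswap : ∀ a ∈ A, ∀ c ∈ A, ∀ w ∈ V, a * (c * w * c⁻¹) * a⁻¹ = c * (a * w * a⁻¹) * c⁻¹ := by
    intro a ha c hc w hw
    have h := Subgroup.mem_centralizer_iff.mp (hab (Subgroup.commutator_mem_commutator ha hc))
      (c * (a * w * a⁻¹) * c⁻¹) (hmem c hc _ (hmem a ha w hw))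
    have h2 : a * (c * w * c⁻¹) * a⁻¹ = ⁅a, c⁆ * (c * (a * w * a⁻¹) * c⁻¹) * ⁅a, c⁆⁻¹ := by
      rw [commutatorElement_def]; group
    rw [h2, ← h, mul_inv_cancel_right]
  -- agreeing on `u` modulo fixed points means agreeing on `[u, A]`
  have key : ∀ a ∈ A, ∀ b ∈ A, ⁅u, a⁆⁻¹ * ⁅u, b⁆ ∈ C → a⁻¹ * b ∈ B := by
    intro a ha b hb hd
    refine Subgroup.mem_inf.mpr ⟨mul_mem (inv_mem ha) hb, ?_⟩
    have hle : W ≤ Subgroup.centralizer ({a⁻¹ * b} : Set G) := by
      refine (Subgroup.closure_le _).mpr ?_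
      rintro _ ⟨c, hc, rfl⟩
      refine Subgroup.mem_centralizer_singleton_iff.mpr ?_
      set X₁ := a * u⁻¹ * a⁻¹ with hX₁
      set X₂ := b * u⁻¹ * b⁻¹ with hX₂
      have hX₁V : X₁ ∈ V := hmem a ha _ (inv_mem hu)
      have hX₂V : X₂ ∈ V := hmem b hb _ (inv_mem hu)
      have hd' : X₁⁻¹ * X₂ ∈ C := by
        rwa [show ⁅u, a⁆⁻¹ * ⁅u, b⁆ = X₁⁻¹ * X₂ by
          rw [commutatorElement_def, commutatorElement_def, hX₁, hX₂]; group] at hd
      have hfix : c * (X₁⁻¹ * X₂) * c⁻¹ = X₁⁻¹ * X₂ := by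
        rw [Subgroup.mem_centralizer_iff.mp hd'.2 c hc, mul_inv_cancel_right]
      have hY : c * X₂ * c⁻¹ = (c * X₁ * c⁻¹) * X₁⁻¹ * X₂ := by
        rw [mul_assoc (c * X₁ * c⁻¹), ← hfix]; group
      have hY₁V : c * X₁ * c⁻¹ ∈ V := hmem c hc _ hX₁V
      have e1 : a * ⁅u, c⁆ * a⁻¹ = X₁⁻¹ * (c * X₁ * c⁻¹) := by
        rw [hX₁, ← hswap a ha c hc _ (inv_mem hu), commutatorElement_def]; group
      have e2 : b * ⁅u, c⁆ * b⁻¹ = X₂⁻¹ * (c * X₂ * c⁻¹) := by
        rw [hX₂, ← hswap b hb c hc _ (inv_mem hu), commutatorElement_def]; group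
      have e3 : a * ⁅u, c⁆ * a⁻¹ = b * ⁅u, c⁆ * b⁻¹ := by
        rw [e1, e2, hY]
        have h1 : X₂⁻¹ * (c * X₁ * c⁻¹ * X₁⁻¹ * X₂) = c * X₁ * c⁻¹ * X₁⁻¹ := by
          rw [← mul_assoc, ← (hVc _ (mul_mem hY₁V (inv_mem hX₁V)) _ (inv_mem hX₂V)).eq]; group
        rw [h1, (hVc _ (inv_mem hX₁V) _ hY₁V).eq]
      have h4 := congrArg (fun w => a⁻¹ * w * b) e3
      simp only [mul_assoc, inv_mul_cancel_left, inv_mul_cancel, mul_one] at h4
      simpa [mul_assoc] using h4
    exact (Subgroup.le_centralizer_iff (H := W) (K := Subgroup.zpowers (a⁻¹ * b))).mp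
      (hle.trans (by rw [Subgroup.zpowers_eq_closure, Subgroup.centralizer_closure]))
      (Subgroup.mem_zpowers _)
  -- counting cosets
  have hCle : C ≤ W ⊔ C := le_sup_right
  have hin : Nat.card (↥A ⧸ B.subgroupOf A) ≤
      Nat.card (↥(W ⊔ C) ⧸ C.subgroupOf (W ⊔ C)) := by
    refine Nat.card_le_card_of_injective (fun q : ↥A ⧸ B.subgroupOf A =>
      QuotientGroup.mk (⟨⁅u, ((q.out : ↥A) : G)⁆,
        Subgroup.mem_sup_left (Subgroup.subset_closure ⟨_, q.out.2, rfl⟩)⟩ : ↥(W ⊔ C))) ?_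
    intro q r h
    rw [← QuotientGroup.out_eq' q, ← QuotientGroup.out_eq' r, QuotientGroup.eq]
    exact Subgroup.mem_subgroupOf.mpr (key _ q.out.2 _ r.out.2
      (Subgroup.mem_subgroupOf.mp (QuotientGroup.eq.mp h)))
  have hA' : B.relIndex A * Nat.card B = Nat.card A := by
    have h := Coprime.relIndex_mul_card_inf B A
    rwa [inf_eq_left.mpr (inf_le_left : B ≤ A)] at h
  have hW' : C.relIndex (W ⊔ C) * Nat.card C = Nat.card ↥(W ⊔ C) := by
    have h := Coprime.relIndex_mul_card_inf C (W ⊔ C)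
    rwa [inf_eq_left.mpr hCle] at h
  have h1 : meas V A ≤ Nat.card B * Nat.card ↥(W ⊔ C) := by
    calc meas V A = B.relIndex A * Nat.card B * Nat.card C := by rw [hA']; rfl
      _ ≤ C.relIndex (W ⊔ C) * Nat.card B * Nat.card C :=
          Nat.mul_le_mul_right _ (Nat.mul_le_mul_right _ hin)
      _ = Nat.card B * Nat.card ↥(W ⊔ C) := by rw [← hW']; ring
  have h2 : Nat.card B * Nat.card ↥(W ⊔ C) ≤ meas V B :=
    Nat.mul_le_mul_left _ (Subgroup.card_le_of_le hle)
  have h3 := hmax B inf_le_left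
  refine ⟨le_antisymm h3 (h1.trans h2), (Subgroup.eq_of_le_of_card_ge hle ?_).symm⟩
  exact Nat.le_of_mul_le_mul_left (h3.trans h1 : meas V B ≤ _) Nat.card_pos

/-- Replacement for a subgroup of `V`. -/
theorem replacement (hmax : ∀ B ≤ A, meas V B ≤ meas V A) {U : Subgroup G} (hU : U ≤ V) :
    meas V (A ⊓ Subgroup.centralizer ((⁅U, A⁆ : Subgroup G) : Set G)) = meas V A ∧
      fix V (A ⊓ Subgroup.centralizer ((⁅U, A⁆ : Subgroup G) : Set G)) = ⁅U, A⁆ ⊔ fix V A := by
  classical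
  haveI := Fintype.ofFinite G
  have hUA : ⁅U, A⁆ = (Finset.univ.filter (· ∈ U)).sup (fun u => comm1 u A) := by
    refine le_antisymm (Subgroup.commutator_le.mpr fun u hu a ha => ?_)
      (Finset.sup_le fun u hu => ?_)
    · exact Finset.le_sup (f := fun u => comm1 u A)
        (Finset.mem_filter.mpr ⟨Finset.mem_univ u, hu⟩) (Subgroup.subset_closure ⟨a, ha, rfl⟩)
    · refine (Subgroup.closure_le _).mpr ?_
      rintro _ ⟨a, ha, rfl⟩
      exact Subgroup.commutator_mem_commutator (Finset.mem_filter.mp hu).2 ha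
  have key : ∀ s : Finset G, (∀ u ∈ s, u ∈ V) →
      meas V (A ⊓ Subgroup.centralizer ((s.sup fun u => comm1 u A : Subgroup G) : Set G)) = meas V A ∧
        fix V (A ⊓ Subgroup.centralizer ((s.sup fun u => comm1 u A : Subgroup G) : Set G))
          = (s.sup fun u => comm1 u A) ⊔ fix V A := by
    intro s
    induction s using Finset.induction with
    | empty =>
      intro _
      have h : A ⊓ Subgroup.centralizer ((⊥ : Subgroup G) : Set G) = A :=
        inf_eq_left.mpr fun a _ => Subgroup.mem_centralizer_iff.mpr fun x hx => by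
          rw [Subgroup.mem_bot.mp hx, one_mul, mul_one]
      rw [Finset.sup_empty, h, bot_sup_eq]
      exact ⟨rfl, rfl⟩
    | insert u s _ ih =>
      intro hs
      obtain ⟨i1, i2⟩ := ih fun v hv => hs v (Finset.mem_insert_of_mem hv)
      obtain ⟨j1, j2⟩ := single_max hVc hAV hab hmax (hs u (Finset.mem_insert_self u s))
      have heq : A ⊓ Subgroup.centralizer
          (((insert u s).sup fun u => comm1 u A : Subgroup G) : Set G) =
          (A ⊓ Subgroup.centralizer ((comm1 u A : Subgroup G) : Set G)) ⊓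
            (A ⊓ Subgroup.centralizer ((s.sup fun u => comm1 u A : Subgroup G) : Set G)) := by
        rw [Finset.sup_insert, ← inf_inf_distrib_left]
        congr 1
        refine le_antisymm (le_inf (Subgroup.centralizer_le (SetLike.coe_subset_coe.mpr le_sup_left))
          (Subgroup.centralizer_le (SetLike.coe_subset_coe.mpr le_sup_right))) ?_
        rw [Subgroup.le_centralizer_iff]
        exact sup_le (Subgroup.le_centralizer_iff.mp inf_le_left)
          (Subgroup.le_centralizer_iff.mp inf_le_right)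
      obtain ⟨k1, k2⟩ := inf_max hmax inf_le_left inf_le_left j1 i1
      rw [heq, k2, j2, i2, Finset.sup_insert]
      refine ⟨k1, ?_⟩
      rw [sup_sup_sup_comm, sup_idem]
  rw [hUA]
  exact key _ fun u hu => hU (Finset.mem_filter.mp hu).2

omit hVc hab in
/-- A group acting through a `p`-group on `V` with `[W, A] = W ≤ V` centralizes: `W = 1`. -/
theorem eq_bot_of_commutator_eq {p : ℕ} [hp : Fact p.Prime] (hV : IsPGroup p V)
    (hAp : ∀ a ∈ A, a ^ p ∈ Subgroup.centralizer (V : Set G)) {W : Subgroup G} (hWV : W ≤ V)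
    (hW : W ≤ ⁅W, A⁆) : W = ⊥ := by
  obtain ⟨P⟩ : Nonempty (Sylow p ↥A) := inferInstance
  set A₀ := (P : Subgroup ↥A).map A.subtype with hA₀
  set C := Subgroup.centralizer (V : Set G) with hC
  have hA₀A : A₀ ≤ A := Subgroup.map_subtype_le _
  have hsplit : ∀ a ∈ A, ∃ a₀ ∈ A₀, a₀⁻¹ * a ∈ C := by
    have h1 : (P : Subgroup ↥A) ⊔ C.subgroupOf A = ⊤ := by
      haveI : (C.subgroupOf A).Normal := Subgroup.normal_subgroupOf_of_le_normalizer
        (Coprime.le_normalizer_centralizer hAV)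
      have hq : IsPGroup p (↥A ⧸ C.subgroupOf A) := by
        intro q
        obtain ⟨a, rfl⟩ := QuotientGroup.mk'_surjective _ q
        refine ⟨1, ?_⟩
        rw [pow_one, ← map_pow]
        exact (QuotientGroup.eq_one_iff _).mpr (Subgroup.mem_subgroupOf.mpr (by
          rw [SubmonoidClass.coe_pow]; exact hAp a a.2))
      have h2 : ¬ p ∣ ((P : Subgroup ↥A) ⊔ C.subgroupOf A).index := fun h =>
        P.not_dvd_index (h.trans (Subgroup.index_dvd_of_le le_sup_left))
      obtain ⟨n, hn⟩ := IsPGroup.iff_card.mp hq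
      obtain ⟨k, -, hk⟩ := (Nat.dvd_prime_pow hp.out).mp
        ((Subgroup.index_dvd_of_le (le_sup_right : C.subgroupOf A ≤ (P : Subgroup ↥A) ⊔ _)).trans
          (dvd_of_eq hn))
      rcases k with _ | k
      · exact Subgroup.index_eq_one.mp (by rw [hk, pow_zero])
      · exact absurd (hk ▸ dvd_pow_self p k.succ_ne_zero) h2
    intro a ha
    haveI : (C.subgroupOf A).Normal := Subgroup.normal_subgroupOf_of_le_normalizer
      (Coprime.le_normalizer_centralizer hAV)
    obtain ⟨u, hu, w, hw, he⟩ := Subgroup.mem_sup_of_normal_right.mp (h1.ge (Subgroup.mem_top ⟨a, ha⟩))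
    refine ⟨u, ⟨u, hu, rfl⟩, ?_⟩
    rw [show a = (u : G) * w from (congrArg Subtype.val he).symm, inv_mul_cancel_left]
    exact hw
  have hW0 : W ≤ ⁅W, A₀⁆ := hW.trans (Subgroup.commutator_le.mpr fun w hw a ha => by
    obtain ⟨a₀, ha₀, hc⟩ := hsplit a ha
    have h1 : ⁅w, a⁆ = ⁅w, a₀⁆ := by
      have h2 : a₀⁻¹ * a * w⁻¹ = w⁻¹ * (a₀⁻¹ * a) :=
        (Subgroup.mem_centralizer_iff.mp hc w⁻¹ (inv_mem (hWV hw))).symm
      rw [commutatorElement_def, commutatorElement_def]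
      calc w * a * w⁻¹ * a⁻¹ = w * a₀ * (a₀⁻¹ * a * w⁻¹) * a⁻¹ := by group
        _ = w * a₀ * (w⁻¹ * (a₀⁻¹ * a)) * a⁻¹ := by rw [h2]
        _ = _ := by group
    rw [h1]
    exact Subgroup.commutator_mem_commutator hw ha₀)
  set P' := A₀ ⊔ V with hP'
  have hP'p : IsPGroup p ↥P' :=
    (P.2.map A.subtype).to_sup_of_normal_right' hV (hA₀A.trans hAV)
  haveI : Group.IsNilpotent ↥P' := hP'p.isNilpotent
  have hWP : W ≤ P' := hWV.trans le_sup_right
  have hle : ∀ n, W.subgroupOf P' ≤ Subgroup.lowerCentralSeries (⊤ : Subgroup ↥P') n := by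
    intro n
    induction n with
    | zero => exact le_top
    | succ n ih =>
      refine le_trans ?_ (Subgroup.commutator_mono ih (le_top : A₀.subgroupOf P' ≤ ⊤))
      rw [← Subgroup.map_le_map_iff_of_injective P'.subtype_injective, Subgroup.map_commutator,
        Subgroup.map_subgroupOf_eq_of_le hWP, Subgroup.map_subgroupOf_eq_of_le le_sup_left]
      exact hW0
  obtain ⟨n, hn⟩ := Subgroup.nilpotent_iff_lowerCentralSeries.mp (inferInstance : Group.IsNilpotent ↥P')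
  have h1 := (hle n).trans hn.le
  rw [le_bot_iff, Subgroup.subgroupOf_eq_bot] at h1
  exact eq_bot_iff.mpr ((le_inf le_rfl hWP).trans (disjoint_iff.mp h1).le)

/-- The commutator with the replacement is nontrivial. -/
theorem commutator_ne_bot {p : ℕ} [Fact p.Prime] (hV : IsPGroup p V)
    (hAp : ∀ a ∈ A, a ^ p ∈ Subgroup.centralizer (V : Set G))
    (hmax : ∀ B ≤ A, meas V B ≤ meas V A) {U : Subgroup G} (hU : U ≤ V) (hne : ⁅V, A⁆ ≠ ⊥) :
    ⁅V, A ⊓ Subgroup.centralizer ((⁅U, A⁆ : Subgroup G) : Set G)⁆ ≠ ⊥ := by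
  intro h
  obtain ⟨-, h2⟩ := replacement hVc hAV hab hmax hU
  have hUA : ⁅U, A⁆ ≤ ⁅V, A⁆ := Subgroup.commutator_mono hU le_rfl
  have hVA : ⁅V, A⁆ ≤ V := Subgroup.commutator_le.mpr fun v hv a ha => by
    rw [commutatorElement_def, mul_assoc v a, mul_assoc]
    exact mul_mem hv ((Subgroup.mem_normalizer_iff.mp (hAV ha) _).mp (inv_mem hv))
  have hVeq : V ≤ ⁅U, A⁆ ⊔ fix V A := by
    rw [← h2]
    exact le_inf le_rfl (Subgroup.commutator_eq_bot_iff_le_centralizer.mp h)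
  refine hne (eq_bot_of_commutator_eq hAV hV hAp hVA (Subgroup.commutator_le.mpr fun v hv a ha => ?_))
  obtain ⟨w, hw, c, hc, rfl⟩ := (Subgroup.coe_mul_of_right_le_normalizer_left ⁅U, A⁆ (fix V A)
    (fun c hc => Subgroup.centralizer_le_normalizer _ (Subgroup.mem_centralizer_iff.mpr fun z hz =>
      (hVc _ (hVA (hUA hz)) _ hc.1).eq))).le (hVeq hv)
  have h1 : ⁅w * c, a⁆ = ⁅w, a⁆ := by
    have h2 : a * c⁻¹ = c⁻¹ * a := Subgroup.mem_centralizer_iff.mp (inv_mem hc.2) a ha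
    rw [commutatorElement_def, commutatorElement_def]
    calc w * c * a * (w * c)⁻¹ * a⁻¹ = w * c * (a * c⁻¹) * w⁻¹ * a⁻¹ := by group
      _ = _ := by rw [h2]; group
  rw [h1]
  exact Subgroup.commutator_mem_commutator (hUA hw) ha

end CfsgLib.Offender.Timmesfeld
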