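import Mathlib

/-!
Finite rings spanned by the image of a perfect group.

If `p` is odd, the characteristic is `p` and the commutators commute pairwise, the image is
trivial. In characteristic `2`, if an antiautomorphism `σ` makes every `x + σ x` central, then a
`σ`-invariant quotient is a ring of `2 × 2` matrices over a finite field.
-/

set_option autoImplicit false

namespace CfsgLib.QuadAlg

open scoped commutatorElement

variable {Γ : Type*} [Group Γ]

/-- A perfect group has trivial image in any monoid where the image commutes. -/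
theorem eq_one_of_commute {M : Type*} [Monoid M] (hperf : commutator Γ = ⊤) (ρ : Γ →* M)
    (h : ∀ g k, Commute (ρ g) (ρ k)) : ∀ g, ρ g = 1 := by
  let K : Subgroup Γ := ρ.toHomUnits.ker
  have hK : commutator Γ ≤ K := by
    rw [commutator_def, Subgroup.commutator_le]
    intro g _ k _
    show ρ.toHomUnits ⁅g, k⁆ = 1
    rw [map_commutatorElement, commutatorElement_eq_one_iff_mul_comm]
    exact Units.ext (h g k).eq
  intro g
  have := hK (hperf ▸ Subgroup.mem_top g)
  exact congrArg Units.val (this : ρ.toHomUnits g = 1)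

section Span

variable {R : Type*} [Ring R]

theorem commute_of_span (ρ : Γ →* R) (hspan : AddSubgroup.closure (Set.range ρ) = ⊤) {x : R}
    (h : ∀ g, Commute x (ρ g)) : ∀ r, Commute x r := by
  intro r
  have hr : r ∈ AddSubgroup.closure (Set.range ρ) := hspan ▸ AddSubgroup.mem_top r
  induction hr using AddSubgroup.closure_induction with
  | mem y hy => obtain ⟨g, rfl⟩ := hy; exact h g
  | zero => exact Commute.zero_right x
  | add y z _ _ hy hz => exact hy.add_right hz
  | neg y _ hy => exact hy.neg_right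

theorem ring_comm_of_group (ρ : Γ →* R) (hspan : AddSubgroup.closure (Set.range ρ) = ⊤)
    (h : ∀ g k, Commute (ρ g) (ρ k)) : ∀ r s : R, Commute r s := fun r =>
  commute_of_span ρ hspan fun g => (commute_of_span ρ hspan (fun k => h g k) r).symm

theorem span_quotient (ρ : Γ →* R) (hspan : AddSubgroup.closure (Set.range ρ) = ⊤)
    {S : Type*} [Ring S] (π : R →+* S) (hπ : Function.Surjective π) :
    AddSubgroup.closure (Set.range (π.toMonoidHom.comp ρ)) = ⊤ := by
  have h : Set.range (π.toMonoidHom.comp ρ) = π.toAddMonoidHom '' Set.range ρ := by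
    rw [← Set.range_comp]; rfl
  rw [h, ← AddMonoidHom.map_closure, hspan, ← AddMonoidHom.range_eq_map]
  exact AddMonoidHom.range_eq_top.mpr hπ

theorem mem_span_singleton_sq_zero {y : R} (hy : ∀ w, y * w * y = 0) {a b : R}
    (ha : a ∈ TwoSidedIdeal.span {y}) (hb : b ∈ TwoSidedIdeal.span {y}) : a * b = 0 := by
  rw [TwoSidedIdeal.mem_span_iff_mem_addSubgroup_closure] at ha hb
  induction ha using AddSubgroup.closure_induction with
  | zero => exact zero_mul b
  | add c d _ _ hc hd => rw [add_mul, hc, hd, add_zero]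
  | neg c _ hc => rw [neg_mul, hc, neg_zero]
  | mem c hc =>
    induction hb using AddSubgroup.closure_induction with
    | zero => exact mul_zero c
    | add d e _ _ hd he => rw [mul_add, hd, he, add_zero]
    | neg d _ hd => rw [mul_neg, hd, neg_zero]
    | mem d hd =>
      simp only [Set.mem_mul, Set.mem_univ, Set.mem_singleton_iff, true_and] at hc hd
      obtain ⟨_, ⟨r, y₁, hy₁, rfl⟩, s, rfl⟩ := hc
      obtain ⟨_, ⟨t, y₂, hy₂, rfl⟩, u, rfl⟩ := hd
      rw [hy₁, hy₂]
      have e : r * y * s * (t * y * u) = r * (y * (s * t) * y) * u := by simp only [mul_assoc]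
      rw [e, hy, mul_zero, zero_mul]

end Span

/-- For odd `p`, if commutators commute, the image of a perfect group is trivial. -/
theorem odd_trivial {p : ℕ} (hp2 : Odd p) (hperf : commutator Γ = ⊤) :
    ∀ (n : ℕ) {R : Type*} [Ring R] [Finite R], Nat.card R = n → (p : R) = 0 →
      ∀ ρ : Γ →* R, AddSubgroup.closure (Set.range ρ) = ⊤ →
      (∀ r s t u : R, Commute (r * s - s * r) (t * u - u * t)) → ∀ g, ρ g = 1 := by
  intro n
  induction n using Nat.strong_induction_on with
  | _ n ih =>
    intro R _ _ hn hp ρ hspan hcc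
    by_cases hcom : ∀ r s : R, Commute r s
    · exact eq_one_of_commute hperf ρ fun g k => hcom _ _
    -- an element generating a square zero ideal
    obtain ⟨y, hy0, hy⟩ : ∃ y : R, y ≠ 0 ∧ ∀ w, y * w * y = 0 := by
      have htwo : ∀ x : R, x + x = 0 → x = 0 := fun x hx => by
        obtain ⟨k, hk⟩ := hp2
        have h2 : (p : R) * x = x := by
          rw [hk, Nat.cast_add, Nat.cast_mul, Nat.cast_ofNat, Nat.cast_one, add_mul, one_mul,
            mul_assoc, two_mul, ← mul_add, hx, mul_zero, zero_add]
        rw [← h2, hp, zero_mul]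
      by_cases hz : ∀ r s t : R, Commute (r * s - s * r) t
      · -- commutators are central
        simp only [not_forall] at hcom
        obtain ⟨r, s, hrs⟩ := hcom
        refine ⟨r * s - s * r, fun h => hrs (sub_eq_zero.mp h), fun w => ?_⟩
        set c := r * s - s * r with hc
        have h1 : ∀ t : R, (r * (s * r) - s * r * r) * t = c * r * t := fun t => by
          rw [hc, sub_mul (r * s), mul_assoc r s r]
        have h2 := (hz r (s * r) s).eq
        rw [h1 s] at h2
        rw [show r * (s * r) - s * r * r = c * r by rw [hc, sub_mul, mul_assoc r s r]] at h2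
        have h3 : s * (c * r) = c * (s * r) := by
          rw [← mul_assoc, ← (hz r s s).eq, mul_assoc]
        rw [h3, mul_assoc] at h2
        have h4 : c * c = 0 := by
          rw [show c * c = c * (r * s) - c * (s * r) by rw [hc, ← mul_sub], h2, sub_self]
        rw [(hz r s w).eq, mul_assoc, h4, mul_zero]
      · simp only [not_forall] at hz
        obtain ⟨r, s, t, hrst⟩ := hz
        set x := r * s - s * r with hx
        let D : R → R := fun z => x * z - z * x
        have hDD : ∀ z, D (D z) = 0 := fun z => sub_eq_zero.mpr (hcc r s x z).eq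
        have hmul : ∀ u v, D (u * v) = D u * v + u * D v := fun u v => by
          simp only [D]; noncomm_ring
        have hadd : ∀ u v, D (u + v) = D u + D v := fun u v => by simp only [D]; noncomm_ring
        have hprod : ∀ u v, D u * D v = 0 := fun u v => by
          have h := hDD (u * v)
          rw [hmul, hadd, hmul, hmul, hDD, hDD, zero_mul, mul_zero, zero_add, add_zero] at h
          exact htwo _ h
        refine ⟨D t, fun h => hrst (sub_eq_zero.mp h), fun w => ?_⟩
        have h := hprod t (w * t)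
        rw [hmul, mul_add, ← mul_assoc, hprod, zero_mul, zero_add, ← mul_assoc] at h
        exact h
    set I := TwoSidedIdeal.span ({y} : Set R) with hI
    let π : R →+* I.ringCon.Quotient := I.ringCon.mk'
    have hπ : Function.Surjective π := Quotient.mk''_surjective
    haveI : Finite I.ringCon.Quotient := Finite.of_surjective π hπ
    have hker : ∀ a, π a = 0 → a ∈ I := fun a ha => (I.mem_iff a).mpr ((RingCon.eq _).mp ha)
    have hlt : Nat.card I.ringCon.Quotient < n := by
      rw [← hn]
      refine (Nat.card_le_card_of_surjective π hπ).lt_of_ne fun he => hy0 ?_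
      refine ((Nat.bijective_iff_surjective_and_card π).mpr ⟨hπ, he.symm⟩).1 ?_
      rw [map_zero]
      exact (RingCon.eq _).mpr ((I.mem_iff y).mp (TwoSidedIdeal.subset_span rfl))
    have htriv := ih _ hlt rfl (show (p : I.ringCon.Quotient) = 0 by
        rw [← map_natCast π, hp, map_zero]) (π.toMonoidHom.comp ρ) (span_quotient ρ hspan π hπ)
      (fun a b c d => by
        obtain ⟨a, rfl⟩ := hπ a; obtain ⟨b, rfl⟩ := hπ b
        obtain ⟨c, rfl⟩ := hπ c; obtain ⟨d, rfl⟩ := hπ d
        simpa only [map_sub, map_mul] using (hcc a b c d).map π)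
    have hmem : ∀ g, ρ g - 1 ∈ I := fun g => hker _ (by
      rw [map_sub, map_one, sub_eq_zero]; exact htriv g)
    refine eq_one_of_commute hperf ρ fun g k => ?_
    have h1 := mem_span_singleton_sq_zero hy (hmem g) (hmem k)
    have h2 := mem_span_singleton_sq_zero hy (hmem k) (hmem g)
    have e : ρ g * ρ k - ρ k * ρ g = (ρ g - 1) * (ρ k - 1) - (ρ k - 1) * (ρ g - 1) := by
      noncomm_ring
    rw [h1, h2, sub_zero] at e
    exact sub_eq_zero.mp e

section Two

variable {R : Type*} [Ring R] [Finite R]

/-- A `σ`-invariant quotient which is simple and not commutative. -/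
theorem exists_simple_quotient (h2 : (2 : R) = 0) (hperf : commutator Γ = ⊤) (ρ : Γ →* R)
    (hspan : AddSubgroup.closure (Set.range ρ) = ⊤) (hρ : ∃ g, ρ g ≠ 1) (σ : R ≃+ R)
    (hmul : ∀ x y, σ (x * y) = σ y * σ x) (hσσ : ∀ x, σ (σ x) = x)
    (hcent : ∀ x y, Commute (x + σ x) y) :
    ∃ J : TwoSidedIdeal R, (∀ x ∈ J, σ x ∈ J) ∧ (∃ r s, r * s - s * r ∉ J) ∧
      (∃ x, x + σ x ∉ J) ∧ ∀ I : TwoSidedIdeal R, J < I → I = ⊤ := by
  classical
  have hneg : ∀ x : R, -x = x := fun x => neg_eq_of_add_eq_zero_left (by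
    rw [← two_mul, h2, zero_mul])
  have : Finite (TwoSidedIdeal R) := Finite.of_injective (fun I => (I : Set R)) SetLike.coe_injective
  obtain ⟨J, -, hJ⟩ := exists_maximal_ge_of_wellFoundedGT
    (fun J : TwoSidedIdeal R => ∃ r s, r * s - s * r ∉ J) ⊥ (by
      by_contra h
      simp only [not_exists, not_not, TwoSidedIdeal.mem_bot, sub_eq_zero] at h
      obtain ⟨g, hg⟩ := hρ
      exact hg (eq_one_of_commute hperf ρ (fun a b => h _ _) g))
  obtain ⟨r₀, s₀, hrs⟩ := hJ.1
  have habove : ∀ I, J < I → ∀ r s, r * s - s * r ∈ I := fun I hI r s => by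
    by_contra h
    exact hI.not_ge (hJ.2 ⟨r, s, h⟩ hI.le)
  -- elements of the group are not all central modulo `J`
  have hncent : ¬ ∀ g r, ρ g * r - r * ρ g ∈ J := by
    intro h
    have h' : ∀ x r, x * r - r * x ∈ J := by
      intro x r
      have hx : x ∈ AddSubgroup.closure (Set.range ρ) := hspan ▸ AddSubgroup.mem_top x
      induction hx using AddSubgroup.closure_induction with
      | mem y hy => obtain ⟨g, rfl⟩ := hy; exact h g r
      | zero => simp [zero_mem]
      | add y z _ _ hy hz =>
        rw [show (y + z) * r - r * (y + z) = (y * r - r * y) + (z * r - r * z) by noncomm_ring]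
        exact add_mem hy hz
      | neg y _ hy =>
        rw [show -y * r - r * -y = -(y * r - r * y) by noncomm_ring]
        exact neg_mem hy
    exact hrs (h' r₀ s₀)
  have hgroup : ∀ I, J < I → ∀ g, ρ g - 1 ∈ I := by
    intro I hI g
    let π : R →+* I.ringCon.Quotient := I.ringCon.mk'
    have hcomm : ∀ a b, Commute (π.toMonoidHom.comp ρ a) (π.toMonoidHom.comp ρ b) := fun a b => by
      show π (ρ a) * π (ρ b) = π (ρ b) * π (ρ a)
      rw [← map_mul π, ← map_mul π, ← sub_eq_zero, ← map_sub]
      exact (RingCon.eq _).mpr ((I.mem_iff _).mp (habove I hI _ _))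
    have h := eq_one_of_commute hperf _ hcomm g
    refine (I.mem_iff _).mpr ((RingCon.eq _).mp ?_)
    show π (ρ g - 1) = 0
    rw [map_sub, map_one, sub_eq_zero]
    exact h
  have hσmem : ∀ I : TwoSidedIdeal R, ∃ I' : TwoSidedIdeal R, ∀ x, x ∈ I' ↔ σ x ∈ I := fun I =>
    ⟨TwoSidedIdeal.mk' {x | σ x ∈ I} (by simp [zero_mem])
      (fun {x y} hx hy => by simp only [Set.mem_setOf_eq, map_add]; exact add_mem hx hy)
      (fun {x} hx => by simp only [Set.mem_setOf_eq, map_neg]; exact neg_mem hx)
      (fun {x y} hy => by simp only [Set.mem_setOf_eq, hmul]; exact I.mul_mem_right _ _ hy)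
      (fun {x y} hx => by simp only [Set.mem_setOf_eq, hmul]; exact I.mul_mem_left _ _ hx),
      fun x => by simp⟩
  -- `J` is invariant
  have hσJ : ∀ x ∈ J, σ x ∈ J := by
    obtain ⟨J', hJ'⟩ := hσmem J
    by_contra hcon
    have hnle : ¬ J' ≤ J := fun h => hcon fun x hx =>
      h ((hJ' _).mpr (by rw [hσσ]; exact hx))
    have hlt : J < J ⊔ J' := lt_of_le_not_ge le_sup_left fun h => hnle (le_sup_right.trans h)
    refine hncent fun g r => ?_
    have hcen : ∀ x ∈ J ⊔ J', ∀ r, x * r - r * x ∈ J := by
      let C : AddSubgroup R :=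
        { carrier := {x | ∀ r, x * r - r * x ∈ J}
          zero_mem' := fun r => by simp [zero_mem]
          add_mem' := fun {a b} ha hb r => by
            rw [show (a + b) * r - r * (a + b) = (a * r - r * a) + (b * r - r * b) by noncomm_ring]
            exact add_mem (ha r) (hb r)
          neg_mem' := fun {a} ha r => by
            rw [show -a * r - r * -a = -(a * r - r * a) by noncomm_ring]
            exact neg_mem (ha r) }
      intro x hx
      obtain ⟨a, ha, b, hb, rfl⟩ := TwoSidedIdeal.mem_sup.mp hx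
      refine C.add_mem (fun r => sub_mem (J.mul_mem_right _ _ ha) (J.mul_mem_left _ _ ha))
        fun r => ?_
      have hs : σ b ∈ J := (hJ' b).mp hb
      have e : b * r - r * b = -(σ b * r - r * σ b) := by
        have h := (hcent b r).eq
        rw [add_mul, mul_add] at h
        rw [eq_neg_iff_add_eq_zero, sub_add_sub_comm, h, sub_self]
      rw [e]
      exact neg_mem (sub_mem (J.mul_mem_right _ _ hs) (J.mul_mem_left _ _ hs))
    have h := hcen _ (hgroup _ hlt g) r
    rwa [show (ρ g - 1) * r - r * (ρ g - 1) = ρ g * r - r * ρ g by noncomm_ring] at h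
  set M := J ⊔ TwoSidedIdeal.span (Set.range fun q : R × R => q.1 * q.2 - q.2 * q.1) with hM
  have hJM : J < M := lt_of_le_not_ge le_sup_left fun h => hrs (h ((le_sup_right (a := J))
    (TwoSidedIdeal.subset_span ⟨(r₀, s₀), rfl⟩)))
  have hMmin : ∀ I, J < I → M ≤ I := fun I hI => sup_le hI.le (TwoSidedIdeal.span_le.mpr (by
    rintro _ ⟨⟨r, s⟩, rfl⟩
    exact habove I hI r s))
  have hσM : ∀ x ∈ M, σ x ∈ M := by
    obtain ⟨M', hM'⟩ := hσmem M
    have hlt : J < M' := lt_of_le_not_ge (fun x hx => (hM' x).mpr (hJM.le (hσJ x hx))) fun h => by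
      refine hrs ?_
      have hc : σ s₀ * σ r₀ - σ r₀ * σ s₀ ∈ M :=
        habove M hJM _ _
      exact h ((hM' _).mpr (by rw [map_sub, hmul, hmul]; exact hc))
    exact fun x hx => (hM' x).mp (hMmin M' hlt hx)
  have hneg2 : ∀ a b : R, a - b = a + b := fun a b => by rw [sub_eq_add_neg, hneg]
  -- some trace of an element of `M` lies outside `J`
  obtain ⟨m₀, hm₀, htm⟩ : ∃ m ∈ M, m + σ m ∉ J := by
    by_contra hcon
    simp only [not_exists, not_and, not_not] at hcon
    have hfix : ∀ m ∈ M, σ m - m ∈ J := fun m hm => by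
      rw [hneg2, add_comm]; exact hcon m hm
    have hMc : ∀ m ∈ M, ∀ m' ∈ M, m * m' - m' * m ∈ J := fun m hm m' hm' => by
      have h1 := hfix _ (M.mul_mem_left m m' hm')
      rw [hmul] at h1
      have h2 : σ m' * σ m - m' * m ∈ J := by
        rw [show σ m' * σ m - m' * m = (σ m' - m') * σ m + m' * (σ m - m) by noncomm_ring]
        exact add_mem (J.mul_mem_right _ _ (hfix m' hm')) (J.mul_mem_left _ _ (hfix m hm))
      rw [show m * m' - m' * m = (σ m' * σ m - m' * m) - (σ m' * σ m - m * m') by abel]
      exact sub_mem h2 h1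
    have hMz : ∀ m ∈ M, ∀ g, m * ρ g - ρ g * m ∈ J := fun m hm g => by
      have h := hMc m hm _ (hgroup M hJM g)
      rwa [show m * (ρ g - 1) - (ρ g - 1) * m = m * ρ g - ρ g * m by noncomm_ring] at h
    refine hncent fun g r => ?_
    have hr : r ∈ AddSubgroup.closure (Set.range ρ) := hspan ▸ AddSubgroup.mem_top r
    induction hr using AddSubgroup.closure_induction with
    | mem y hy =>
      obtain ⟨k, rfl⟩ := hy
      have h := hMz _ (hgroup M hJM g) k
      rwa [show (ρ g - 1) * ρ k - ρ k * (ρ g - 1) = ρ g * ρ k - ρ k * ρ g by noncomm_ring] at h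
    | zero => simp [zero_mem]
    | add y z _ _ hy hz =>
      rw [show ρ g * (y + z) - (y + z) * ρ g = (ρ g * y - y * ρ g) + (ρ g * z - z * ρ g) by
        noncomm_ring]
      exact add_mem hy hz
    | neg y _ hy =>
      rw [show ρ g * -y - -y * ρ g = -(ρ g * y - y * ρ g) by noncomm_ring]
      exact neg_mem hy
  set z := m₀ + σ m₀ with hz
  have hzc : ∀ r, Commute z r := hcent m₀
  have hzM : z ∈ M := add_mem hm₀ (hσM _ hm₀)
  -- multiplication by `z` is injective modulo `J`
  have hann : ∀ r, z * r ∈ J → r ∈ J := by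
    let A : TwoSidedIdeal R := TwoSidedIdeal.mk' {r | z * r ∈ J} (by simp [zero_mem])
      (fun {x y} hx hy => by simp only [Set.mem_setOf_eq, mul_add]; exact add_mem hx hy)
      (fun {x} hx => by simp only [Set.mem_setOf_eq, mul_neg]; exact neg_mem hx)
      (fun {x y} hy => by
        simp only [Set.mem_setOf_eq] at hy ⊢
        rw [← mul_assoc, (hzc x).eq, mul_assoc]
        exact J.mul_mem_left _ _ hy)
      (fun {x y} hx => by
        simp only [Set.mem_setOf_eq] at hx ⊢
        rw [← mul_assoc]; exact J.mul_mem_right _ _ hx)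
    have hA : ∀ r, r ∈ A ↔ z * r ∈ J := fun r => by simp [A]
    by_contra hcon
    simp only [not_forall] at hcon
    obtain ⟨r, hr, hr'⟩ := hcon
    have hlt : J < A := lt_of_le_not_ge (fun x hx => (hA x).mpr (J.mul_mem_left _ _ hx))
      fun h => hr' (h ((hA r).mpr hr))
    have hzz : z * z ∈ J := (hA z).mp (hMmin A hlt hzM)
    let P : TwoSidedIdeal R := TwoSidedIdeal.mk' {u | ∃ v, u - z * v ∈ J} ⟨0, by simp [zero_mem]⟩
      (fun {x y} ⟨u, hu⟩ ⟨v, hv⟩ => ⟨u + v, by
        rw [show x + y - z * (u + v) = (x - z * u) + (y - z * v) by noncomm_ring]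
        exact add_mem hu hv⟩)
      (fun {x} ⟨u, hu⟩ => ⟨-u, by
        rw [show -x - z * -u = -(x - z * u) by noncomm_ring]
        exact neg_mem hu⟩)
      (fun {x y} ⟨v, hv⟩ => ⟨x * v, by
        rw [show x * y - z * (x * v) = x * (y - z * v) by
          rw [mul_sub, ← mul_assoc z, (hzc x).eq, mul_assoc]]
        exact J.mul_mem_left _ _ hv⟩)
      (fun {x y} ⟨v, hv⟩ => ⟨v * y, by
        rw [show x * y - z * (v * y) = (x - z * v) * y by noncomm_ring]
        exact J.mul_mem_right _ _ hv⟩)
    have hP : ∀ u, u ∈ P ↔ ∃ v, u - z * v ∈ J := fun u => by simp [P]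
    have hJP : J < P := lt_of_le_not_ge (fun x hx => (hP x).mpr ⟨0, by simpa using hx⟩)
      fun h => htm (h ((hP z).mpr ⟨1, by simp [zero_mem]⟩))
    refine hncent fun g r => ?_
    have hprod : ∀ a b, a ∈ P → b ∈ P → a * b ∈ J := fun a b ha hb => by
      obtain ⟨u, hu⟩ := (hP a).mp ha
      obtain ⟨v, hv⟩ := (hP b).mp hb
      rw [show a * b = (a - z * u) * b + z * u * (b - z * v) + z * z * (u * v) by
        have e : z * u * (z * v) = z * z * (u * v) := by
          rw [mul_assoc z u, ← mul_assoc u z, ← (hzc u).eq]; simp only [mul_assoc]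
        rw [sub_mul, mul_sub, e]; abel]
      exact add_mem (add_mem (J.mul_mem_right _ _ hu) (J.mul_mem_left _ _ hv))
        (J.mul_mem_right _ _ hzz)
    have hr : r ∈ AddSubgroup.closure (Set.range ρ) := hspan ▸ AddSubgroup.mem_top r
    induction hr using AddSubgroup.closure_induction with
    | mem y hy =>
      obtain ⟨k, rfl⟩ := hy
      rw [show ρ g * ρ k - ρ k * ρ g = (ρ g - 1) * (ρ k - 1) - (ρ k - 1) * (ρ g - 1) by
        noncomm_ring]
      exact sub_mem (hprod _ _ (hgroup P hJP g) (hgroup P hJP k))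
        (hprod _ _ (hgroup P hJP k) (hgroup P hJP g))
    | zero => simp [zero_mem]
    | add y w _ _ hy hw =>
      rw [show ρ g * (y + w) - (y + w) * ρ g = (ρ g * y - y * ρ g) + (ρ g * w - w * ρ g) by
        noncomm_ring]
      exact add_mem hy hw
    | neg y _ hy =>
      rw [show ρ g * -y - -y * ρ g = -(ρ g * y - y * ρ g) by noncomm_ring]
      exact neg_mem hy
  refine ⟨J, hσJ, ⟨r₀, s₀, hrs⟩, ⟨m₀, htm⟩, fun I hI => ?_⟩
  -- `z` is invertible modulo `J`, and lies in `M ≤ I`
  let f : J.ringCon.Quotient → J.ringCon.Quotient := fun q => J.ringCon.mk' z * q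
  have : Finite J.ringCon.Quotient := Finite.of_surjective J.ringCon.mk' Quotient.mk''_surjective
  have hf : Function.Injective f := fun a b h => by
    obtain ⟨a, rfl⟩ : ∃ a', J.ringCon.mk' a' = a := Quotient.mk''_surjective a
    obtain ⟨b, rfl⟩ : ∃ b', J.ringCon.mk' b' = b := Quotient.mk''_surjective b
    have h0 : z * (a - b) ∈ J := by
      refine (J.mem_iff _).mpr ((RingCon.eq _).mp ?_)
      show J.ringCon.mk' (z * (a - b)) = 0
      rw [map_mul, map_sub, mul_sub, sub_eq_zero]
      exact h
    rw [← sub_eq_zero, ← map_sub]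
    exact (RingCon.eq _).mpr ((J.mem_iff _).mp (hann _ h0))
  obtain ⟨q, hq⟩ := Finite.surjective_of_injective hf 1
  obtain ⟨v, rfl⟩ : ∃ v', J.ringCon.mk' v' = q := Quotient.mk''_surjective q
  have h1 : z * v - 1 ∈ J := by
    refine (J.mem_iff _).mpr ((RingCon.eq _).mp ?_)
    show J.ringCon.mk' (z * v - 1) = 0
    rw [map_sub, map_mul, map_one, sub_eq_zero]
    exact hq
  have hone : (1 : R) ∈ I := by
    have := sub_mem (I.mul_mem_right _ v (hMmin I hI hzM)) (hI.le h1)
    rwa [sub_sub_cancel] at this
  exact eq_top_iff.mpr fun x _ => by simpa using I.mul_mem_left x 1 hone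

end Two

/-- A finite simple noncommutative ring with a trace map is a ring of `2 × 2` matrices. -/
theorem exists_matrix_two.{u} {S : Type u} [Ring S] [Finite S] [IsSimpleRing S] (h2 : (2 : S) = 0)
    (σ : S → S) (hmul : ∀ x y, σ (x * y) = σ y * σ x) (hcent : ∀ x y, Commute (x + σ x) y)
    (hnc : ∃ x y : S, ¬ Commute x y) :
    ∃ (F : Type u) (_ : Field F) (_ : Finite F), Nonempty (S ≃+* Matrix (Fin 2) (Fin 2) F) := by
  classical
  have : IsArtinianRing S := inferInstance
  obtain ⟨n, hn, D, _, ⟨e⟩⟩ := IsSimpleRing.exists_ringEquiv_matrix_divisionRing S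
  have : Finite D := Finite.of_injective (fun d => e.symm (Matrix.scalar (Fin n) d))
    fun a b h => Matrix.scalar_inj.mp (e.symm.injective h)
  letI : Field D := littleWedderburn D
  have hn3 : n < 3 := by
    by_contra hn3
    push Not at hn3
    let i : Fin n := ⟨0, by omega⟩
    let j : Fin n := ⟨1, by omega⟩
    let l : Fin n := ⟨2, by omega⟩
    have hij : i ≠ j := by simp [i, j, Fin.ext_iff]
    have hil : i ≠ l := by simp [i, l, Fin.ext_iff]
    have hjl : j ≠ l := by simp [j, l, Fin.ext_iff]
    set x := e.symm (Matrix.single i j 1) with hx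
    set y := e.symm (Matrix.single j l 1) with hy
    have hsc : ∀ z : S, (∀ w, Commute z w) → ∀ a b : Fin n, a ≠ b → e z a b = 0 := by
      intro z hz a b hab
      have h := congrArg e (hz (e.symm (Matrix.single b b 1))).eq
      rw [map_mul, map_mul, RingEquiv.apply_symm_apply] at h
      have h' := congrFun (congrFun h a) b
      rw [Matrix.mul_single_apply_same, Matrix.single_mul_apply_of_ne _ _ _ _ _ hab] at h'
      simpa using h'
    obtain ⟨cx, hcx⟩ : ∃ c, c = x + σ x := ⟨_, rfl⟩
    obtain ⟨cy, hcy⟩ : ∃ c, c = y + σ y := ⟨_, rfl⟩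
    obtain ⟨cxy, hcxy⟩ : ∃ c, c = x * y + σ (x * y) := ⟨_, rfl⟩
    have key : x * y + y * x = cxy + cy * x + cx * y - cy * cx := by
      have hneg : ∀ u : S, -u = u := fun u => neg_eq_of_add_eq_zero_left (by
        rw [← two_mul, h2, zero_mul])
      rw [← sub_eq_zero, hcxy, hmul, (show cx * y = y * cx by rw [hcx]; exact (hcent x y).eq),
        hcx, hcy]
      noncomm_ring
      try simp [hneg, ← two_mul, h2]
    have hk := congrArg (fun w => e w i l) key
    simp only [map_add, map_sub, map_mul, Matrix.sub_apply, Matrix.add_apply] at hk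
    have ex : e x = Matrix.single i j 1 := e.apply_symm_apply _
    have ey : e y = Matrix.single j l 1 := e.apply_symm_apply _
    have hcx' : ∀ w, Commute cx w := hcx ▸ hcent x
    have hcy' : ∀ w, Commute cy w := hcy ▸ hcent y
    have h1 : (e cy * e cx) i l = 0 := by
      rw [← map_mul]; exact hsc _ (fun w => (hcy' w).mul_left (hcx' w)) i l hil
    rw [ex, ey, hsc cxy (hcxy ▸ hcent _) i l hil, h1] at hk
    simp only [Matrix.mul_apply, Matrix.single, Matrix.of_apply] at hk
    simp [hij, hil, hjl, hij.symm, hil.symm, hjl.symm, hsc cx hcx' i j hij] at hk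
  have hn1 : n ≠ 1 := by
    rintro rfl
    obtain ⟨x, y, hxy⟩ := hnc
    refine hxy (e.injective ?_)
    rw [map_mul, map_mul]
    ext a b
    rw [Matrix.mul_apply, Matrix.mul_apply, Fin.sum_univ_one, Fin.sum_univ_one,
      Subsingleton.elim a 0, Subsingleton.elim b 0, mul_comm]
  obtain rfl : n = 2 := by
    have := hn.ne
    omega
  exact ⟨D, inferInstance, inferInstance, ⟨e⟩⟩

end CfsgLib.QuadAlg
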