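import Mathlib
import Cfsg.Agent.Lib.Offender.BestReplacement
import Cfsg.Agent.Lib.Offender.QuadraticAlgebra
import Cfsg.Agent.Lib.Layer.Basic

/-!
A best offender `A` and a component `K`: if some element of `A` moves `K`, then some `a ∈ A`
moving `K` has all commutators `[V, a]` fixed by the diagonal of the product of the `⟨a⟩`-orbit
of `K`.
-/

set_option autoImplicit false
set_option linter.style.haveILetI false

open Cfsg
open scoped commutatorElement Pointwise

namespace CfsgLib.Offender.Component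

universe u v

variable {G : Type u} [Group G] {V : Type v} [AddCommGroup V]

section Shift

/-- Conjugation by powers. -/
def shift (a : G) (i : ℕ) (y : G) : G := a ^ i * y * (a ^ i)⁻¹

theorem shift_zero (a y : G) : shift a 0 y = y := by simp [shift]

theorem shift_succ (a : G) (i : ℕ) (y : G) : shift a (i + 1) y = a * shift a i y * a⁻¹ := by
  simp only [shift, pow_succ']
  group

theorem shift_mul (a : G) (i : ℕ) (y z : G) : shift a i (y * z) = shift a i y * shift a i z := by
  simp only [shift]; group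

/-- The product of the first `n` conjugates. -/
def diag (a y : G) : ℕ → G
  | 0 => 1
  | n + 1 => diag a y n * shift a n y

theorem diag_succ' (a y : G) : ∀ n, diag a y (n + 1) = y * (a * diag a y n * a⁻¹)
  | 0 => by simp [diag, shift]
  | n + 1 => by
    have h := diag_succ' a y n
    rw [show diag a y (n + 1 + 1) = diag a y (n + 1) * shift a (n + 1) y from rfl, shift_succ]
    conv_rhs => rw [show diag a y (n + 1) = diag a y n * shift a n y from rfl]
    rw [h]
    group

variable {a : G} {p : ℕ} {K : Subgroup G}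

/-- The conjugates of `K` under distinct powers commute. -/
def Spread (a : G) (p : ℕ) (K : Subgroup G) : Prop :=
  ∀ i j, i < p → j < p → i ≠ j → ∀ y ∈ K, ∀ z ∈ K, Commute (shift a i y) (shift a j z)

theorem commute_diag (h : Spread a p K) {y z : G} (hy : y ∈ K) (hz : z ∈ K) :
    ∀ n j, n ≤ p → j < p → n ≤ j → Commute (shift a j y) (diag a z n)
  | 0, _, _, _, _ => Commute.one_right _
  | n + 1, j, hn, hj, hnj =>
    (commute_diag h hy hz n j (by omega) hj (by omega)).mul_right
      (h j n hj (by omega) (by omega) y hy z hz)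

theorem diag_mul (h : Spread a p K) {y z : G} (hy : y ∈ K) (hz : z ∈ K) :
    ∀ n ≤ p, diag a (y * z) n = diag a y n * diag a z n
  | 0, _ => (one_mul 1).symm
  | n + 1, hn => by
    show diag a (y * z) n * shift a n (y * z) = (diag a y n * shift a n y) * (diag a z n * shift a n z)
    rw [diag_mul h hy hz n (by omega), shift_mul]
    have hc := (commute_diag h hy hz n n (by omega) (by omega) le_rfl).eq
    calc diag a y n * diag a z n * (shift a n y * shift a n z)
        = diag a y n * (diag a z n * shift a n y) * shift a n z := by simp only [mul_assoc]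
      _ = diag a y n * (shift a n y * diag a z n) * shift a n z := by rw [hc]
      _ = _ := by simp only [mul_assoc]

theorem diag_one (a : G) : ∀ n, diag a 1 n = 1
  | 0 => rfl
  | n + 1 => by
    show diag a 1 n * shift a n 1 = 1
    rw [diag_one a n, one_mul, shift, mul_one, mul_inv_cancel]

/-- `y` commutes with the tail of the diagonal. -/
theorem commute_tail (h : Spread a p K) {y z : G} (hy : y ∈ K) (hz : z ∈ K) :
    ∀ n, n + 1 ≤ p → Commute y (a * diag a z n * a⁻¹)
  | 0, _ => by simp [diag]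
  | n + 1, hn => by
    rw [show a * diag a z (n + 1) * a⁻¹ = (a * diag a z n * a⁻¹) * shift a (n + 1) z by
      rw [shift_succ, show diag a z (n + 1) = diag a z n * shift a n z from rfl]; group]
    refine (commute_tail h hy hz n (by omega)).mul_right ?_
    have h0 := h 0 (n + 1) (by omega) (by omega) (by omega) y hy z hz
    rwa [shift_zero] at h0

theorem diag_comm (h : Spread a p K) (hap : a ^ p = 1) (hp : 0 < p) {y : G} (hy : y ∈ K) :
    Commute a (diag a y p) := by
  obtain ⟨n, rfl⟩ : ∃ n, p = n + 1 := ⟨p - 1, by omega⟩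
  have h1 := diag_succ' a y (n + 1)
  have h2 : diag a y (n + 1 + 1) = diag a y (n + 1) * y := by
    show diag a y (n + 1) * shift a (n + 1) y = _
    rw [shift, hap, one_mul, inv_one, mul_one]
  rw [h2, diag_succ' a y n] at h1
  have hc := (commute_tail h hy hy n le_rfl).eq
  have h3 : a * diag a y (n + 1) * a⁻¹ = diag a y (n + 1) := by
    rw [diag_succ' a y n]
    have := mul_left_cancel (((mul_assoc y _ y).symm.trans h1))
    rw [← this, hc]
  show a * _ = _ * a
  exact mul_inv_eq_iff_eq_mul.mp h3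

theorem diag_conj_base (h : Spread a p K) (hp : 0 < p) {k x : G} (hk : k ∈ K) (hx : x ∈ K) :
    diag a k p * x * (diag a k p)⁻¹ = k * x * k⁻¹ := by
  obtain ⟨n, rfl⟩ : ∃ n, p = n + 1 := ⟨p - 1, by omega⟩
  rw [diag_succ']
  have hc := (commute_tail h hx hk n le_rfl).eq
  calc k * (a * diag a k n * a⁻¹) * x * (k * (a * diag a k n * a⁻¹))⁻¹
      = k * ((a * diag a k n * a⁻¹) * x) * (a * diag a k n * a⁻¹)⁻¹ * k⁻¹ := by
        rw [mul_inv_rev]; simp only [mul_assoc]
    _ = k * (x * (a * diag a k n * a⁻¹)) * (a * diag a k n * a⁻¹)⁻¹ * k⁻¹ := by rw [hc]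
    _ = k * x * k⁻¹ := by group

theorem diag_conj_shift (h : Spread a p K) (hap : a ^ p = 1) (hp : 0 < p) {k x : G} (hk : k ∈ K)
    (hx : x ∈ K) (i : ℕ) :
    diag a k p * shift a i x * (diag a k p)⁻¹ = shift a i (k * x * k⁻¹) := by
  have hc := (((diag_comm h hap hp hk).pow_left i).eq)
  rw [← diag_conj_base h hp hk hx, shift, shift]
  calc diag a k p * (a ^ i * x * (a ^ i)⁻¹) * (diag a k p)⁻¹
      = (diag a k p * a ^ i) * x * (diag a k p * a ^ i)⁻¹ := by group
    _ = (a ^ i * diag a k p) * x * (a ^ i * diag a k p)⁻¹ := by rw [hc]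
    _ = _ := by group

theorem diag_conj_of_commute {c y : G} (hc : Commute c a) :
    ∀ n, c * diag a y n * c⁻¹ = diag a (c * y * c⁻¹) n
  | 0 => by simp [diag]
  | n + 1 => by
    show c * (diag a y n * shift a n y) * c⁻¹ = diag a (c * y * c⁻¹) n * shift a n (c * y * c⁻¹)
    rw [← diag_conj_of_commute hc n, shift, shift]
    calc c * (diag a y n * (a ^ n * y * (a ^ n)⁻¹)) * c⁻¹
        = (c * diag a y n * c⁻¹) * ((c * a ^ n) * y * (c * a ^ n)⁻¹) := by group
      _ = (c * diag a y n * c⁻¹) * ((a ^ n * c) * y * (a ^ n * c)⁻¹) := by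
        rw [(hc.pow_right n).eq]
      _ = _ := by group

theorem diag_commute_of_forall {x y : G} :
    ∀ n, (∀ i < n, Commute x (shift a i y)) → Commute x (diag a y n)
  | 0, _ => Commute.one_right x
  | n + 1, h => (diag_commute_of_forall n fun i hi => h i (by omega)).mul_right (h n (by omega))

end Shift

section Facts

variable [Finite G]

theorem commutator_top {K : Subgroup G} (hK : IsComponent K) : commutator ↥K = ⊤ :=
  hK.2.1.commutator_eq_top

theorem center_or_top {K : Subgroup G} (hK : IsComponent K) (N : Subgroup ↥K) (hN : N.Normal) :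
    N = ⊤ ∨ N ≤ Subgroup.center ↥K := by
  haveI := hN
  exact Layer.eq_top_or_le_center_of_normal hK.2 N

theorem commute_conj {K : Subgroup G} (hK : IsComponent K) {c : G}
    (hc : c ∉ Subgroup.normalizer (K : Set G)) {x y : G} (hx : x ∈ K) (hy : y ∈ K) :
    Commute x (c * y * c⁻¹) := by
  have hne : MulAut.conj c • K ≠ K := fun he => hc (Subgroup.mem_normalizer_iff.mpr fun z => by
    constructor
    · intro hz
      rw [← he]
      exact Subgroup.smul_mem_pointwise_smul z (MulAut.conj c) K hz
    · intro hz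
      rw [← he, Subgroup.mem_pointwise_smul_iff_inv_smul_mem] at hz
      simpa [MulAut.smul_def, mul_assoc] using hz)
  have h := Subgroup.commutator_eq_bot_iff_le_centralizer.mp
    (Layer.commutator_eq_bot_of_ne (Layer.isComponent_conj hK c) hK hne)
  exact Subgroup.mem_centralizer_iff.mp
    (h (show c * y * c⁻¹ ∈ MulAut.conj c • K from
      Subgroup.smul_mem_pointwise_smul y (MulAut.conj c) K hy)) x hx

theorem spread {K : Subgroup G} (hK : IsComponent K) {a : G} {p : ℕ} (hp : p.Prime)
    (hap : a ^ p = 1) (ha : a ∉ Subgroup.normalizer (K : Set G)) : Spread a p K := by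
  have hlt : ∀ i j, i < j → j < p → ∀ y ∈ K, ∀ z ∈ K,
      Commute (shift a i y) (shift a j z) := by
    intro i j hij hj y hy z hz
    have hm : a ^ (j - i) ∉ Subgroup.normalizer (K : Set G) := fun hmem => ha (by
      have hgcd : Nat.gcd (j - i) p = 1 :=
        ((hp.coprime_iff_not_dvd).mpr fun h => by
          have := Nat.le_of_dvd (by omega) h
          omega).symm
      obtain ⟨m, hm⟩ := exists_pow_eq_self_of_coprime (x := a) (n := j - i)
        (Nat.Coprime.coprime_dvd_right (orderOf_dvd_of_pow_eq_one hap) hgcd)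
      rw [← hm]
      exact pow_mem hmem m)
    have h := commute_conj hK hm hy hz
    have e : shift a j z = a ^ i * (a ^ (j - i) * z * (a ^ (j - i))⁻¹) * (a ^ i)⁻¹ := by
      rw [shift, show a ^ j = a ^ i * a ^ (j - i) by rw [← pow_add, Nat.add_sub_cancel' hij.le]]
      group
    rw [e]
    exact (Commute.conj_iff (a ^ i)).mpr h
  intro i j hi hj hne y hy z hz
  rcases Nat.lt_or_gt_of_ne hne with h | h
  · exact hlt i j h hj y hy z hz
  · exact (hlt j i h hi z hz y hy).symm

/-- Evaluating at the commutators: `[V, a]`. -/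
def fixRange (φ : G →* AddMonoid.End V) (a : G) : Subgroup G where
  carrier := {g | ∀ v, φ g (φ a v - v) = φ a v - v}
  one_mem' := fun v => by rw [map_one]; rfl
  mul_mem' := fun {g h} hg hh v => by
    rw [map_mul]
    show φ g (φ h _) = _
    rw [hh, hg]
  inv_mem' := fun {g} hg v => by
    conv_lhs => rw [← hg v]
    show (φ g⁻¹ * φ g) _ = _
    rw [← map_mul, inv_mul_cancel, map_one]
    rfl

omit [Finite G] in
theorem mem_fixRange {φ : G →* AddMonoid.End V} {a g : G} :
    g ∈ fixRange φ a ↔ ∀ v, φ g (φ a v - v) = φ a v - v := Iff.rfl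

omit [Finite G] in
theorem conj_mem_fixRange {φ : G →* AddMonoid.End V} {a g h : G} (hg : g ∈ fixRange φ a)
    (hh : Commute h a) : h * g * h⁻¹ ∈ fixRange φ a := by
  intro v
  have e : φ a v - v = φ h (φ a (φ h⁻¹ v) - φ h⁻¹ v) := by
    have hh' : h * a * h⁻¹ = a := by rw [hh.eq, mul_inv_cancel_right]
    rw [map_sub, show φ h (φ a (φ h⁻¹ v)) = (φ h * φ a * φ h⁻¹) v from rfl, ← map_mul, ← map_mul,
      hh', show φ h (φ h⁻¹ v) = (φ h * φ h⁻¹) v from rfl, ← map_mul, mul_inv_cancel, map_one]
    rfl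
  have e2 : h * g * h⁻¹ * h = h * g := inv_mul_cancel_right _ _
  calc φ (h * g * h⁻¹) (φ a v - v) = (φ (h * g * h⁻¹) * φ h) (φ a (φ h⁻¹ v) - φ h⁻¹ v) := by
        rw [e]; rfl
    _ = φ h (φ g (φ a (φ h⁻¹ v) - φ h⁻¹ v)) := by rw [← map_mul, e2, map_mul]; rfl
    _ = φ a v - v := by rw [hg, ← e]

/-- The diagonal as a homomorphism. -/
def diagHom {K : Subgroup G} {a : G} {p : ℕ} (h : Spread a p K) : ↥K →* G where
  toFun y := diag a (y : G) p
  map_one' := by rw [OneMemClass.coe_one, diag_one]
  map_mul' y z := by rw [Subgroup.coe_mul]; exact diag_mul h y.2 z.2 p le_rfl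

/-- An abelian group acting on a component with central displacement centralizes it. -/
theorem commute_of_central {K : Subgroup G} (hK : IsComponent K) {c : G}
    (hc : c ∈ Subgroup.normalizer (K : Set G))
    (h : ∀ y : ↥K, (⟨c * (y : G) * c⁻¹, (Subgroup.mem_normalizer_iff.mp hc _).mp y.2⟩ : ↥K) * y⁻¹ ∈
      Subgroup.center ↥K) : ∀ k ∈ K, c * k = k * c := by
  let θ : ↥K → ↥K := fun y => ⟨c * (y : G) * c⁻¹, (Subgroup.mem_normalizer_iff.mp hc _).mp y.2⟩
  let f : ↥K →* ↥K :=
    { toFun := fun k => θ k * k⁻¹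
      map_one' := Subtype.ext (by simp [θ])
      map_mul' := fun k k' => by
        show θ (k * k') * (k * k')⁻¹ = θ k * k⁻¹ * (θ k' * k'⁻¹)
        rw [show θ (k * k') = θ k * θ k' from Subtype.ext (by simp [θ, mul_assoc]), mul_inv_rev,
          mul_assoc (θ k) k⁻¹, Subgroup.mem_center_iff.mp (h k') k⁻¹]
        simp only [mul_assoc, θ] }
  have hf := QuadAlg.eq_one_of_commute (commutator_top hK) f
    fun g k => (Subgroup.mem_center_iff.mp (h k) _)
  intro k hk
  exact mul_inv_eq_iff_eq_mul.mp (congrArg Subtype.val (mul_inv_eq_one.mp (hf ⟨k, hk⟩)))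

/-- Two automorphism groups acting identically on a moved component act trivially. -/
theorem trivial_of_moved {K : Subgroup G} (hK : IsComponent K) {φ : G →* AddMonoid.End V} {c : G}
    (hc : c ∉ Subgroup.normalizer (K : Set G)) (h1 : φ c = 1) : ∀ k ∈ K, φ k = 1 := by
  have h : ∀ g k : ↥K, Commute (φ (g : G)) (φ (k : G)) := fun g k => by
    have hinv : φ c⁻¹ = 1 := by
      have h2 : φ c⁻¹ * φ c = 1 := by rw [← map_mul, inv_mul_cancel, map_one]
      rwa [h1, mul_one] at h2
    have := (commute_conj hK hc g.2 k.2).map φ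
    rwa [map_mul, map_mul, h1, one_mul, hinv, mul_one] at this
  exact fun k hk => QuadAlg.eq_one_of_commute (commutator_top hK) (φ.comp K.subtype) h ⟨k, hk⟩

end Facts

section Main

variable [Finite G] [Finite V] {p : ℕ} [hp : Fact p.Prime]

theorem exists_fixing (hV : ∀ v : V, p • v = 0) (φ : G →* AddMonoid.End V) {K A : Subgroup G}
    (hK : IsComponent K) (hAc : ∀ a ∈ A, ∀ b ∈ A, a * b = b * a) (hAp : ∀ a ∈ A, a ^ p = 1)
    (hmax : ∀ B ≤ A, measure φ B ≤ measure φ A) (hnt : ∃ k ∈ K, φ k ≠ 1)
    (hcent : ∀ c ∈ A, (∀ k ∈ K, c * k = k * c) → φ c = 1)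
    (hmove : ∃ a ∈ A, a ∉ Subgroup.normalizer (K : Set G)) :
    ∃ a ∈ A, a ∉ Subgroup.normalizer (K : Set G) ∧
      (∀ y ∈ K, diag a y p ∈ fixRange φ a) ∧
      ((∀ c ∈ A, c ∈ fixRange φ a) ∨
        ∃ b ∈ A, b ∈ Subgroup.normalizer (K : Set G) ∧ (¬ ∀ k ∈ K, b * k = k * b) ∧
          ∀ c ∈ A, b ∈ fixRange φ c) := by
  classical
  have hpp := hp.out
  obtain ⟨a₀, ha₀, ha₀N⟩ := hmove
  have hAp' : IsPGroup p A := fun a => ⟨1, Subtype.ext (by
    rw [pow_one, SubmonoidClass.coe_pow]; exact hAp a a.2)⟩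
  have hnt₀ : ∃ c ∈ A, φ c ≠ 1 := by
    refine ⟨a₀, ha₀, fun h => ?_⟩
    obtain ⟨k, hk, hk1⟩ := hnt
    exact hk1 (trivial_of_moved hK ha₀N h k hk)
  obtain ⟨b, hbA, hb1, hbfix⟩ := exists_inner hV hAp' hAc hmax hnt₀
  -- an element of `A` fixing `[V, a]` and normalizing but not centralizing `K`
  have case1 : ∀ a ∈ A, a ∉ Subgroup.normalizer (K : Set G) → ∀ c ∈ A,
      c ∈ Subgroup.normalizer (K : Set G) → (¬ ∀ k ∈ K, c * k = k * c) → c ∈ fixRange φ a →
      ∀ y ∈ K, diag a y p ∈ fixRange φ a := by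
    intro a ha haN c hc hcN hcC hcfix
    have hsp := spread hK hpp (hAp a ha) haN
    let N' : Subgroup ↥K := (fixRange φ a).comap (diagHom hsp)
    have hN' : N'.Normal := ⟨fun n hn g => by
      show diagHom hsp (g * n * g⁻¹) ∈ fixRange φ a
      rw [map_mul, map_mul, map_inv]
      exact conj_mem_fixRange hn (diag_comm hsp (hAp a ha) hpp.pos g.2).symm⟩
    rcases center_or_top hK N' hN' with htop | hle
    · exact fun y hy => (show (⟨y, hy⟩ : ↥K) ∈ N' from htop ▸ Subgroup.mem_top _)
    · refine absurd (commute_of_central hK hcN fun y => hle ?_) hcC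
      show diagHom hsp (_ * y⁻¹) ∈ fixRange φ a
      rw [map_mul, map_inv]
      show diag a (c * (y : G) * c⁻¹) p * (diag a (y : G) p)⁻¹ ∈ fixRange φ a
      rw [← diag_conj_of_commute (hAc c hc a ha) p,
        show c * diag a (y : G) p * c⁻¹ * (diag a (y : G) p)⁻¹ =
          c * (diag a (y : G) p * c⁻¹ * (diag a (y : G) p)⁻¹) by group]
      exact mul_mem hcfix (conj_mem_fixRange (inv_mem hcfix)
        (diag_comm hsp (hAp a ha) hpp.pos y.2).symm)
  by_cases hbN : b ∈ Subgroup.normalizer (K : Set G)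
  · have hbC : ¬ ∀ k ∈ K, b * k = k * b := by
      intro hall
      exact hb1 (hcent b hbA hall)
    exact ⟨a₀, ha₀, ha₀N, case1 a₀ ha₀ ha₀N b hbA hbN hbC (fun v => hbfix a₀ ha₀ v),
      Or.inr ⟨b, hbA, hbN, hbC, fun c hc v => hbfix c hc v⟩⟩
  · have hpair : ∀ c ∈ A, c ∈ fixRange φ b := by
      intro c hc v
      have h := hbfix c hc v
      have e : φ c (φ b v) = φ b (φ c v) := by
        show (φ c * φ b) v = (φ b * φ c) v
        rw [← map_mul, hAc c hc b hbA, map_mul]
      rw [map_sub] at h ⊢
      rw [e]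
      have := sub_eq_iff_eq_add.mp h
      rw [this]
      abel
    refine ⟨b, hbA, hbN, ?_, Or.inl hpair⟩
    by_cases hex : ∃ c ∈ A, c ∈ Subgroup.normalizer (K : Set G) ∧ φ c ≠ 1
    · obtain ⟨c, hc, hcN, hc1⟩ := hex
      exact case1 b hbA hbN c hc hcN (fun hall => hc1 (hcent c hc hall))
        (hpair c hc)
    have hsp := spread hK hpp (hAp b hbA) hbN
    by_cases hout : ∃ c ∈ A, ∀ i : ℤ, b ^ i * c ∉ Subgroup.normalizer (K : Set G)
    · obtain ⟨c, hc, hcout⟩ := hout
      have hdd : ∀ w ∈ K, ∀ z ∈ K, Commute (diag b z p) (c * diag b w p * c⁻¹) := by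
        intro w hw z hz
        rw [diag_conj_of_commute (hAc c hc b hbA) p]
        refine (diag_commute_of_forall p fun i _ => (diag_commute_of_forall p fun j _ => ?_).symm)
        -- shift i (c w c⁻¹) with shift j z
        have hm := hcout ((i : ℤ) - j)
        have h := commute_conj hK hm hz hw
        have h' := (Commute.conj_iff (b ^ j)).mpr h
        have e : b ^ j * (b ^ ((i : ℤ) - j) * c * w * (b ^ ((i : ℤ) - j) * c)⁻¹) * (b ^ j)⁻¹ =
            shift b i (c * w * c⁻¹) := by
          simp only [shift, ← zpow_natCast b]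
          group
        rw [e] at h'
        exact h'.symm
      let N' : Subgroup ↥K := (fixRange φ b).comap (diagHom hsp)
      have hle : commutator ↥K ≤ N' := by
        rw [commutator_def, Subgroup.commutator_le]
        intro z _ y _
        show diagHom hsp ⁅z, y⁆ ∈ fixRange φ b
        rw [map_commutatorElement]
        have hcm : Commute c b := hAc c hc b hbA
        set dy := diagHom hsp y with hdy
        set dz := diagHom hsp z with hdz
        have hdyb : Commute dy b := (diag_comm hsp (hAp b hbA) hpp.pos y.2).symm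
        have hdzb : Commute dz b := (diag_comm hsp (hAp b hbA) hpp.pos z.2).symm
        have hg : dy * (c * dy⁻¹ * c⁻¹) ∈ fixRange φ b := by
          rw [show dy * (c * dy⁻¹ * c⁻¹) = (dy * c * dy⁻¹) * c⁻¹ by group]
          exact mul_mem (conj_mem_fixRange (hpair c hc) hdyb) (inv_mem (hpair c hc))
        have he : Commute dz (c * dy⁻¹ * c⁻¹) := by
          rw [← map_inv (diagHom hsp) y]
          exact hdd _ (y⁻¹).2 _ z.2
        have e : ⁅dz, dy⁆ = dz * (dy * (c * dy⁻¹ * c⁻¹)) * dz⁻¹ * (dy * (c * dy⁻¹ * c⁻¹))⁻¹ := by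
          rw [commutatorElement_def]
          calc dz * dy * dz⁻¹ * dy⁻¹
              = dz * dy * (dz⁻¹ * (c * dy⁻¹ * c⁻¹)) * (c * dy⁻¹ * c⁻¹)⁻¹ * dy⁻¹ := by group
            _ = dz * dy * ((c * dy⁻¹ * c⁻¹) * dz⁻¹) * (c * dy⁻¹ * c⁻¹)⁻¹ * dy⁻¹ := by
              rw [he.inv_left.eq]
            _ = _ := by group
        rw [e]
        exact mul_mem (conj_mem_fixRange hg hdzb) (inv_mem hg)
      rw [commutator_top hK] at hle
      exact fun y hy => hle (Subgroup.mem_top (⟨y, hy⟩ : ↥K))
    -- `A` is `⟨b⟩` times its part normalizing `K`: a transvection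
    simp only [not_exists, not_and, not_not, not_forall] at hex hout
    let t : V →+ V := AddMonoidHom.mk' (fun v => φ b v - v) fun u v => by
      rw [map_add, add_sub_add_comm]
    set B' := A ⊓ Subgroup.normalizer (K : Set G) with hB'
    have hsplit : ∀ c ∈ A, ∃ i : ℤ, ∃ c' ∈ B', c = b ^ i * c' := fun c hc => by
      obtain ⟨i, hi⟩ := hout c hc
      exact ⟨-i, b ^ i * c, ⟨mul_mem (zpow_mem hbA i) hc, hi⟩, by group⟩
    have hB'fix : fixSub φ B' = ⊤ := eq_top_iff.mpr fun v _ c hc => by
      rw [hex c hc.1 hc.2]; rfl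
    have hAfix : fixSub φ A ≤ t.ker := fun v hv => by
      show φ b v - v = 0
      rw [hv b hbA, sub_self]
    have hcardA : Nat.card A ≤ p * Nat.card B' := by
      have hz : Nat.card (Subgroup.zpowers b) ≤ p := by
        rw [Nat.card_zpowers]
        exact Nat.le_of_dvd hpp.pos (orderOf_dvd_of_pow_eq_one (hAp b hbA))
      refine le_trans ?_ (Nat.mul_le_mul_right _ hz)
      rw [← Nat.card_prod]
      choose i c' hc' he using fun c : ↥A => hsplit c c.2
      refine Nat.card_le_card_of_injective
        (fun c => ((⟨b ^ i c, Subgroup.zpow_mem_zpowers b (i c)⟩ : Subgroup.zpowers b),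
          (⟨c' c, hc' c⟩ : ↥B'))) fun x y hxy => Subtype.ext ?_
      simp only [Prod.mk.injEq, Subtype.mk.injEq] at hxy
      rw [he x, he y, hxy.1, hxy.2]
    have hrange : Nat.card t.range ≤ p := by
      have h := hmax B' inf_le_left
      rw [measure, measure, hB'fix, AddSubgroup.card_top] at h
      have hsum : Nat.card V = Nat.card t.range * Nat.card t.ker := by
        rw [AddSubgroup.card_eq_card_quotient_mul_card_addSubgroup t.ker,
          Nat.card_congr (QuotientAddGroup.quotientKerEquivRange t).toEquiv]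
      rw [hsum] at h
      have h2 : Nat.card B' * Nat.card t.ker * Nat.card t.range ≤
          Nat.card B' * Nat.card t.ker * p := by
        calc _ = Nat.card B' * (Nat.card t.range * Nat.card t.ker) := by ring
          _ ≤ Nat.card A * Nat.card (fixSub φ A) := h
          _ ≤ (p * Nat.card B') * Nat.card t.ker :=
              Nat.mul_le_mul hcardA (AddSubgroup.card_le_of_le hAfix)
          _ = _ := by ring
      exact Nat.le_of_mul_le_mul_left h2 (Nat.mul_pos Nat.card_pos Nat.card_pos)
    -- a group acting on a group of order `p` acts through an abelian group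
    obtain ⟨v₀, hv₀⟩ : ∃ v₀, t v₀ ≠ 0 := by
      by_contra h
      simp only [not_exists, not_not] at h
      exact hb1 (DFunLike.ext _ _ fun v => sub_eq_zero.mp (h v))
    have hgen : ∀ v, ∃ n : ℤ, t v = n • t v₀ := by
      have hord : addOrderOf (t v₀) = p := addOrderOf_eq_prime (hV _) hv₀
      have heq : AddSubgroup.zmultiples (t v₀) = t.range := by
        refine AddSubgroup.eq_of_le_of_card_ge
          (AddSubgroup.zmultiples_le.mpr ⟨v₀, rfl⟩) ?_
        rw [Nat.card_zmultiples, hord]
        exact hrange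
      intro v
      have hmem : t v ∈ t.range := ⟨v, rfl⟩
      rw [← heq] at hmem
      obtain ⟨n, hn⟩ := AddSubgroup.mem_zmultiples_iff.mp hmem
      exact ⟨n, hn.symm⟩
    let N' : Subgroup ↥K := (fixRange φ b).comap (diagHom hsp)
    have hle : commutator ↥K ≤ N' := by
      rw [commutator_def, Subgroup.commutator_le]
      intro z _ y _
      show diagHom hsp ⁅z, y⁆ ∈ fixRange φ b
      rw [map_commutatorElement]
      set g := diagHom hsp z
      set h := diagHom hsp y
      have hact : ∀ x : G, Commute x b → ∀ v, φ x (t v) = t (φ x v) := fun x hx v => by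
        show φ x (φ b v - v) = φ b (φ x v) - φ x v
        rw [map_sub]
        congr 1
        show (φ x * φ b) v = (φ b * φ x) v
        rw [← map_mul, hx.eq, map_mul]
      have hgb : Commute g b := (diag_comm hsp (hAp b hbA) hpp.pos z.2).symm
      have hhb : Commute h b := (diag_comm hsp (hAp b hbA) hpp.pos y.2).symm
      obtain ⟨n, hn⟩ := hgen (φ g v₀)
      obtain ⟨m, hm⟩ := hgen (φ h v₀)
      rw [← hact g hgb] at hn
      rw [← hact h hhb] at hm
      have hcommv : ∀ v, φ g (φ h (t v)) = φ h (φ g (t v)) := fun v => by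
        obtain ⟨l, hl⟩ := hgen v
        simp only [hl, map_zsmul, hn, hm]
        rw [smul_comm m n]
      intro v
      have hv' : ∃ u, t u = φ g⁻¹ (φ h⁻¹ (t v)) :=
        ⟨φ g⁻¹ (φ h⁻¹ v), by rw [← hact _ hgb.inv_left, ← hact _ hhb.inv_left]⟩
      obtain ⟨u, hu⟩ := hv'
      show φ ⁅g, h⁆ (t v) = t v
      rw [commutatorElement_def, map_mul, map_mul, map_mul]
      show φ g (φ h (φ g⁻¹ (φ h⁻¹ (t v)))) = t v
      rw [← hu, hcommv, hu]
      show φ h ((φ g * φ g⁻¹) (φ h⁻¹ (t v))) = t v
      rw [← map_mul, mul_inv_cancel, map_one]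
      show (φ h * φ h⁻¹) (t v) = t v
      rw [← map_mul, mul_inv_cancel, map_one]
      rfl
    rw [commutator_top hK] at hle
    exact fun y hy => hle (Subgroup.mem_top (⟨y, hy⟩ : ↥K))

end Main

end CfsgLib.Offender.Component
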