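import Mathlib
import Cfsg.Agent.Lib.Offender.QuadraticAlgebra

/-!
An abelian group of exponent `2` acting on `2 × 2` matrices over a finite field of characteristic
`2`, containing a nontrivial element fixing the scalars, has at most `q³` as the product of its
image and its fixed point set.
-/

set_option autoImplicit false
set_option linter.style.haveILetI false

namespace CfsgLib.QuadAlg

open Matrix

variable {F : Type*} [Field F]

theorem exists_inner_form [Finite F] [CharP F 2] (β : Matrix (Fin 2) (Fin 2) F ≃+* Matrix (Fin 2) (Fin 2) F)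
    (hsc : ∀ c, β (scalar (Fin 2) c) = scalar (Fin 2) c) (hinv : ∀ x, β (β x) = x) :
    ∃ N : Matrix (Fin 2) (Fin 2) F, N * N = 0 ∧ ∀ x, β x = (1 + N) * x * (1 + N) := by
  classical
  let βa : Matrix (Fin 2) (Fin 2) F ≃ₐ[F] Matrix (Fin 2) (Fin 2) F :=
    AlgEquiv.ofRingEquiv (R := F) (f := β) (fun (c : F) => by
      rw [Algebra.algebraMap_eq_smul_one, smul_one_eq_diagonal]
      exact hsc c)
  let g := (toLinAlgEquiv' (R := F) (n := Fin 2)).symm.trans (βa.trans (toLinAlgEquiv'))
  obtain ⟨T, hT⟩ := g.eq_linearEquivConjAlgEquiv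
  set u := (toLinAlgEquiv' (R := F) (n := Fin 2)).symm T.toLinearMap with hu
  set v := (toLinAlgEquiv' (R := F) (n := Fin 2)).symm T.symm.toLinearMap with hv
  have huv : u * v = 1 := by
    rw [hu, hv, ← map_mul, ← map_one (toLinAlgEquiv' (R := F) (n := Fin 2)).symm]
    congr 1
    exact LinearMap.ext fun w => T.apply_symm_apply w
  have hvu : v * u = 1 := mul_eq_one_comm.mp huv
  have hconj : ∀ x, β x = u * x * v := by
    intro x
    have h := congrArg (fun f => (toLinAlgEquiv' (R := F) (n := Fin 2)).symm
      (f ((toLinAlgEquiv' (R := F) (n := Fin 2)) x))) hT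
    simp only [g, AlgEquiv.trans_apply, AlgEquiv.symm_apply_apply] at h
    rw [LinearEquiv.conjAlgEquiv_apply] at h
    rw [show β x = βa x from rfl, h, ← Module.End.mul_eq_comp, ← Module.End.mul_eq_comp]
    simp only [map_mul, AlgEquiv.symm_apply_apply, hu, hv, mul_assoc]
  -- `u * u` is a scalar, and a square
  obtain ⟨l, hl⟩ : ∃ l, u * u = scalar (Fin 2) l := by
    have hc : ∀ x, Commute x (u * u) := fun x => by
      have h := hinv x
      rw [hconj, hconj] at h
      calc x * (u * u) = u * (u * x * v) * v * (u * u) := by rw [h]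
        _ = u * u * x * (v * (v * u) * u) := by simp only [mul_assoc]
        _ = u * u * x := by rw [hvu, mul_one, hvu, mul_one]
    obtain ⟨l, hl⟩ := Matrix.mem_range_scalar_of_commute_single (M := u * u)
      fun i j _ => (hc _)
    exact ⟨l, hl.symm⟩
  have hl0 : l ≠ 0 := by
    rintro rfl
    rw [map_zero] at hl
    have : (u * v) * (u * v) = 0 := by
      rw [show (u * v) * (u * v) = u * (v * u) * v by simp only [mul_assoc], hvu, mul_one]
      calc u * v = (u * u) * (v * v) := by
            rw [show (u * u) * (v * v) = u * (u * v) * v by simp only [mul_assoc], huv, mul_one,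
              huv]
        _ = 0 := by rw [hl, zero_mul]
    rw [huv, mul_one] at this
    exact one_ne_zero this
  obtain ⟨m, hm⟩ := surjective_frobenius F 2 l
  rw [frobenius_def, pow_two] at hm
  have hm0 : m ≠ 0 := by rintro rfl; exact hl0 (by simpa using hm.symm)
  refine ⟨m⁻¹ • u + 1, ?_, fun x => ?_⟩
  · have h2 : ∀ y : Matrix (Fin 2) (Fin 2) F, y + y = 0 := fun y => by
      ext i j; exact CharTwo.add_self_eq_zero _
    have e : (m⁻¹ • u) * (m⁻¹ • u) = 1 := by
      rw [smul_mul_smul_comm, hl, scalar_apply, ← smul_one_eq_diagonal, smul_smul,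
        ← mul_inv, hm, inv_mul_cancel₀ hl0, one_smul]
    rw [add_mul, mul_add, one_mul, mul_one, e]
    exact (by abel : (1 : Matrix (Fin 2) (Fin 2) F) + m⁻¹ • u + (m⁻¹ • u + 1) =
      (1 + 1) + (m⁻¹ • u + m⁻¹ • u)).trans (by rw [h2, h2, add_zero])
  · have h2 : (1 : Matrix (Fin 2) (Fin 2) F) + (m⁻¹ • u + 1) = m⁻¹ • u := by
      rw [add_comm (m⁻¹ • u), ← add_assoc]
      have : (1 : Matrix (Fin 2) (Fin 2) F) + 1 = 0 := by
        ext i j; exact CharTwo.add_self_eq_zero _
      rw [this, zero_add]
    have hv' : v = (m⁻¹ * m⁻¹) • u := by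
      have : u * ((m⁻¹ * m⁻¹) • u) = 1 := by
        rw [mul_smul_comm, hl, scalar_apply, ← smul_one_eq_diagonal, smul_smul, ← mul_inv, hm,
          inv_mul_cancel₀ hl0, one_smul]
      calc v = v * (u * ((m⁻¹ * m⁻¹) • u)) := by rw [this, mul_one]
        _ = _ := by rw [← mul_assoc, hvu, one_mul]
    rw [h2, hconj, hv', smul_mul_assoc, smul_mul_assoc, mul_smul_comm, mul_smul_comm, smul_smul]

theorem card_le_two_of_sq_eq_one {F : Type*} [Field F] [Finite F] [CharP F 2]
    {H : Type*} [Group H] [Finite H] (χ : H →* RingAut F) (hH : ∀ h : H, h * h = 1) :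
    χ.ker.index ≤ 2 := by
  classical
  haveI := Fintype.ofFinite F
  letI : Algebra (ZMod 2) F := ZMod.algebra F 2
  let f : RingAut F →* (F ≃ₐ[ZMod 2] F) :=
    { toFun := fun e => AlgEquiv.ofRingEquiv (f := e) (fun c => by
        obtain ⟨n, rfl⟩ := ZMod.natCast_zmod_surjective c
        rw [map_natCast, map_natCast])
      map_one' := AlgEquiv.ext fun _ => rfl
      map_mul' := fun _ _ => AlgEquiv.ext fun _ => rfl }
  have hf : Function.Injective f := fun a b h => RingEquiv.ext fun x => AlgEquiv.congr_fun h x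
  have hker : (f.comp χ).ker = χ.ker := by
    ext h
    exact ⟨fun e => hf (e.trans (map_one f).symm), fun e => by rw [MonoidHom.mem_ker, MonoidHom.comp_apply, e, map_one]⟩
  rw [← hker, Subgroup.index_ker]
  haveI : Fintype (F ≃ₐ[ZMod 2] F) := Fintype.ofFinite _
  rw [Nat.card_eq_fintype_card, Fintype.card_subtype]
  refine le_trans (Finset.card_le_card ?_) (IsCyclic.card_pow_eq_one_le (α := F ≃ₐ[ZMod 2] F) two_pos)
  intro e he
  obtain ⟨h, rfl⟩ := (Finset.mem_filter.mp he).2
  refine Finset.mem_filter.mpr ⟨Finset.mem_univ _, ?_⟩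
  rw [pow_two, ← map_mul, hH, map_one]

/-- The counting bound. -/
theorem card_range_mul_card_fix [Finite F] [CharP F 2] {H : Type*} [Group H] [Finite H]
    (hH : ∀ h : H, h * h = 1) (ψ : H →* RingAut (Matrix (Fin 2) (Fin 2) F)) {b : H}
    (hb : ∀ c, ψ b (scalar (Fin 2) c) = scalar (Fin 2) c) (hb1 : ψ b ≠ 1) :
    Nat.card ψ.range * Nat.card {x : Matrix (Fin 2) (Fin 2) F // ∀ h, ψ h x = x} ≤
      Nat.card F ^ 3 := by
  classical
  set M := Matrix (Fin 2) (Fin 2) F
  have hcomm : ∀ g h : H, g * h = h * g := fun g h => by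
    have hgi : ∀ g : H, g⁻¹ = g := fun g => inv_eq_of_mul_eq_one_left (hH g)
    rw [← hgi (g * h), _root_.mul_inv_rev, hgi, hgi]
  have hinv : ∀ h x, ψ h (ψ h x) = x := fun h x => by
    show (ψ h * ψ h) x = x
    rw [← map_mul, hH, map_one]; rfl
  have hswap : ∀ g h x, ψ g (ψ h x) = ψ h (ψ g x) := fun g h x => by
    show (ψ g * ψ h) x = (ψ h * ψ g) x
    rw [← map_mul, hcomm, map_mul]
  have h2 : ∀ y : M, y + y = 0 := fun y => by ext i j; exact CharTwo.add_self_eq_zero _
  obtain ⟨N, hN0, hN⟩ := exists_inner_form (ψ b) hb (hinv b)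
  have hN1 : N ≠ 0 := by
    rintro rfl
    refine hb1 (RingEquiv.ext fun x => ?_)
    rw [hN, add_zero, one_mul, mul_one]
    rfl
  obtain ⟨v, hv⟩ : ∃ v : Fin 2 → F, N *ᵥ v ≠ 0 := by
    by_contra h
    simp only [not_exists, not_not] at h
    exact hN1 (Matrix.ext_of_mulVec_single fun i => by rw [h, Matrix.zero_mulVec])
  have hli : LinearIndependent F ![v, N *ᵥ v] := by
    rw [LinearIndependent.pair_iff]
    intro s t hst
    have h1 := congrArg (N *ᵥ ·) hst
    simp only [Matrix.mulVec_add, Matrix.mulVec_smul, Matrix.mulVec_mulVec, hN0,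
      Matrix.zero_mulVec, smul_zero, add_zero, Matrix.mulVec_zero] at h1
    rcases smul_eq_zero.mp h1 with rfl | h
    · rw [zero_smul, zero_add] at hst
      exact ⟨rfl, (smul_eq_zero.mp hst).resolve_right hv⟩
    · exact absurd h hv
  let B := basisOfLinearIndependentOfCardEqFinrank hli (by simp)
  let C : AddSubgroup M :=
    { carrier := {x | Commute N x}
      zero_mem' := Commute.zero_right N
      add_mem' := fun hx hy => hx.add_right hy
      neg_mem' := fun hx => hx.neg_right }
  have hCinj : ∀ x ∈ C, ∀ y ∈ C, x *ᵥ v = y *ᵥ v → x = y := by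
    intro x hx y hy hxy
    apply Matrix.toLin'.injective
    refine B.ext fun i => ?_
    have hB : B i = ![v, N *ᵥ v] i := by simp [B]
    rw [hB, Matrix.toLin'_apply, Matrix.toLin'_apply]
    fin_cases i
    · exact hxy
    · show x *ᵥ (N *ᵥ v) = y *ᵥ (N *ᵥ v)
      rw [Matrix.mulVec_mulVec, Matrix.mulVec_mulVec, ← hx.eq, ← hy.eq, ← Matrix.mulVec_mulVec,
        ← Matrix.mulVec_mulVec, hxy]
  have hC : Nat.card C ≤ Nat.card F ^ 2 := by
    rw [show Nat.card F ^ 2 = Nat.card (Fin 2 → F) by rw [Nat.card_fun, Nat.card_fin]]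
    exact Nat.card_le_card_of_injective (fun x : C => (x : M) *ᵥ v)
      fun x y h => Subtype.ext (hCinj x x.2 y y.2 h)
  let Fx : AddSubgroup M :=
    { carrier := {x | ∀ h, ψ h x = x}
      zero_mem' := fun h => map_zero _
      add_mem' := fun {x y} hx hy h => by rw [map_add, hx h, hy h]
      neg_mem' := fun {x} hx h => by rw [map_neg, hx h] }
  have hFxC : Fx ≤ C := by
    intro x hx
    have h := hx b
    rw [hN] at h
    have h11 : (1 + N) * (1 + N) = 1 := by
      rw [show (1 + N) * (1 + N) = 1 + (N + N) + N * N by noncomm_ring, h2, hN0, add_zero,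
        add_zero]
    have h' := congrArg (fun z => (1 + N) * z) h
    simp only [← mul_assoc, h11, one_mul] at h'
    simp only [mul_add, add_mul, one_mul, mul_one] at h'
    show N * x = x * N
    exact (add_left_cancel h').symm
  have hscal : ∀ h c, ψ h (scalar (Fin 2) c) = scalar (Fin 2) (ψ h (scalar (Fin 2) c) 0 0) := by
    intro h c
    have hc : ∀ x, Commute x (ψ h (scalar (Fin 2) c)) := fun x => by
      rw [← hinv h x]
      exact ((scalar_commute c (fun r => Commute.all c r) (ψ h x)).symm).map (ψ h)
    obtain ⟨l, hl⟩ := Matrix.mem_range_scalar_of_commute_single fun i j _ => hc (Matrix.single i j 1)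
    rw [← hl]
    simp
  let τ : H →* RingAut F :=
    { toFun := fun h =>
        { toFun := fun c => ψ h (scalar (Fin 2) c) 0 0
          invFun := fun c => ψ h (scalar (Fin 2) c) 0 0
          left_inv := fun c => by
            show ψ h (scalar (Fin 2) (ψ h (scalar (Fin 2) c) 0 0)) 0 0 = c
            rw [← hscal, hinv]; simp
          right_inv := fun c => by
            show ψ h (scalar (Fin 2) (ψ h (scalar (Fin 2) c) 0 0)) 0 0 = c
            rw [← hscal, hinv]; simp
          map_mul' := fun c d => by
            show ψ h (scalar (Fin 2) (c * d)) 0 0 = _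
            rw [map_mul, map_mul, hscal h c, hscal h d, ← map_mul]
            simp
          map_add' := fun c d => by
            show ψ h (scalar (Fin 2) (c + d)) 0 0 = _
            rw [map_add, map_add]; rfl }
      map_one' := RingEquiv.ext fun c => by
        show (ψ 1) (scalar (Fin 2) c) 0 0 = c
        rw [map_one]; simp
      map_mul' := fun g h => RingEquiv.ext fun c => by
        show ψ (g * h) (scalar (Fin 2) c) 0 0 = ψ g (scalar (Fin 2) (ψ h (scalar (Fin 2) c) 0 0)) 0 0
        rw [← hscal, map_mul]; rfl }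
  set H0 := τ.ker with hH0
  have hH0mem : ∀ h ∈ H0, ∀ c, ψ h (scalar (Fin 2) c) = scalar (Fin 2) c := fun h hh c => by
    rw [hscal h c]
    exact congrArg (scalar (Fin 2)) (RingEquiv.congr_fun (MonoidHom.mem_ker.mp hh) c)
  have hinner : ∀ h ∈ H0, ∃ t : F, ∀ x, ψ h x = (1 + t • N) * x * (1 + t • N) := by
    intro h hh
    obtain ⟨N', hN'0, hN'⟩ := exists_inner_form (ψ h) (hH0mem h hh) (hinv h)
    have hsq : ∀ P : M, P * P = 0 → (1 + P) * (1 + P) = 1 := fun P hP => by
      rw [show (1 + P) * (1 + P) = 1 + (P + P) + P * P by noncomm_ring, h2, hP, add_zero, add_zero]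
    set U := (1 : M) + N with hU
    set W := (1 : M) + N' with hW
    have hUU := hsq N hN0
    have hWW := hsq N' hN'0
    have hc : ∀ x, Commute x (U * W * U * W) := fun x => by
      have e := hswap b h (W * U * x * U * W)
      rw [hN', hN, hN, hN'] at e
      simp only [← hU, ← hW] at e hWW hUU
      have e1 : W * (W * U * x * U * W) * W = U * x * U := by
        calc W * (W * U * x * U * W) * W = (W * W) * U * x * U * (W * W) := by
              simp only [mul_assoc]
          _ = _ := by rw [hWW, one_mul, mul_one]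
      rw [e1, show U * (U * x * U) * U = (U * U) * x * (U * U) by simp only [mul_assoc], hUU,
        one_mul, mul_one] at e
      have e2 : W * U * W * U * x * U * W * U * W = x := by
        conv_rhs => rw [e]
        simp only [mul_assoc]
      have e3 : (U * W * U * W) * (W * U * W * U) = 1 := by
        rw [show (U * W * U * W) * (W * U * W * U) = U * W * (U * (W * W) * U) * W * U by
          simp only [mul_assoc], hWW, mul_one, hUU, mul_one,
          show U * W * W * U = U * (W * W) * U by simp only [mul_assoc], hWW, mul_one, hUU]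
      show x * (U * W * U * W) = (U * W * U * W) * x
      calc x * (U * W * U * W) = (U * W * U * W) * (W * U * W * U) * x * (U * W * U * W) := by
            rw [e3, one_mul]
        _ = (U * W * U * W) * (W * U * W * U * x * U * W * U * W) := by simp only [mul_assoc]
        _ = _ := by rw [e2]
    obtain ⟨l, hl⟩ := Matrix.mem_range_scalar_of_commute_single fun i j _ => hc (Matrix.single i j 1)
    have hWUW : W * U * W = l • U := by
      calc W * U * W = U * (U * W * U * W) := by
            rw [show U * (U * W * U * W) = (U * U) * (W * U * W) by simp only [mul_assoc], hUU,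
              one_mul]
        _ = l • U := by rw [← hl, scalar_apply, ← smul_one_eq_diagonal, mul_smul_comm, mul_one]
    have hl1 : l = 1 := by
      have hll : (l * l) • (1 : Matrix (Fin 2) (Fin 2) F) = 1 := by
        rw [← hUU, ← smul_mul_smul_comm, ← hWUW,
          show W * U * W * (W * U * W) = W * U * (W * W) * U * W by simp only [mul_assoc], hWW,
          mul_one, show W * U * U * W = W * (U * U) * W by simp only [mul_assoc], hUU, mul_one,
          hWW]
      have h00 := congrFun (congrFun hll 0) 0
      simp only [Matrix.smul_apply, smul_eq_mul] at h00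
      rw [Matrix.one_apply_eq, mul_one] at h00
      rcases mul_self_eq_one_iff.mp h00 with h | h
      · exact h
      · rw [h, CharTwo.neg_eq]
    have hcm : Commute N N' := by
      have h' : U * W = W * U := by
        rw [hl1, one_smul] at hWUW
        calc U * W = W * U * W * W := by rw [hWUW]
          _ = W * U * (W * W) := by simp only [mul_assoc]
          _ = _ := by rw [hWW, mul_one]
      show N * N' = N' * N
      rw [hU, hW, show (1 + N) * (1 + N') = 1 + N + N' + N * N' by noncomm_ring,
        show (1 + N') * (1 + N) = 1 + N + N' + N' * N by noncomm_ring] at h'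
      exact add_left_cancel h'
    obtain ⟨c₀, t, hct⟩ : ∃ c t : F, N' *ᵥ v = c • v + t • (N *ᵥ v) := by
      refine ⟨B.repr (N' *ᵥ v) 0, B.repr (N' *ᵥ v) 1, ?_⟩
      conv_lhs => rw [← B.sum_repr (N' *ᵥ v)]
      rw [Fin.sum_univ_two]
      simp [B]
    have hN'eq : N' = c₀ • (1 : M) + t • N := by
      refine hCinj _ hcm _ ?_ ?_
      · exact ((Commute.one_right N).smul_right c₀).add_right ((Commute.refl N).smul_right t)
      · rw [hct, Matrix.add_mulVec, Matrix.smul_mulVec, Matrix.smul_mulVec, Matrix.one_mulVec]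
    have hc0 : c₀ = 0 := by
      rw [hN'eq, add_mul, mul_add, mul_add] at hN'0
      simp only [smul_mul_smul_comm, one_mul, mul_one, hN0, smul_zero, add_zero] at hN'0
      rw [mul_comm t c₀, add_assoc, h2, add_zero] at hN'0
      have h00 := congrFun (congrFun hN'0 0) 0
      simp only [Matrix.smul_apply, Matrix.zero_apply, smul_eq_mul] at h00
      rw [Matrix.one_apply_eq, mul_one] at h00
      exact mul_self_eq_zero.mp h00
    exact ⟨t, fun x => by rw [hN']; simp only [hW, hN'eq, hc0, zero_smul, zero_add]⟩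
  have hrange0 : Nat.card ↥(H0.map ψ) ≤ Nat.card F := by
    choose f hf using fun y : ↥(H0.map ψ) => (Subgroup.mem_map.mp y.2)
    choose t ht using fun y : ↥(H0.map ψ) => hinner (f y) (hf y).1
    refine Nat.card_le_card_of_injective t fun y z hyz => Subtype.ext (RingEquiv.ext fun x => ?_)
    rw [← (hf y).2, ← (hf z).2, ht y x, ht z x, hyz]
  have hidx := card_le_two_of_sq_eq_one τ hH
  have hrange : Nat.card ψ.range ≤ H0.index * Nat.card F := by
    have h1 : (H0.map ψ).relIndex ψ.range * Nat.card ↥(H0.map ψ) = Nat.card ψ.range := by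
      have hle : H0.map ψ ≤ ψ.range := Subgroup.map_le_range ψ H0
      rw [← Subgroup.relIndex_bot_left, ← Subgroup.relIndex_bot_left, mul_comm]
      exact Subgroup.relIndex_mul_relIndex _ _ _ bot_le hle
    have h2 : (H0.map ψ).relIndex ψ.range ≤ H0.index := by
      rw [MonoidHom.range_eq_map, ← Subgroup.relIndex_top_right H0, Subgroup.relIndex_map_map,
        top_sup_eq]
      exact Nat.le_of_dvd (Nat.pos_of_ne_zero Subgroup.index_ne_zero_of_finite)
        (Subgroup.relIndex_dvd_of_le_left _ le_sup_left)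
    rw [← h1]
    exact Nat.mul_le_mul h2 hrange0
  show Nat.card ψ.range * Nat.card Fx ≤ _
  rcases eq_or_ne H0 ⊤ with htop | hne
  · rw [htop, Subgroup.index_top, one_mul] at hrange
    calc _ ≤ Nat.card F * Nat.card F ^ 2 :=
          Nat.mul_le_mul hrange ((AddSubgroup.card_le_of_le hFxC).trans hC)
      _ = _ := by ring
  · obtain ⟨h₀, hh₀⟩ : ∃ h, h ∉ H0 := by
      by_contra hcon
      simp only [not_exists, not_not] at hcon
      exact hne (eq_top_iff.mpr fun h _ => hcon h)
    have hlt : Fx < C := lt_of_le_not_ge hFxC fun hge => hh₀ (MonoidHom.mem_ker.mpr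
      (RingEquiv.ext fun c => by
        have hmem : scalar (Fin 2) c ∈ C := (scalar_commute c (fun r => Commute.all c r) N).symm
        show ψ h₀ (scalar (Fin 2) c) 0 0 = c
        rw [hge hmem h₀]; simp))
    have hhalf : 2 * Nat.card Fx ≤ Nat.card C := by
      have h1 : Fx.relIndex C * Nat.card Fx = Nat.card C := by
        rw [← AddSubgroup.relIndex_bot_left, ← AddSubgroup.relIndex_bot_left, mul_comm]
        exact AddSubgroup.relIndex_mul_relIndex _ _ _ bot_le hFxC
      have h3 : Fx.relIndex C ≠ 1 := fun h => hlt.not_ge (AddSubgroup.relIndex_eq_one.mp h)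
      have h4 : Fx.relIndex C ≠ 0 := fun h => by
        rw [h, zero_mul] at h1
        exact Nat.card_pos.ne h1
      rw [← h1]
      exact Nat.mul_le_mul_right _ (by omega)
    calc Nat.card ψ.range * Nat.card Fx ≤ (2 * Nat.card F) * Nat.card Fx :=
          Nat.mul_le_mul_right _ (hrange.trans (Nat.mul_le_mul_right _ hidx))
      _ = Nat.card F * (2 * Nat.card Fx) := by ring
      _ ≤ Nat.card F * Nat.card F ^ 2 := Nat.mul_le_mul_left _ (hhalf.trans hC)
      _ = _ := by ring

/-- A perfect group has trivial image in `GL₂(2)`. -/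
theorem trivial_of_card_two [Finite F] (hF : Nat.card F = 2) {Γ : Type*} [Group Γ]
    (hperf : commutator Γ = ⊤) (ρ : Γ →* Matrix (Fin 2) (Fin 2) F) : ∀ g, ρ g = 1 := by
  classical
  haveI := Fintype.ofFinite F
  haveI : Fact (Nat.Prime 3) := ⟨Nat.prime_three⟩
  have hU : Nat.card (GL (Fin 2) F) = 6 := by
    rw [Matrix.card_GL_field, Fin.prod_univ_two]
    simp [← Nat.card_eq_fintype_card, hF]
  obtain ⟨s, hs⟩ := exists_prime_orderOf_dvd_card' (G := GL (Fin 2) F) 3 (by rw [hU]; decide)
  set S := Subgroup.zpowers s with hS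
  have hidx : S.index = 2 := by
    have h := S.index_mul_card
    rw [Nat.card_zpowers, hs, hU] at h
    omega
  haveI := Subgroup.normal_of_index_eq_two hidx
  have hcom : _root_.commutator (GL (Fin 2) F) ≤ S := by
    refine (Subgroup.Normal.quotient_commutative_iff_commutator_le).mp ?_
    haveI : Fact (Nat.Prime 2) := ⟨Nat.prime_two⟩
    haveI : IsCyclic (GL (Fin 2) F ⧸ S) := isCyclic_of_prime_card (p := 2) hidx
    exact IsCyclic.isMulCommutative
  have hmem : ∀ g, ρ.toHomUnits g ∈ S := fun g => by
    have hle : commutator Γ ≤ S.comap ρ.toHomUnits := by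
      rw [commutator_def, ← Subgroup.map_le_iff_le_comap, Subgroup.map_commutator]
      exact (Subgroup.commutator_mono le_top le_top).trans hcom
    exact hle (hperf ▸ Subgroup.mem_top g)
  refine eq_one_of_commute hperf ρ fun g k => ?_
  obtain ⟨i, hi⟩ := Subgroup.mem_zpowers_iff.mp (hmem g)
  obtain ⟨j, hj⟩ := Subgroup.mem_zpowers_iff.mp (hmem k)
  have h : Commute (ρ.toHomUnits g) (ρ.toHomUnits k) := by
    rw [← hi, ← hj]; exact (Commute.refl s).zpow_zpow i j
  exact congrArg Units.val h.eq

end CfsgLib.QuadAlg
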