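import Mathlib
import Cfsg.Agent.Lib.Offender.QuadraticAlgebra
import Cfsg.Agent.Lib.Offender.MatrixTwoCount

/-!
Counting fixed points in a finite ring spanned by a quasisimple group, for a group of exponent
`2` acting compatibly with an antiautomorphism whose traces are central.
-/

set_option autoImplicit false
set_option linter.style.haveILetI false

namespace CfsgLib.QuadAlg

universe u

variable {R : Type u} [Ring R]

theorem card_eq_card_ker_mul [Finite R] {S : Type*} [AddGroup S] (f : R →+ S) :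
    Nat.card R = Nat.card f.range * Nat.card f.ker := by
  rw [AddSubgroup.card_eq_card_quotient_mul_card_addSubgroup f.ker,
    Nat.card_congr (QuotientAddGroup.quotientKerEquivRange f).toEquiv]

/-- Surjection onto a power of a simple quotient. -/
theorem surjective_pi {S : Type*} [Ring S] [IsSimpleRing S] {ι : Type*} [Finite ι]
    (π : ι → R →+* S) (hπ : ∀ i, Function.Surjective (π i))
    (hne : ∀ i j, i ≠ j → ∃ x, π j x = 0 ∧ π i x ≠ 0) :
    Function.Surjective fun x => fun i => π i x := by
  classical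
  haveI := Fintype.ofFinite ι
  have h1 : ∀ i j, i ≠ j → ∃ x, π i x = 1 ∧ π j x = 0 := by
    intro i j hij
    obtain ⟨x₀, hj, hi⟩ := hne i j hij
    let I : TwoSidedIdeal S := TwoSidedIdeal.mk' {s | ∃ x, π j x = 0 ∧ π i x = s}
      ⟨0, map_zero _, map_zero _⟩
      (fun {a b} ⟨x, hx, hx'⟩ ⟨y, hy, hy'⟩ => ⟨x + y, by rw [map_add, hx, hy, add_zero],
        by rw [map_add, hx', hy']⟩)
      (fun {a} ⟨x, hx, hx'⟩ => ⟨-x, by rw [map_neg, hx, neg_zero], by rw [map_neg, hx']⟩)
      (fun {a b} ⟨y, hy, hy'⟩ => by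
        obtain ⟨r, rfl⟩ := hπ i a
        exact ⟨r * y, by rw [map_mul, hy, mul_zero], by rw [map_mul, hy']⟩)
      (fun {a b} ⟨x, hx, hx'⟩ => by
        obtain ⟨r, rfl⟩ := hπ i b
        exact ⟨x * r, by rw [map_mul, hx, zero_mul], by rw [map_mul, hx']⟩)
    have hI : ∀ s, s ∈ I ↔ ∃ x, π j x = 0 ∧ π i x = s := fun s => by simp [I]
    rcases eq_bot_or_eq_top I with h | h
    · exact absurd ((TwoSidedIdeal.mem_bot (R := S)).mp (h ▸ (hI _).mpr ⟨x₀, hj, rfl⟩)) hi
    · obtain ⟨x, hx, hx'⟩ := (hI 1).mp (h ▸ trivial)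
      exact ⟨x, hx', hx⟩
  have h2 : ∀ i, ∀ s : Finset ι, i ∉ s → ∃ x, π i x = 1 ∧ ∀ j ∈ s, π j x = 0 := by
    intro i s
    induction s using Finset.induction with
    | empty => exact fun _ => ⟨1, map_one _, by simp⟩
    | insert j s _ ih =>
      intro hi
      rw [Finset.mem_insert, not_or] at hi
      obtain ⟨x, hx, hx'⟩ := ih hi.2
      obtain ⟨y, hy, hy'⟩ := h1 i j hi.1
      refine ⟨y * x, by rw [map_mul, hy, hx, one_mul], fun l hl => ?_⟩
      rcases Finset.mem_insert.mp hl with rfl | hl
      · rw [map_mul, hy', zero_mul]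
      · rw [map_mul, hx' l hl, mul_zero]
  choose e he1 he0 using fun i => h2 i (Finset.univ.erase i) (Finset.notMem_erase i _)
  choose l hl using fun i => hπ i
  intro f
  refine ⟨∑ j, l j (f j) * e j, funext fun i => ?_⟩
  show π i _ = f i
  rw [map_sum, Finset.sum_eq_single i]
  · rw [map_mul, he1, mul_one, hl]
  · intro j _ hji
    rw [map_mul, he0 j i (Finset.mem_erase.mpr ⟨hji.symm, Finset.mem_univ _⟩), mul_zero]
  · intro h; exact absurd (Finset.mem_univ i) h

/-- The counting contradiction. -/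
theorem count_false [Finite R] (h2 : (2 : R) = 0) {Γ : Type*} [Group Γ]
    (hperf : commutator Γ = ⊤)
    (hqs : ∀ N : Subgroup Γ, N.Normal → N = ⊤ ∨ N ≤ Subgroup.center Γ) (ρ : Γ →* R)
    (hspan : AddSubgroup.closure (Set.range ρ) = ⊤) (hρ : ∃ g, ρ g ≠ 1) (σ : R ≃+ R)
    (hmul : ∀ x y, σ (x * y) = σ y * σ x) (hσσ : ∀ x, σ (σ x) = x)
    (hcent : ∀ x y, Commute (x + σ x) y) {H : Type*} [Group H] [Finite H]
    (hH : ∀ h : H, h * h = 1) (γ : H →* RingAut R) (hγσ : ∀ h x, γ h (σ x) = σ (γ h x))
    (θ : H →* MulAut Γ) (hγρ : ∀ h k, γ h (ρ k) = ρ (θ h k))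
    (hb : θ.ker = ⊤ ∨ ∃ b, θ b ≠ 1 ∧ ∀ x, γ b (x + σ x) = x + σ x)
    (hineq : Nat.card R * Nat.card θ.ker ≤
      2 * Nat.card H * Nat.card {x : R // σ x = x ∧ ∀ h, γ h x = x}) : False := by
  classical
  obtain ⟨J, hσJ, ⟨r₀, s₀, hrs⟩, ⟨x₀, hx₀⟩, hmax⟩ :=
    exists_simple_quotient h2 hperf ρ hspan hρ σ hmul hσσ hcent
  let S := J.ringCon.Quotient
  let π : R →+* S := J.ringCon.mk'
  have hπ : Function.Surjective π := Quotient.mk''_surjective
  have hker : ∀ x, π x = 0 ↔ x ∈ J := fun x =>
    ⟨fun h => (J.mem_iff x).mpr ((RingCon.eq _).mp h),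
      fun h => (RingCon.eq _).mpr ((J.mem_iff x).mp h)⟩
  have hkereq : ∀ x y, π x = π y → x - y ∈ J := fun x y h =>
    (hker _).mp (by rw [map_sub, h, sub_self])
  haveI : Finite S := Finite.of_surjective π hπ
  haveI : Nontrivial S := ⟨⟨π (x₀ + σ x₀), 0, fun h => hx₀ ((hker _).mp h)⟩⟩
  haveI : IsSimpleRing S := IsSimpleRing.of_eq_bot_or_eq_top fun I => by
    let I' : TwoSidedIdeal R := TwoSidedIdeal.mk' {x | π x ∈ I} (by simp [zero_mem])
      (fun {a b} ha hb => by
        show π (a + b) ∈ I
        rw [map_add]; exact add_mem ha hb)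
      (fun {a} ha => by
        show π (-a) ∈ I
        rw [map_neg]; exact neg_mem ha)
      (fun {a b} hb => by
        show π (a * b) ∈ I
        rw [map_mul]; exact I.mul_mem_left _ _ hb)
      (fun {a b} ha => by
        show π (a * b) ∈ I
        rw [map_mul]; exact I.mul_mem_right _ _ ha)
    have hI' : ∀ x, x ∈ I' ↔ π x ∈ I := fun x => by simp [I']
    have hJI : J ≤ I' := fun x hx => (hI' x).mpr (by rw [(hker x).mpr hx]; exact zero_mem I)
    rcases hJI.eq_or_lt with h | h
    · left
      refine eq_bot_iff.mpr fun s hs => ?_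
      obtain ⟨x, rfl⟩ := hπ s
      rw [TwoSidedIdeal.mem_bot, hker, h, hI']
      exact hs
    · right
      refine eq_top_iff.mpr fun s _ => ?_
      obtain ⟨x, rfl⟩ := hπ s
      exact (hI' x).mp (hmax I' h ▸ trivial)
  have hS2 : (2 : S) = 0 := by rw [← map_ofNat π, h2, map_zero]
  have hnc : ∃ x y : S, ¬ Commute x y :=
    ⟨π r₀, π s₀, fun h => hrs (hkereq _ _ (by rw [map_mul, map_mul]; exact h.eq))⟩
  -- the antiautomorphism of the quotient
  choose l hl using hπ
  have hσwd : ∀ x y, π x = π y → π (σ x) = π (σ y) := fun x y h => by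
    rw [← sub_eq_zero, ← map_sub, hker, ← map_sub]
    exact hσJ _ (hkereq x y h)
  let σS : S → S := fun s => π (σ (l s))
  have hσS : ∀ x, σS (π x) = π (σ x) := fun x => hσwd _ _ (hl (π x))
  have hσSmul : ∀ x y, σS (x * y) = σS y * σS x := fun x y => by
    rw [← hl x, ← hl y, ← map_mul, hσS, hσS, hσS, hmul, map_mul]
  have hScent : ∀ x y, Commute (x + σS x) y := fun x y => by
    rw [← hl x, ← hl y, hσS, ← map_add]
    exact (hcent _ _).map π
  obtain ⟨F, _, _, ⟨e⟩⟩ := exists_matrix_two hS2 σS hσSmul hScent hnc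
  haveI : CharP F 2 := CharTwo.of_one_ne_zero_of_two_eq_zero one_ne_zero (by
    have h := congrFun (congrFun (congrArg e ((one_add_one_eq_two (R := S)).trans hS2)) 0) 0
    rw [map_add, map_one, map_zero] at h
    rw [← one_add_one_eq_two]
    simpa [Matrix.add_apply] using h)
  set q := Nat.card F with hq
  have hS : Nat.card S = q ^ 4 := by
    rw [Nat.card_congr e.toEquiv]
    simp only [Matrix, Nat.card_fun, Nat.card_fin]
    rw [← pow_mul]
  have hq2 : 2 ≤ q := Finite.one_lt_card
  -- traces fill the centre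
  have hunit : ∀ z : S, (∀ y, Commute z y) → z ≠ 0 → ∃ z', z * z' = 1 := by
    intro z hz hz0
    let I : TwoSidedIdeal S := TwoSidedIdeal.mk' {s | ∃ v, z * v = s} ⟨0, mul_zero z⟩
      (fun {a b} ⟨x, hx⟩ ⟨y, hy⟩ => ⟨x + y, by rw [mul_add, hx, hy]⟩)
      (fun {a} ⟨x, hx⟩ => ⟨-x, by rw [mul_neg, hx]⟩)
      (fun {a b} ⟨y, hy⟩ => ⟨a * y, by rw [← mul_assoc, (hz a).eq, mul_assoc, hy]⟩)
      (fun {a b} ⟨x, hx⟩ => ⟨x * b, by rw [← mul_assoc, hx]⟩)
    have hI : ∀ s, s ∈ I ↔ ∃ v, z * v = s := fun s => by simp [I]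
    rcases eq_bot_or_eq_top I with h | h
    · exact absurd ((TwoSidedIdeal.mem_bot (R := S)).mp (h ▸ (hI z).mpr ⟨1, mul_one z⟩)) hz0
    · exact (hI 1).mp (h ▸ trivial)
  have htrace : ∀ z : S, (∀ y, Commute z y) → ∃ x, x + σS x = z := by
    have hfix : ∀ z : S, (∀ y, Commute z y) → σS z = z := by
      intro z hz
      by_contra hne
      have hσz : ∀ y, Commute (σS z) y := fun y => by
        have h := (hScent z y).sub_left (hz y)
        rwa [add_sub_cancel_left] at h
      obtain ⟨v, hv⟩ := hunit (z - σS z) (fun y => (hz y).sub_left (hσz y)) (sub_ne_zero.mpr (Ne.symm hne))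
      obtain ⟨a, b, hab⟩ := hnc
      refine hab ?_
      have h : ∀ y, Commute ((z - σS z) * a) y := fun y => by
        have h1 := hScent (z * a) y
        rw [hσSmul, ← (hσz (σS a)).eq] at h1
        have h2 := ((hσz y).mul_left (hScent a y))
        have h3 := h1.sub_left h2
        rwa [show z * a + σS z * σS a - σS z * (a + σS a) = (z - σS z) * a by
          rw [sub_mul, mul_add]; abel] at h3
      have hz' : ∀ y, Commute (z - σS z) y := fun y => (hz y).sub_left (hσz y)
      calc a * b = v * ((z - σS z) * a) * b := by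
            rw [← mul_assoc v, ← (hz' v).eq, hv, one_mul]
        _ = v * (b * ((z - σS z) * a)) := by rw [mul_assoc, (h b).eq]
        _ = v * ((z - σS z) * (b * a)) := by rw [← mul_assoc b, ← (hz' b).eq, mul_assoc]
        _ = b * a := by rw [← mul_assoc, ← (hz' v).eq, hv, one_mul]
    intro z hz
    have ht0 : π (x₀ + σ x₀) ≠ 0 := fun h => hx₀ ((hker _).mp h)
    have htc : ∀ y, Commute (π (x₀ + σ x₀)) y := fun y => by
      rw [← hl y]; exact (hcent _ _).map π
    obtain ⟨v, hv⟩ := hunit _ htc ht0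
    have hvc : ∀ y, Commute v y := fun y => by
      calc v * y = v * y * (π (x₀ + σ x₀) * v) := by rw [hv, mul_one]
        _ = v * (π (x₀ + σ x₀) * (y * v)) := by
            rw [← mul_assoc (π (x₀ + σ x₀)), (htc y).eq]; simp only [mul_assoc]
        _ = y * v := by rw [← mul_assoc, ← (htc v).eq, hv, one_mul]
    refine ⟨z * v * π x₀, ?_⟩
    rw [hσSmul, hfix (z * v) (fun y => (hz y).mul_left (hvc y)),
      ← ((hz (σS (π x₀))).mul_left (hvc (σS (π x₀)))).eq, ← mul_add, hσS, ← map_add, mul_assoc,
      ← (htc v).eq, hv, mul_one]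
  -- the image of the group in the quotient is nontrivial
  have hρS : ¬ ∀ g, π (ρ g) = 1 := fun h => by
    obtain ⟨x, y, hxy⟩ := hnc
    refine hxy (ring_comm_of_group (π.toMonoidHom.comp ρ)
      (span_quotient ρ hspan π fun s => ⟨l s, hl s⟩) (fun g k => ?_) x y)
    show Commute (π (ρ g)) (π (ρ k))
    rw [h, h]
  have hρS2 : q ≠ 2 := fun hq' => hρS fun g => by
    have h := trivial_of_card_two (F := F) hq' hperf
      (e.toMonoidHom.comp (π.toMonoidHom.comp ρ)) g
    exact e.injective (h.trans (map_one e).symm)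
  -- an element whose action modulo `J` is trivial centralizes the group
  have htriv : ∀ h, (∀ x, π (γ h x) = π x) → θ h = 1 := by
    intro h hh
    let K₀ : Subgroup Γ := (π.toMonoidHom.comp ρ).toHomUnits.ker
    have hK₀ : ∀ g, g ∈ K₀ ↔ π (ρ g) = 1 := fun g =>
      ⟨fun hg => congrArg Units.val (hg : _ = _), fun hg => Units.ext hg⟩
    have hc : K₀ ≤ Subgroup.center Γ := (hqs K₀ inferInstance).resolve_left fun htop =>
      hρS fun g => (hK₀ g).mp (htop ▸ trivial)
    have hmem : ∀ k, θ h k * k⁻¹ ∈ Subgroup.center Γ := fun k => hc ((hK₀ _).mpr (by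
      rw [map_mul, map_mul, ← hγρ, hh, ← map_mul, ← map_mul, mul_inv_cancel, map_one, map_one]))
    let f : Γ →* Γ :=
      { toFun := fun k => θ h k * k⁻¹
        map_one' := by rw [map_one, inv_one, mul_one]
        map_mul' := fun k k' => by
          show θ h (k * k') * (k * k')⁻¹ = θ h k * k⁻¹ * (θ h k' * k'⁻¹)
          rw [map_mul, mul_inv_rev, mul_assoc (θ h k) k⁻¹,
            Subgroup.mem_center_iff.mp (hmem k') k⁻¹]
          simp only [mul_assoc] }
    have hf := eq_one_of_commute hperf f fun g k => (Subgroup.mem_center_iff.mp (hmem k) _)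
    exact MulEquiv.ext fun k => mul_inv_eq_one.mp (hf k)
  have hθγ : ∀ h, θ h = 1 → ∀ x, γ h x = x := fun h hh x => by
    have hx : x ∈ AddSubgroup.closure (Set.range ρ) := hspan ▸ AddSubgroup.mem_top x
    induction hx using AddSubgroup.closure_induction with
    | mem y hy => obtain ⟨k, rfl⟩ := hy; rw [hγρ, hh]; rfl
    | zero => exact map_zero _
    | add y z _ _ hy hz => rw [map_add, hy, hz]
    | neg y _ hy => rw [map_neg, hy]
  -- the fixed points
  let Fx : AddSubgroup R :=
    { carrier := {x | σ x = x ∧ ∀ h, γ h x = x}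
      zero_mem' := ⟨map_zero _, fun h => map_zero _⟩
      add_mem' := fun {a b} ha hb => ⟨by rw [map_add, ha.1, hb.1],
        fun h => by rw [map_add, ha.2, hb.2]⟩
      neg_mem' := fun {a} ha => ⟨by rw [map_neg, ha.1], fun h => by rw [map_neg, ha.2]⟩ }
  replace hineq : Nat.card R * Nat.card θ.ker ≤ 2 * Nat.card H * Nat.card Fx := hineq
  rcases hb with htop | ⟨b, hb1, hbfix⟩
  · -- the acting group centralizes
    rw [htop, Subgroup.card_top, mul_comm 2, mul_comm (Nat.card R), mul_assoc] at hineq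
    have hR := Nat.le_of_mul_le_mul_left hineq Nat.card_pos
    let t : R →+ S := π.toAddMonoidHom.comp (AddMonoidHom.id R + σ.toAddMonoidHom)
    have hFt : Fx ≤ t.ker := fun x hx => by
      show π (x + σ x) = 0
      rw [hx.1, ← two_mul, h2, zero_mul, map_zero]
    have hrange : q ≤ Nat.card t.range := by
      refine Nat.card_le_card_of_injective (fun c : F => (⟨e.symm (Matrix.scalar (Fin 2) c), by
        have hc : ∀ y, Commute (e.symm (Matrix.scalar (Fin 2) c)) y := fun y => by
          rw [← e.symm_apply_apply y]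
          exact (Matrix.scalar_commute c (fun r => Commute.all c r) (e y)).map e.symm
        obtain ⟨x, hx⟩ := htrace _ hc
        refine ⟨l x, ?_⟩
        show π (l x + σ (l x)) = _
        rw [map_add, ← hσS, hl, hx]⟩ : t.range)) fun a b h => ?_
      exact Matrix.scalar_inj.mp (e.symm.injective (congrArg Subtype.val h))
    have hcard := card_eq_card_ker_mul t
    have h3 : Nat.card t.range * Nat.card t.ker ≤ 2 * Nat.card t.ker := by
      rw [← hcard]; exact hR.trans (Nat.mul_le_mul_left 2 (AddSubgroup.card_le_of_le hFt))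
    have h4 := Nat.le_of_mul_le_mul_right h3 Nat.card_pos
    omega
  · -- conjugates of the ideal
    let H₀ : Subgroup H :=
      { carrier := {h | ∀ x, x ∈ J ↔ γ h x ∈ J}
        one_mem' := fun x => by rw [map_one]; rfl
        mul_mem' := fun {g h} hg hh x => by
          rw [map_mul]; exact (hh x).trans (hg _)
        inv_mem' := fun {g} hg x => by
          conv_lhs => rw [show x = γ g (γ g⁻¹ x) by
            rw [show γ g (γ g⁻¹ x) = (γ g * γ g⁻¹) x from rfl, ← map_mul, mul_inv_cancel, map_one]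
            rfl]
          exact (hg _).symm }
    have hγinv : ∀ h x, γ h (γ h x) = x := fun h x => by
      show (γ h * γ h) x = x
      rw [← map_mul, hH, map_one]; rfl
    have hbJ : b ∈ H₀ := by
      have key : ∀ x ∈ J, γ b x ∈ J := by
        by_contra hcon
        -- `γ b J` maps onto the quotient
        let I : TwoSidedIdeal R := TwoSidedIdeal.mk' {x | γ b x ∈ J} (by simp [zero_mem])
          (fun {x y} hx hy => by
            show γ b (x + y) ∈ J
            rw [map_add]; exact add_mem hx hy)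
          (fun {x} hx => by
            show γ b (-x) ∈ J
            rw [map_neg]; exact neg_mem hx)
          (fun {x y} hy => by
            show γ b (x * y) ∈ J
            rw [map_mul]; exact J.mul_mem_left _ _ hy)
          (fun {x y} hx => by
            show γ b (x * y) ∈ J
            rw [map_mul]; exact J.mul_mem_right _ _ hx)
        have hI : ∀ x, x ∈ I ↔ γ b x ∈ J := fun x => by simp [I]
        have hnle : ¬ I ≤ J := fun h => hcon fun x hx => h ((hI _).mpr (by rw [hγinv]; exact hx))
        have htop : J ⊔ I = ⊤ := hmax _ (lt_of_le_not_ge le_sup_left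
          fun h => hnle (le_sup_right.trans h))
        obtain ⟨j, hj, i, hi, hji⟩ := TwoSidedIdeal.mem_sup.mp
          (htop ▸ trivial : x₀ ∈ J ⊔ I)
        have hiI : i + σ i ∈ I := add_mem hi ((hI _).mpr (by
          rw [hγσ]; exact hσJ _ ((hI i).mp hi)))
        have h1 : i + σ i ∈ J := by
          have h := (hI _).mp hiI
          rwa [hbfix] at h
        refine hx₀ ?_
        rw [← hji, map_add, add_add_add_comm]
        exact add_mem (add_mem hj (hσJ _ hj)) h1
      exact fun x => ⟨key x, fun h => by simpa only [hγinv] using key _ h⟩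
    have hind : ∀ h : ↥H₀, ∀ x y, π x = π y → π (γ (h : H) x) = π (γ (h : H) y) := fun h x y he => by
      rw [← sub_eq_zero, ← map_sub, hker, ← map_sub]
      exact (h.2 _).mp (hkereq x y he)
    let ψ₀ : ↥H₀ →* RingAut S :=
      { toFun := fun h =>
          { toFun := fun s => π (γ (h : H) (l s))
            invFun := fun s => π (γ (h : H) (l s))
            left_inv := fun s => by
              show π (γ (h : H) (l (π (γ (h : H) (l s))))) = s
              rw [hind h _ _ (hl _), hγinv, hl]
            right_inv := fun s => by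
              show π (γ (h : H) (l (π (γ (h : H) (l s))))) = s
              rw [hind h _ _ (hl _), hγinv, hl]
            map_mul' := fun s t => by
              show π (γ (h : H) (l (s * t))) = _
              rw [hind h (l (s * t)) (l s * l t) (by rw [hl, map_mul, hl, hl]), map_mul, map_mul]
            map_add' := fun s t => by
              show π (γ (h : H) (l (s + t))) = _
              rw [hind h (l (s + t)) (l s + l t) (by rw [hl, map_add, hl, hl]), map_add, map_add] }
        map_one' := RingEquiv.ext fun s => by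
          show π (γ ((1 : ↥H₀) : H) (l s)) = s
          rw [OneMemClass.coe_one, map_one]; exact hl s
        map_mul' := fun g h => RingEquiv.ext fun s => by
          show π (γ ((g * h : ↥H₀) : H) (l s)) = π (γ (g : H) (l (π (γ (h : H) (l s)))))
          rw [hind g _ _ (hl _), Subgroup.coe_mul, map_mul]; rfl }
    have hψ₀ : ∀ (h : ↥H₀) x, ψ₀ h (π x) = π (γ (h : H) x) := fun h x => hind h _ _ (hl _)
    let toM : RingAut S →* RingAut (Matrix (Fin 2) (Fin 2) F) :=
      { toFun := fun f => (e.symm.trans f).trans e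
        map_one' := RingEquiv.ext fun x => e.apply_symm_apply x
        map_mul' := fun f g => RingEquiv.ext fun x => by
          show e (f (g (e.symm x))) = e (f (e.symm (e (g (e.symm x)))))
          rw [e.symm_apply_apply] }
    let ψ := toM.comp ψ₀
    have hψ : ∀ (h : ↥H₀) x, ψ h (e (π x)) = e (π (γ (h : H) x)) := fun h x => by
      show e (ψ₀ h (e.symm (e (π x)))) = _
      rw [e.symm_apply_apply, hψ₀]
    have hψker : ∀ h : ↥H₀, ψ h = 1 ↔ θ (h : H) = 1 := fun h => by
      refine ⟨fun hh => htriv _ fun x => e.injective ?_, fun hh => RingEquiv.ext fun m => ?_⟩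
      · rw [← hψ, hh]; rfl
      · obtain ⟨s, rfl⟩ := e.surjective m
        rw [← hl s, hψ, hθγ _ hh]; rfl
    have hbscal : ∀ c, ψ ⟨b, hbJ⟩ (Matrix.scalar (Fin 2) c) = Matrix.scalar (Fin 2) c := fun c => by
      have hc : ∀ y, Commute (e.symm (Matrix.scalar (Fin 2) c)) y := fun y => by
        rw [← e.symm_apply_apply y]
        exact (Matrix.scalar_commute c (fun r => Commute.all c r) (e y)).map e.symm
      obtain ⟨x, hx⟩ := htrace _ hc
      rw [← hl x, hσS, ← map_add] at hx
      rw [← e.apply_symm_apply (Matrix.scalar (Fin 2) c), ← hx, hψ, hbfix]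
    have hbound := card_range_mul_card_fix (F := F)
      (H := ↥H₀) (fun h => Subtype.ext (hH h)) ψ (b := ⟨b, hbJ⟩) hbscal
      (fun h => hb1 ((hψker ⟨b, hbJ⟩).mp h))
    -- the kernel
    have hkerle : θ.ker ≤ H₀ := fun h hh x => by rw [hθγ h hh]
    have hcard0 : Nat.card H₀ = Nat.card ψ.range * Nat.card θ.ker := by
      rw [← Subgroup.index_ker, ← Subgroup.index_mul_card ψ.ker]
      have hk : ψ.ker = θ.ker.subgroupOf H₀ := by
        ext h; exact hψker h
      rw [hk, Nat.card_congr (Subgroup.subgroupOfEquivOfLe hkerle).toEquiv]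
    -- the orbit
    let P : H ⧸ H₀ → R →+* S := fun c => π.comp (γ c.out⁻¹ : R ≃+* R).toRingHom
    have hsurj := surjective_pi P (fun c s => ⟨γ c.out (l s), by
      show π (γ c.out⁻¹ (γ c.out (l s))) = s
      rw [show γ c.out⁻¹ (γ c.out (l s)) = (γ c.out⁻¹ * γ c.out) (l s) from rfl, ← map_mul,
        inv_mul_cancel, map_one]
      exact hl s⟩) (fun c d hcd => by
      by_contra hcon
      simp only [not_exists, not_and, not_not] at hcon
      refine hcd ?_
      rw [← c.out_eq', ← d.out_eq', QuotientGroup.eq]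
      have hsub : ∀ x, γ d.out⁻¹ x ∈ J → γ c.out⁻¹ x ∈ J := fun x hx =>
        (hker _).mp (hcon x ((hker _).mpr hx))
      have hinvH : ∀ h : H, h⁻¹ = h := fun h => inv_eq_of_mul_eq_one_left (hH h)
      rw [hinvH] at hsub
      rw [hinvH] at hsub
      rw [hinvH]
      have hg : ∀ x ∈ J, γ (c.out * d.out) x ∈ J := fun x hx => by
        rw [map_mul]
        exact hsub (γ d.out x) (by rw [hγinv]; exact hx)
      exact fun x => ⟨hg x, fun h => by simpa only [hγinv] using hg _ h⟩)
    let Φ : R →+ (H ⧸ H₀ → S) := AddMonoidHom.mk' (fun x c => P c x) fun x y =>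
      funext fun c => map_add (P c) x y
    have hR : Nat.card R = (q ^ 4) ^ H₀.index * Nat.card Φ.ker := by
      rw [card_eq_card_ker_mul Φ, AddMonoidHom.range_eq_top.mpr hsurj, AddSubgroup.card_top,
        Nat.card_fun, hS]
      rfl
    have hFx : Nat.card Fx ≤
        Nat.card {x : Matrix (Fin 2) (Fin 2) F // ∀ h, ψ h x = x} * Nat.card Φ.ker := by
      let g : Fx →+ Matrix (Fin 2) (Fin 2) F :=
        (e.toAddMonoidHom.comp π.toAddMonoidHom).comp Fx.subtype
      rw [AddSubgroup.card_eq_card_quotient_mul_card_addSubgroup g.ker,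
        Nat.card_congr (QuotientAddGroup.quotientKerEquivRange g).toEquiv]
      refine Nat.mul_le_mul ?_ ?_
      · refine Nat.card_le_card_of_injective (fun y : g.range => (⟨y.1, by
          obtain ⟨x, hx⟩ := y.2
          intro h
          rw [← hx]
          show ψ h (e (π (x : R))) = e (π (x : R))
          rw [hψ, x.2.2]⟩ : {x : Matrix (Fin 2) (Fin 2) F // ∀ h, ψ h x = x})) fun y z h =>
          Subtype.ext (Subtype.mk_eq_mk.mp h :)
      · refine Nat.card_le_card_of_injective (fun x : g.ker => (⟨x.1.1, funext fun c => by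
          show π (γ c.out⁻¹ (x.1 : R)) = 0
          rw [x.1.2.2]
          exact e.injective (x.2.trans (map_zero e).symm)⟩ : Φ.ker)) fun y z h =>
          Subtype.ext (Subtype.ext (congrArg (fun w : Φ.ker => (w : R)) h))
    set r := H₀.index with hr
    set f₀ := Nat.card {x : Matrix (Fin 2) (Fin 2) F // ∀ h, ψ h x = x} with hf₀
    have hmain : (q ^ 4) ^ r ≤ 2 * r * q ^ 3 := by
      have h1 : (q ^ 4) ^ r * (Nat.card Φ.ker * Nat.card θ.ker) ≤
          2 * r * (Nat.card ψ.range * f₀) * (Nat.card Φ.ker * Nat.card θ.ker) := by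
        calc (q ^ 4) ^ r * (Nat.card Φ.ker * Nat.card θ.ker)
            = Nat.card R * Nat.card θ.ker := by rw [hR]; ring
          _ ≤ 2 * Nat.card H * Nat.card Fx := hineq
          _ ≤ 2 * Nat.card H * (f₀ * Nat.card Φ.ker) := Nat.mul_le_mul_left _ hFx
          _ = _ := by rw [← H₀.index_mul_card, hcard0, hr]; ring
      exact (Nat.le_of_mul_le_mul_right h1 (Nat.mul_pos Nat.card_pos Nat.card_pos)).trans
        (Nat.mul_le_mul_left _ hbound)
    have hr1 : 1 ≤ r := Nat.pos_of_ne_zero Subgroup.index_ne_zero_of_finite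
    have hgt : q ^ (4 * r - 3) ≤ 2 * r := by
      rw [← pow_mul] at hmain
      refine Nat.le_of_mul_le_mul_right ?_ (pow_pos (by omega : 0 < q) 3)
      rwa [← pow_add, Nat.sub_add_cancel (by omega : 3 ≤ 4 * r)]
    rcases hr1.eq_or_lt with h1 | h1
    · rw [← h1] at hgt
      norm_num at hgt
      omega
    · have h2' : 2 ^ (4 * r - 3) ≤ 2 * r := (Nat.pow_le_pow_left hq2 _).trans hgt
      have h3 : 2 * r < 2 ^ (2 * r) := Nat.lt_two_pow_self
      have h4 : 2 ^ (2 * r) ≤ 2 ^ (4 * r - 3) := Nat.pow_le_pow_right two_pos (by omega)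
      omega

end CfsgLib.QuadAlg
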