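import Mathlib
import Cfsg.Agent.Lib.Offender.ComponentFix
import Cfsg.Agent.Lib.Offender.RingCount

/-!
The P(G,V) theorem: a best offender on a faithful module normalizes every component.

Suppose `a ∈ A` moves the component `K`. On `V / C_V(⟨K^G⟩)` take `w ∈ [V, a]` fixed by `A`. The ring `R`
spanned by `K` on the span of `K w` has commuting commutators for odd `p`, which is absurd, and for
`p = 2` has an antiautomorphism with central traces, which bounds the fixed points of `A`.
-/

set_option autoImplicit false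
set_option linter.style.haveILetI false

open Cfsg
open scoped commutatorElement Pointwise

namespace CfsgLib.Offender.Component

universe u v

variable {G : Type u} [Group G] [Finite G] {V : Type v} [AddCommGroup V] [Finite V]
  {p : ℕ} [hp : Fact p.Prime]

/-- A `p`-group fixes a nonzero element of a nonzero invariant subgroup. -/
theorem exists_fixed (hV : ∀ v : V, p • v = 0) (φ : G →* AddMonoid.End V) {A : Subgroup G}
    (hA : IsPGroup p A) {W : AddSubgroup V} (hW : ∀ a ∈ A, ∀ w ∈ W, φ a w ∈ W) {w₀ : V}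
    (hw₀ : w₀ ∈ W) (hne : w₀ ≠ 0) : ∃ w ∈ W, w ≠ 0 ∧ ∀ a ∈ A, φ a w = w := by
  let act : ↥A →* Function.End ↥W :=
    { toFun := fun a w => ⟨φ (a : G) (w : V), hW a a.2 w w.2⟩
      map_one' := funext fun w => Subtype.ext (by
        show φ ((1 : ↥A) : G) (w : V) = w
        rw [OneMemClass.coe_one, map_one]; rfl)
      map_mul' := fun a b => funext fun w => Subtype.ext (by
        show φ ((a * b : ↥A) : G) (w : V) = φ (a : G) (φ (b : G) (w : V))
        rw [Subgroup.coe_mul, map_mul]; rfl) }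
  letI : MulAction ↥A ↥W := MulAction.compHom _ act
  have hdvd : p ∣ Nat.card ↥W := by
    have h : addOrderOf (⟨w₀, hw₀⟩ : ↥W) = p := addOrderOf_eq_prime
      (Subtype.ext ((AddSubgroupClass.coe_nsmul _ _).trans (hV _)))
      (fun e => hne (congrArg Subtype.val e))
    exact h ▸ addOrderOf_dvd_natCard _
  obtain ⟨w, hw, hw0⟩ := hA.exists_fixed_point_of_prime_dvd_card_of_fixed_point ↥W hdvd (a := 0)
    (show ∀ a : ↥A, act a 0 = 0 from fun a => Subtype.ext (map_zero _))
  exact ⟨w, w.2, fun e => hw0 (Subtype.ext e.symm), fun a ha => congrArg Subtype.val (hw ⟨a, ha⟩)⟩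

omit [Finite G] hp in
theorem conj_apply (φ : G →* AddMonoid.End V) (c k : G) (v : V) (hv : φ c v = v) :
    φ (c * k * c⁻¹) v = φ c (φ k v) := by
  have hinv : φ c⁻¹ v = v := by
    conv_lhs => rw [← hv]
    show (φ c⁻¹ * φ c) v = v
    rw [← map_mul, inv_mul_cancel, map_one]; rfl
  rw [map_mul, map_mul]
  show φ c (φ k (φ c⁻¹ v)) = _
  rw [hinv]

section Span

variable (φ : G →* AddMonoid.End V) (K : Subgroup G) (w : V)

/-- The span of the translates of `w`. -/
def orbitSpan : AddSubgroup V := AddSubgroup.closure (Set.range fun k : ↥K => φ (k : G) w)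

omit [Finite G] [Finite V] in
theorem mem_orbitSpan (k : G) (hk : k ∈ K) : φ k w ∈ orbitSpan φ K w :=
  AddSubgroup.subset_closure ⟨⟨k, hk⟩, rfl⟩

omit [Finite G] [Finite V] in
theorem orbitSpan_invariant {f : AddMonoid.End V}
    (hf : ∀ k ∈ K, f (φ k w) ∈ orbitSpan φ K w) : ∀ v ∈ orbitSpan φ K w, f v ∈ orbitSpan φ K w := by
  intro v hv
  induction hv using AddSubgroup.closure_induction with
  | mem x hx => obtain ⟨k, rfl⟩ := hx; exact hf k k.2
  | zero => rw [map_zero]; exact zero_mem _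
  | add x y _ _ hx hy => rw [map_add]; exact add_mem hx hy
  | neg x _ hx => rw [map_neg]; exact neg_mem hx

omit [Finite G] [Finite V] in
theorem orbitSpan_left (k : G) (hk : k ∈ K) :
    ∀ v ∈ orbitSpan φ K w, φ k v ∈ orbitSpan φ K w :=
  orbitSpan_invariant φ K w fun m hm => by
    rw [show φ k (φ m w) = (φ k * φ m) w from rfl, ← map_mul]
    exact mem_orbitSpan φ K w _ (mul_mem hk hm)

/-- The action of `K` on the span. -/
def rep : ↥K →* AddMonoid.End ↥(orbitSpan φ K w) where
  toFun k := ((φ (k : G)).comp (orbitSpan φ K w).subtype).codRestrict (orbitSpan φ K w)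
    fun v => orbitSpan_left φ K w k k.2 v v.2
  map_one' := AddMonoidHom.ext fun v => Subtype.ext (by
    show φ ((1 : ↥K) : G) (v : V) = (v : V)
    rw [OneMemClass.coe_one, map_one]; rfl)
  map_mul' k m := AddMonoidHom.ext fun v => Subtype.ext (by
    show φ ((k * m : ↥K) : G) (v : V) = φ (k : G) (φ (m : G) (v : V))
    rw [Subgroup.coe_mul, map_mul]; rfl)

/-- The ring spanned by `K` on the span. -/
def ring : Subring (AddMonoid.End ↥(orbitSpan φ K w)) := Subring.closure (Set.range (rep φ K w))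

/-- The map into the ring. -/
def toRing : ↥K →* ↥(ring φ K w) where
  toFun k := ⟨rep φ K w k, Subring.subset_closure ⟨k, rfl⟩⟩
  map_one' := Subtype.ext (map_one _)
  map_mul' k m := Subtype.ext (map_mul _ k m)

omit [Finite G] [Finite V] in
theorem toRing_span : AddSubgroup.closure (Set.range (toRing φ K w)) = ⊤ := by
  refine eq_top_iff.mpr fun x _ => ?_
  have hx : (x : AddMonoid.End ↥(orbitSpan φ K w)) ∈
      AddSubgroup.closure (Set.range (rep φ K w)) := by
    have h := Subring.mem_closure_iff.mp x.2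
    rwa [show Submonoid.closure (Set.range (rep φ K w)) = MonoidHom.mrange (rep φ K w) by
      rw [← MonoidHom.coe_mrange, Submonoid.closure_eq], MonoidHom.coe_mrange] at h
  have hr : Set.range (rep φ K w) =
      (ring φ K w).subtype.toAddMonoidHom '' Set.range (toRing φ K w) := by
    rw [← Set.range_comp]; rfl
  rw [hr, ← AddMonoidHom.map_closure] at hx
  obtain ⟨y, hy, hyx⟩ := hx
  exact (show y = x from Subtype.ext hyx) ▸ hy

end Span

/-- The odd case. -/
theorem core_odd (hp2 : Odd p) (hV : ∀ v : V, p • v = 0) (φ : G →* AddMonoid.End V)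
    {K : Subgroup G} (hK : IsComponent K) {a : G} (hap : a ^ p = 1)
    (haN : a ∉ Subgroup.normalizer (K : Set G)) (hFix : ∀ y ∈ K, diag a y p ∈ fixRange φ a)
    {w : V} (hwa : φ a w = w) (hw : ∀ y ∈ K, φ (diag a y p) w = w)
    (hwK : ∃ k ∈ K, φ k w ≠ w) : False := by
  have hsp := spread hK hp.out hap haN
  have hp3 : 3 ≤ p := by
    rcases hp2 with ⟨k, hk⟩
    have := hp.out.two_le
    omega
  let P : ℕ → G → AddMonoid.End V := fun i x => φ (shift a i x)
  have hstep : ∀ i x, φ a (P i x w) = P (i + 1) x w := fun i x => by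
    show _ = φ (shift a (i + 1) x) w
    rw [shift_succ, conj_apply φ a _ w hwa]
  have hconj : ∀ i, ∀ k ∈ K, ∀ x ∈ K,
      φ (diag a k p) (P i x w) = P i (k * x * k⁻¹) w := fun i k hk x hx => by
    show _ = φ (shift a i (k * x * k⁻¹)) w
    rw [← diag_conj_shift hsp hap hp.out.pos hk hx i, conj_apply φ _ _ w (hw k hk)]
  let δ : ℕ → G → G → AddMonoid.End V := fun i k y => P i (k * y) - P i (y * k)
  have hδ : ∀ i, ∀ k ∈ K, ∀ y ∈ K, δ (i + 1) k y w = δ i k y w := by
    intro i k hk y hy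
    have h := hFix k hk (P i (y * k) w)
    rw [hstep, map_sub, hconj _ k hk _ (mul_mem hy hk), hconj _ k hk _ (mul_mem hy hk),
      show k * (y * k) * k⁻¹ = k * y by group] at h
    show P (i + 1) (k * y) w - P (i + 1) (y * k) w = P i (k * y) w - P i (y * k) w
    exact sub_eq_sub_iff_sub_eq_sub.mp h
  have hcommP : ∀ i j, i < p → j < p → i ≠ j → ∀ k ∈ K, ∀ y ∈ K, ∀ k' ∈ K, ∀ y' ∈ K,
      Commute (δ i k y) (δ j k' y') := by
    intro i j hi hj hij k hk y hy k' hk' y' hy'
    have h : ∀ x ∈ K, ∀ x' ∈ K, Commute (P i x) (P j x') := fun x hx x' hx' =>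
      (hsp i j hi hj hij x hx x' hx').map φ
    have hky := mul_mem hk hy; have hyk := mul_mem hy hk
    have hky' := mul_mem hk' hy'; have hyk' := mul_mem hy' hk'
    exact ((h _ hky _ hky').sub_right (h _ hky _ hyk')).sub_left
      ((h _ hyk _ hky').sub_right (h _ hyk _ hyk'))
  have hkey : ∀ k ∈ K, ∀ y ∈ K, ∀ k' ∈ K, ∀ y' ∈ K,
      δ 0 k y (δ 0 k' y' w) = δ 0 k' y' (δ 0 k y w) := by
    intro k hk y hy k' hk' y' hy'
    have heq : ∀ i, i < 3 → ∀ k ∈ K, ∀ y ∈ K, δ i k y w = δ 0 k y w := by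
      intro i hi k hk y hy
      interval_cases i
      · rfl
      · exact hδ 0 k hk y hy
      · rw [hδ 1 k hk y hy, hδ 0 k hk y hy]
    have hmix : ∀ i j, i < 3 → j < 3 → i ≠ j →
        δ j k' y' (δ j k y w) = δ i k y (δ i k' y' w) := by
      intro i j hi hj hij
      rw [heq j hj k hk y hy, ← heq i hi k hk y hy, heq i hi k' hk' y' hy',
        ← heq j hj k' hk' y' hy']
      exact (DFunLike.congr_fun (hcommP i j (by omega) (by omega) hij k hk y hy k' hk' y' hy').eq
        w).symm
    have h1 := hmix 1 0 (by norm_num) (by norm_num) (by norm_num)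
    have h2 := hmix 1 2 (by norm_num) (by norm_num) (by norm_num)
    have h3 := hmix 0 2 (by norm_num) (by norm_num) (by norm_num)
    rw [h1, ← h2, h3]
  -- the ring has commuting commutators
  set R := ring φ K w
  let ρ := toRing φ K w
  have hspan := toRing_span φ K w
  haveI : Finite (AddMonoid.End ↥(orbitSpan φ K w)) := Finite.of_injective _ DFunLike.coe_injective
  have hmove : ∀ m k y : G, (φ (k * y) - φ (y * k)) * φ m =
      φ m * (φ ((m⁻¹ * k * m) * (m⁻¹ * y * m)) - φ ((m⁻¹ * y * m) * (m⁻¹ * k * m))) := by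
    intro m k y
    simp only [sub_mul, mul_sub, ← map_mul]
    congr 1 <;> · congr 1; group
  let D : Set ↥R := {x | ∃ k y : ↥K, x = ρ (k * y) - ρ (y * k)}
  have hgen : ∀ d ∈ D, ∀ d' ∈ D, Commute d d' := by
    rintro _ ⟨k, y, rfl⟩ _ ⟨k', y', rfl⟩
    apply Subtype.ext
    refine AddMonoidHom.ext fun v => Subtype.ext ?_
    show (φ ((k : G) * y) - φ ((y : G) * k)) ((φ ((k' : G) * y') - φ ((y' : G) * k')) (v : V)) =
      (φ ((k' : G) * y') - φ ((y' : G) * k')) ((φ ((k : G) * y) - φ ((y : G) * k)) (v : V))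
    obtain ⟨v, hv⟩ := v
    induction hv using AddSubgroup.closure_induction with
    | zero => simp only [map_zero]
    | add x x' _ _ hx hx' => simp only [map_add, hx, hx']
    | neg x _ hx => simp only [map_neg, hx]
    | mem x hx =>
      obtain ⟨⟨m, hm⟩, rfl⟩ := hx
      have hmem : ∀ z : ↥K, m⁻¹ * (z : G) * m ∈ K := fun z => mul_mem (mul_mem (inv_mem hm) z.2) hm
      have e : ∀ k y k' y' : G,
          (φ (k * y) - φ (y * k)) ((φ (k' * y') - φ (y' * k')) (φ m w)) =
          φ m ((φ ((m⁻¹ * k * m) * (m⁻¹ * y * m)) - φ ((m⁻¹ * y * m) * (m⁻¹ * k * m)))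
            ((φ ((m⁻¹ * k' * m) * (m⁻¹ * y' * m)) - φ ((m⁻¹ * y' * m) * (m⁻¹ * k' * m))) w)) := by
        intro k y k' y'
        rw [show (φ (k' * y') - φ (y' * k')) (φ m w) =
          ((φ (k' * y') - φ (y' * k')) * φ m) w from rfl, hmove]
        show ((φ (k * y) - φ (y * k)) * φ m) _ = _
        rw [hmove]
        rfl
      show (φ ((k : G) * y) - φ ((y : G) * k)) ((φ ((k' : G) * y') - φ ((y' : G) * k')) (φ m w)) =
        (φ ((k' : G) * y') - φ ((y' : G) * k')) ((φ ((k : G) * y) - φ ((y : G) * k)) (φ m w))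
      rw [e, e]
      have h := hkey _ (hmem k) _ (hmem y) _ (hmem k') _ (hmem y')
      simp only [δ, P, shift_zero] at h
      rw [h]
  have hcl : ∀ r s : ↥R, r * s - s * r ∈ AddSubgroup.closure D := by
    have h1 : ∀ (k : ↥K) (s : ↥R), ρ k * s - s * ρ k ∈ AddSubgroup.closure D := by
      intro k s
      have hs : s ∈ AddSubgroup.closure (Set.range ρ) := hspan ▸ AddSubgroup.mem_top s
      induction hs using AddSubgroup.closure_induction with
      | mem x hx =>
        obtain ⟨y, rfl⟩ := hx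
        exact AddSubgroup.subset_closure ⟨k, y, by rw [map_mul, map_mul]⟩
      | zero => simp [zero_mem]
      | add x y _ _ hx hy =>
        rw [show ρ k * (x + y) - (x + y) * ρ k = (ρ k * x - x * ρ k) + (ρ k * y - y * ρ k) by
          noncomm_ring]
        exact add_mem hx hy
      | neg x _ hx =>
        rw [show ρ k * -x - -x * ρ k = -(ρ k * x - x * ρ k) by noncomm_ring]
        exact neg_mem hx
    intro r s
    have hr : r ∈ AddSubgroup.closure (Set.range ρ) := hspan ▸ AddSubgroup.mem_top r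
    induction hr using AddSubgroup.closure_induction with
    | mem x hx => obtain ⟨k, rfl⟩ := hx; exact h1 k s
    | zero => simp [zero_mem]
    | add x y _ _ hx hy =>
      rw [show (x + y) * s - s * (x + y) = (x * s - s * x) + (y * s - s * y) by noncomm_ring]
      exact add_mem hx hy
    | neg x _ hx =>
      rw [show -x * s - s * -x = -(x * s - s * x) by noncomm_ring]
      exact neg_mem hx
  have hcc : ∀ x ∈ AddSubgroup.closure D, ∀ y ∈ AddSubgroup.closure D, Commute x y := by
    intro x hx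
    induction hx using AddSubgroup.closure_induction with
    | mem d hd =>
      intro y hy
      induction hy using AddSubgroup.closure_induction with
      | mem d' hd' => exact hgen d hd d' hd'
      | zero => exact Commute.zero_right _
      | add _ _ _ _ hx hy => exact hx.add_right hy
      | neg _ _ hx => exact hx.neg_right
    | zero => exact fun y _ => Commute.zero_left y
    | add _ _ _ _ hx hy => exact fun z hz => (hx z hz).add_left (hy z hz)
    | neg _ _ hx => exact fun z hz => (hx z hz).neg_left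
  have hchar : ((p : ℕ) : ↥R) = 0 := Subtype.ext (AddMonoidHom.ext fun v => by
    show ((p : ℕ) : ↥R).1 v = 0
    rw [SubringClass.coe_natCast]
    exact (AddMonoid.End.natCast_apply p v).trans
      (Subtype.ext ((AddSubgroupClass.coe_nsmul _ _).trans (hV _))))
  have htriv := QuadAlg.odd_trivial hp2 (commutator_top hK) _ rfl hchar ρ hspan
    (fun r s t u => hcc _ (hcl r s) _ (hcl t u))
  obtain ⟨k, hk, hk1⟩ := hwK
  refine hk1 ?_
  have hw0 : w ∈ orbitSpan φ K w := by
    have := mem_orbitSpan φ K w 1 (one_mem K)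
    rwa [map_one] at this
  exact congrArg (fun r : ↥R => ((r : AddMonoid.End _) ⟨w, hw0⟩ : ↥(orbitSpan φ K w)).1)
    (htriv ⟨k, hk⟩)

/-- The case `p = 2`. -/
theorem core_two (hV : ∀ v : V, 2 • v = 0) (φ : G →* AddMonoid.End V) {K A : Subgroup G}
    (hK : IsComponent K) (hAc : ∀ a ∈ A, ∀ b ∈ A, a * b = b * a) (hAp : ∀ a ∈ A, a ^ 2 = 1)
    {a : G} (ha : a ∈ A) (haN : a ∉ Subgroup.normalizer (K : Set G))
    (hFix : ∀ y ∈ K, diag a y 2 ∈ fixRange φ a)
    (halt : (∀ c ∈ A, c ∈ fixRange φ a) ∨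
      ∃ b ∈ A, b ∈ Subgroup.normalizer (K : Set G) ∧ (¬ ∀ k ∈ K, b * k = k * b) ∧
        ∀ c ∈ A, b ∈ fixRange φ c)
    {w : V} (hwA : ∀ c ∈ A, φ c w = w) (hwr : ∃ v, φ a v - v = w)
    (hwK : ∃ k ∈ K, φ k w ≠ w)
    (hmeas : Nat.card ↥(A ⊓ Subgroup.centralizer (K : Set G)) * Nat.card V ≤
      Nat.card A * Nat.card (fixSub φ A)) : False := by
  classical
  haveI : Fact (Nat.Prime 2) := ⟨Nat.prime_two⟩
  have haa : a * a = 1 := by rw [← pow_two]; exact hAp a ha
  have hainv : a⁻¹ = a := inv_eq_of_mul_eq_one_left haa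
  have hsp := spread hK Nat.prime_two (hAp a ha) haN
  have hdiag : ∀ y : G, diag a y 2 = y * (a * y * a⁻¹) := fun y => by
    show 1 * shift a 0 y * shift a 1 y = _
    simp [shift]
  have hwa : φ a w = w := hwA a ha
  have hdw : ∀ y ∈ K, φ (diag a y 2) w = w := fun y hy => by
    obtain ⟨v, rfl⟩ := hwr
    exact hFix y hy v
  have hcommaK : ∀ x ∈ K, ∀ y ∈ K, Commute x (a * y * a⁻¹) := fun x hx y hy =>
    commute_conj hK haN hx hy
  -- the swap
  have hswap : ∀ k ∈ K, φ (a * k * a⁻¹) w = φ k⁻¹ w := fun k hk => by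
    have h := congrArg (φ k⁻¹) (hdw k hk)
    rw [show φ k⁻¹ (φ (diag a k 2) w) = (φ k⁻¹ * φ (diag a k 2)) w from rfl, ← map_mul, hdiag,
      inv_mul_cancel_left] at h
    exact h
  set U := orbitSpan φ K w with hU
  have hw0 : w ∈ U := by
    have := mem_orbitSpan φ K w 1 (one_mem K)
    rwa [map_one] at this
  haveI : Finite (AddMonoid.End ↥U) := Finite.of_injective _ DFunLike.coe_injective
  set R := ring φ K w with hR
  let ρ := toRing φ K w
  have hspan := toRing_span φ K w
  let ev : ↥R →+ ↥U := AddMonoidHom.mk' (fun r => (r : AddMonoid.End ↥U) ⟨w, hw0⟩) fun r s => rfl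
  have hevρ : ∀ k : ↥K, (ev (ρ k) : V) = φ (k : G) w := fun k => rfl
  have hevmul : ∀ (k : ↥K) r, (ev (ρ k * r) : V) = φ (k : G) (ev r : V) := fun k r => rfl
  -- operators of the moved component commute with the ring
  have hcommR : ∀ (r : ↥R) (u : ↥U) (z : G), (∀ x ∈ K, Commute x z) → ∀ hz : φ z (u : V) ∈ U,
      ((r : AddMonoid.End ↥U) ⟨φ z (u : V), hz⟩ : V) = φ z ((r : AddMonoid.End ↥U) u : V) := by
    intro r u z hz hzu
    have hr : r ∈ AddSubgroup.closure (Set.range ρ) := hspan ▸ AddSubgroup.mem_top r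
    induction hr using AddSubgroup.closure_induction with
    | mem x hx =>
      obtain ⟨k, rfl⟩ := hx
      show φ (k : G) (φ z (u : V)) = φ z (φ (k : G) (u : V))
      rw [show φ (k : G) (φ z (u : V)) = (φ (k : G) * φ z) (u : V) from rfl, ← map_mul,
        (hz k k.2).eq, map_mul]
      rfl
    | zero => exact (map_zero (φ z)).symm
    | add x y _ _ hx hy =>
      show (((x : AddMonoid.End ↥U) ⟨_, hzu⟩ + (y : AddMonoid.End ↥U) ⟨_, hzu⟩ : ↥U) : V) =
        φ z (((x : AddMonoid.End ↥U) u + (y : AddMonoid.End ↥U) u : ↥U) : V)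
      rw [AddSubgroup.coe_add, AddSubgroup.coe_add, map_add, hx, hy]
    | neg x _ hx =>
      show ((-((x : AddMonoid.End ↥U) ⟨_, hzu⟩) : ↥U) : V) =
        φ z ((-((x : AddMonoid.End ↥U) u) : ↥U) : V)
      rw [AddSubgroup.coe_neg, AddSubgroup.coe_neg, map_neg, hx]
  have hev_surj : Function.Surjective ev := by
    rintro ⟨u, hu⟩
    induction hu using AddSubgroup.closure_induction with
    | mem x hx => obtain ⟨k, rfl⟩ := hx; exact ⟨ρ k, rfl⟩
    | zero => exact ⟨0, map_zero ev⟩
    | add x y hx hy ihx ihy =>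
      obtain ⟨r, hr⟩ := ihx; obtain ⟨s, hs⟩ := ihy
      exact ⟨r + s, by rw [map_add, hr, hs]; rfl⟩
    | neg x hx ih => obtain ⟨r, hr⟩ := ih; exact ⟨-r, by rw [map_neg, hr]; rfl⟩
  have hev_inj : Function.Injective ev := by
    refine (injective_iff_map_eq_zero ev).mpr fun r hr => ?_
    apply Subtype.ext
    refine AddMonoidHom.ext fun u => ?_
    obtain ⟨u, hu⟩ := u
    apply Subtype.ext
    show ((r : AddMonoid.End ↥U) ⟨u, hu⟩ : V) = 0
    induction hu using AddSubgroup.closure_induction with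
    | mem x hx =>
      obtain ⟨⟨k, hk⟩, rfl⟩ := hx
      have h1 := hswap k⁻¹ (inv_mem hk)
      rw [inv_inv] at h1
      have h2 := hcommR r ⟨w, hw0⟩ (a * k⁻¹ * a⁻¹) (fun x hx => hcommaK x hx _ (inv_mem hk))
        (h1 ▸ mem_orbitSpan φ K w k hk)
      simp only [h1] at h2
      show ((r : AddMonoid.End ↥U) ⟨φ k w, _⟩ : V) = 0
      rw [h2, show (r : AddMonoid.End ↥U) ⟨w, hw0⟩ = ev r from rfl, hr]
      exact map_zero _
    | zero => exact congrArg Subtype.val (map_zero (r : AddMonoid.End ↥U))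
    | add x y hx hy ihx ihy =>
      show ((r : AddMonoid.End ↥U) ((⟨x, hx⟩ : ↥U) + ⟨y, hy⟩) : V) = 0
      rw [map_add, AddSubgroup.coe_add, ihx, ihy, add_zero]
    | neg x hx ih =>
      show ((r : AddMonoid.End ↥U) (-(⟨x, hx⟩ : ↥U)) : V) = 0
      rw [map_neg, AddSubgroup.coe_neg, ih, neg_zero]
  let eqv : ↥R ≃+ ↥U := AddEquiv.ofBijective ev ⟨hev_inj, hev_surj⟩
  have hext : ∀ r s : ↥R, (ev r : V) = (ev s : V) → r = s := fun r s h => hev_inj (Subtype.ext h)
  have haU : ∀ v ∈ U, φ a v ∈ U := orbitSpan_invariant φ K w fun k hk => by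
    rw [← conj_apply φ a k w hwa, hswap k hk]
    exact mem_orbitSpan φ K w _ (inv_mem hk)
  have hneg : ∀ v : V, -v = v := fun v => neg_eq_of_add_eq_zero_left (by rw [← two_nsmul, hV])
  let σ₀ : ↥R →+ ↥R := eqv.symm.toAddMonoidHom.comp
    ((((φ a).comp U.subtype).codRestrict U fun v => haU v v.2).comp ev)
  have hσ₀ev : ∀ r, (ev (σ₀ r) : V) = φ a (ev r : V) := fun r =>
    congrArg Subtype.val (eqv.apply_symm_apply _)
  have hσσ₀ : ∀ r, σ₀ (σ₀ r) = r := fun r => hext _ _ (by
    rw [hσ₀ev, hσ₀ev]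
    show (φ a * φ a) (ev r : V) = _
    rw [← map_mul, haa, map_one]; rfl)
  let σ : ↥R ≃+ ↥R :=
    { toFun := σ₀, invFun := σ₀, left_inv := hσσ₀, right_inv := hσσ₀, map_add' := map_add σ₀ }
  have hσev : ∀ r, (ev (σ r) : V) = φ a (ev r : V) := hσ₀ev
  have hσρ : ∀ k : ↥K, σ (ρ k) = ρ k⁻¹ := fun k => hext _ _ (by
    rw [hσev, hevρ, hevρ, ← conj_apply φ a (k : G) w hwa, hswap k k.2]; rfl)
  have hσρmul : ∀ (k : ↥K) r, σ (ρ k * r) = σ r * ρ k⁻¹ := fun k r => hext _ _ (by
    have hk2 : φ a (φ (k : G) (ev r : V)) = φ (a * k * a⁻¹) (φ a (ev r : V)) := by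
      show (φ a * φ (k : G)) _ = (φ (a * k * a⁻¹) * φ a) _
      rw [← map_mul, ← map_mul, inv_mul_cancel_right]
    rw [hσev, hevmul, hk2, ← hσev]
    have h1 := hswap k k.2
    have h2 := hcommR (σ r) ⟨w, hw0⟩ (a * k * a⁻¹) (fun x hx => hcommaK x hx _ k.2)
      (h1 ▸ mem_orbitSpan φ K w _ (inv_mem k.2))
    simp only [h1] at h2
    exact h2.symm)
  have hmul : ∀ x y, σ (x * y) = σ y * σ x := by
    intro x y
    have hx : x ∈ AddSubgroup.closure (Set.range ρ) := hspan ▸ AddSubgroup.mem_top x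
    induction hx using AddSubgroup.closure_induction with
    | mem z hz => obtain ⟨k, rfl⟩ := hz; rw [hσρmul, hσρ]
    | zero => rw [zero_mul, map_zero, mul_zero]
    | add x z _ _ hx hz => rw [add_mul, map_add, map_add, hx, hz, mul_add]
    | neg x _ hx => rw [neg_mul, map_neg, map_neg, hx, mul_neg]
  have hσσ : ∀ x, σ (σ x) = x := hσσ₀
  have htr : ∀ x, (ev (x + σ x) : V) = φ a (ev x : V) - (ev x : V) := fun x => by
    rw [map_add, AddSubgroup.coe_add, hσev, sub_eq_add_neg, hneg, add_comm]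
  have h2R : (2 : ↥R) = 0 := hext _ _ (by
    rw [← one_add_one_eq_two, map_add, AddSubgroup.coe_add, map_zero, ← two_nsmul, hV]; rfl)
  -- traces commute with the group
  have hfix2 : ∀ y ∈ K, ∀ k ∈ K, φ (y * k * y⁻¹) w + φ (y * k * y⁻¹)⁻¹ w = φ k w + φ k⁻¹ w := by
    intro y hy k hk
    have hka : φ a (φ k w) = φ k⁻¹ w := by rw [← conj_apply φ a k w hwa, hswap k hk]
    have h := hFix y hy (φ k w)
    rw [hka, map_sub, ← conj_apply φ _ _ w (hdw y hy), ← conj_apply φ _ _ w (hdw y hy),
      diag_conj_base hsp two_pos hy hk, diag_conj_base hsp two_pos hy (inv_mem hk)] at h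
    rw [show (y * k * y⁻¹)⁻¹ = y * k⁻¹ * y⁻¹ by group]
    simp only [sub_eq_add_neg, hneg] at h
    rw [add_comm, h, add_comm]
  have hcentρ : ∀ k y : ↥K, Commute (ρ k + ρ k⁻¹) (ρ y) := fun k y => by
    have he : ρ (y * k * y⁻¹) + ρ (y * k * y⁻¹)⁻¹ = ρ k + ρ k⁻¹ := hext _ _ (by
      rw [map_add, map_add, AddSubgroup.coe_add, AddSubgroup.coe_add, hevρ, hevρ, hevρ, hevρ]
      exact hfix2 y y.2 k k.2)
    show (ρ k + ρ k⁻¹) * ρ y = ρ y * (ρ k + ρ k⁻¹)
    conv_lhs => rw [← he]
    rw [add_mul, mul_add, ← map_mul, ← map_mul, ← map_mul, ← map_mul,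
      show (y * k * y⁻¹) * y = y * k by group, show (y * k * y⁻¹)⁻¹ * y = y * k⁻¹ by group]
  have hcent : ∀ x y, Commute (x + σ x) y := by
    intro x
    refine QuadAlg.commute_of_span ρ hspan fun g => ?_
    have hx : x ∈ AddSubgroup.closure (Set.range ρ) := hspan ▸ AddSubgroup.mem_top x
    induction hx using AddSubgroup.closure_induction with
    | mem z hz => obtain ⟨k, rfl⟩ := hz; rw [hσρ]; exact hcentρ k g
    | zero => rw [map_zero, add_zero]; exact Commute.zero_left _
    | add x z _ _ hx hz =>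
      rw [map_add, show x + z + (σ x + σ z) = (x + σ x) + (z + σ z) by abel]
      exact hx.add_left hz
    | neg x _ hx => rw [map_neg, ← neg_add]; exact hx.neg_left
  have hρne : ∃ g, ρ g ≠ 1 := by
    obtain ⟨k, hk, hk1⟩ := hwK
    refine ⟨⟨k, hk⟩, fun h => hk1 ?_⟩
    have h1 : φ k w = (ev 1 : V) := (hevρ ⟨k, hk⟩).symm.trans (congrArg (fun r => (ev r : V)) h)
    exact h1
  -- conjugation by an element normalizing `K`
  have hcU : ∀ c ∈ A, c ∈ Subgroup.normalizer (K : Set G) → ∀ v ∈ U, φ c v ∈ U :=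
    fun c hc hcN => orbitSpan_invariant φ K w fun k hk => by
      rw [← conj_apply φ c k w (hwA c hc)]
      exact mem_orbitSpan φ K w _ ((Subgroup.mem_normalizer_iff.mp hcN k).mp hk)
  -- the orbit of `K` has two members
  have horbit : ∀ c ∈ A,
      c ∈ Subgroup.normalizer (K : Set G) ∨ a * c ∈ Subgroup.normalizer (K : Set G) := by
    intro c hc
    by_contra hcon
    simp only [not_or] at hcon
    obtain ⟨hcN, hacN⟩ := hcon
    have hcw : φ c w = w := hwA c hc
    have hac : Commute c a := hAc c hc a ha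
    obtain ⟨J, -, ⟨r₀, s₀, hrs⟩, ⟨x₀, hx₀⟩, hmax⟩ :=
      QuadAlg.exists_simple_quotient h2R (commutator_top hK) ρ hspan hρne σ hmul hσσ hcent
    -- the third conjugate
    let P : G → AddMonoid.End V := fun k => φ (c * k * c⁻¹)
    have hPcomm : ∀ x ∈ K, ∀ k ∈ K, Commute (φ x) (P k) := fun x hx k hk =>
      (commute_conj hK hcN hx hk).map φ
    have hP3 : ∀ k ∈ K, φ a (P k w) = P k⁻¹ w := fun k hk => by
      rw [show P k w = φ c (φ k w) from conj_apply φ c k w hcw,
        show P k⁻¹ w = φ c (φ k⁻¹ w) from conj_apply φ c k⁻¹ w hcw,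
        show φ a (φ c (φ k w)) = (φ a * φ c) (φ k w) from rfl, ← map_mul, ← hac.eq, map_mul]
      show φ c (φ a (φ k w)) = _
      rw [← conj_apply φ a k w hwa, hswap k hk]
    let Hm : G → AddMonoid.End V := fun k => P k + P k⁻¹
    have hHw : ∀ k ∈ K, ∀ m ∈ K, φ m (Hm k w) = Hm k w := by
      intro k hk
      -- the stabilizer of `Hm k w` contains all commutators
      have key : ∀ l ∈ K, ∀ y ∈ K, φ (y * l * y⁻¹) (Hm k w) = φ l (Hm k w) := by
        intro l hl y hy
        have hdP : ∀ z ∈ K, Commute (φ (diag a y 2)) (P z) := fun z hz => by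
          rw [hdiag]
          refine ((commute_conj hK hcN hy hz).mul_left ?_).map φ
          have h := (Commute.conj_iff a).mpr (commute_conj hK hacN hy hz)
          rwa [show a * (a * c * z * (a * c)⁻¹) * a⁻¹ = c * z * c⁻¹ by
            rw [mul_inv_rev, hainv]
            simp only [← mul_assoc, haa, one_mul]
            simp only [mul_assoc, haa, mul_one]] at h
        have hPl : ∀ z ∈ K, ∀ x ∈ K, φ x (P z w) = P z (φ x w) := fun z hz x hx =>
          DFunLike.congr_fun (hPcomm x hx z hz).eq w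
        have hav : φ a (φ l (P k w)) = P k⁻¹ (φ l⁻¹ w) := by
          calc φ a (φ l (P k w)) = (φ (a * l * a⁻¹) * φ a) (P k w) := by
                rw [← map_mul, inv_mul_cancel_right, map_mul]; rfl
            _ = φ (a * l * a⁻¹) (P k⁻¹ w) := congrArg (φ (a * l * a⁻¹)) (hP3 k hk)
            _ = P k⁻¹ (φ l⁻¹ w) := by
              rw [← hswap l hl]
              have hc' : Commute (φ (a * l * a⁻¹)) (P k⁻¹) := by
                refine Commute.map ?_ φ
                have h := (Commute.conj_iff a).mpr (commute_conj hK hacN hl (inv_mem hk))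
                rwa [show a * (a * c * k⁻¹ * (a * c)⁻¹) * a⁻¹ = c * k⁻¹ * c⁻¹ by
                  rw [mul_inv_rev, hainv]
                  simp only [← mul_assoc, haa, one_mul]
                  simp only [mul_assoc, haa, mul_one]] at h
              exact DFunLike.congr_fun hc'.eq w
        have hdP' : ∀ z ∈ K, ∀ x ∈ K, φ (diag a y 2) (P z (φ x w)) = P z (φ (y * x * y⁻¹) w) := by
          intro z hz x hx
          rw [show φ (diag a y 2) (P z (φ x w)) = P z (φ (diag a y 2) (φ x w)) from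
            DFunLike.congr_fun (hdP z hz).eq (φ x w), ← conj_apply φ _ _ w (hdw y hy),
            diag_conj_base hsp two_pos hy hx]
        have h := hFix y hy (φ l (P k w))
        rw [hav, hPl k hk l hl, map_sub, hdP' _ (inv_mem hk) _ (inv_mem hl), hdP' _ hk _ hl,
          ← conj_inv] at h
        have h3 := hfix2 y hy l hl
        simp only [sub_eq_add_neg, hneg] at h
        -- replace inverses by means of the trace
        have e : ∀ z : V, ∀ z' : V, z' + z = φ l w + φ l⁻¹ w →
            P k⁻¹ z = P k⁻¹ (φ l w + φ l⁻¹ w) + P k⁻¹ z' := fun z z' hz => by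
          rw [← hz, map_add, add_comm (P k⁻¹ z'), add_assoc]
          conv_rhs => rw [show P k⁻¹ z' + P k⁻¹ z' = 0 by rw [← two_nsmul, hV], add_zero]
        rw [e _ _ h3, e _ _ rfl, add_assoc, add_assoc] at h
        have h4 := add_left_cancel h
        show φ (y * l * y⁻¹) (P k w + P k⁻¹ w) = φ l (P k w + P k⁻¹ w)
        have hyl : y * l * y⁻¹ ∈ K := mul_mem (mul_mem hy hl) (inv_mem hy)
        rw [map_add, map_add, hPl k hk _ hyl, hPl _ (inv_mem hk) _ hyl, hPl k hk l hl,
          hPl _ (inv_mem hk) l hl, add_comm, h4, add_comm]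
      let St : Subgroup ↥K :=
        { carrier := {m | φ (m : G) (Hm k w) = Hm k w}
          one_mem' := by
            show φ ((1 : ↥K) : G) (Hm k w) = Hm k w
            rw [OneMemClass.coe_one, map_one]; rfl
          mul_mem' := fun {m n} hm hn => by
            show φ ((m * n : ↥K) : G) (Hm k w) = Hm k w
            rw [Subgroup.coe_mul, map_mul]
            show φ (m : G) (φ (n : G) (Hm k w)) = _
            rw [hn, hm]
          inv_mem' := fun {m} hm => by
            show φ ((m⁻¹ : ↥K) : G) (Hm k w) = Hm k w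
            conv_lhs => rw [← hm]
            show (φ ((m⁻¹ : ↥K) : G) * φ (m : G)) _ = _
            rw [← map_mul, InvMemClass.coe_inv, inv_mul_cancel, map_one]; rfl }
      have hle : commutator ↥K ≤ St := by
        rw [commutator_def, Subgroup.commutator_le]
        intro g _ h _
        -- the value at `h * g` is the value at `g * h`
        have h1 := key ((h : G) * g) (mul_mem h.2 g.2) g g.2
        rw [show (g : G) * (h * g) * (g : G)⁻¹ = g * h by group] at h1
        show φ ((⁅g, h⁆ : ↥K) : G) (Hm k w) = Hm k w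
        have hg : ((⁅g, h⁆ : ↥K) : G) = (g : G) * h * ((h : G) * g)⁻¹ := by
          rw [commutatorElement_def]; simp [mul_assoc]
        have h2 : (φ ((g : G) * h * ((h : G) * g)⁻¹) * φ ((h : G) * g)) (Hm k w) =
            φ ((g : G) * h) (Hm k w) := by
          rw [← map_mul, inv_mul_cancel_right]
        rw [hg]
        -- `x` and `g h g⁻¹ h⁻¹ x` for `x = h g`
        have h3 : φ ((g : G) * h * ((h : G) * g)⁻¹) (φ ((h : G) * g) (Hm k w)) =
            φ ((h : G) * g) (Hm k w) := by
          rw [show φ ((g : G) * h * ((h : G) * g)⁻¹) (φ ((h : G) * g) (Hm k w)) =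
            (φ ((g : G) * h * ((h : G) * g)⁻¹) * φ ((h : G) * g)) (Hm k w) from rfl, h2, h1]
        have hsurj : ∃ x : ↥K, (x : G) = (h : G) * g := ⟨h * g, rfl⟩
        -- conjugation invariance removes the translate
        have h4 : ∀ (m : G), m ∈ K → ∀ z : G, z ∈ K →
            φ z (φ m (Hm k w)) = φ m (Hm k w) → φ (m⁻¹ * z * m) (Hm k w) = Hm k w := by
          intro m _ z _ hz
          rw [map_mul, map_mul]
          show φ m⁻¹ (φ z (φ m (Hm k w))) = _
          rw [hz, show φ m⁻¹ (φ m (Hm k w)) = (φ m⁻¹ * φ m) (Hm k w) from rfl, ← map_mul,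
            inv_mul_cancel, map_one]
          rfl
        have hzK : (g : G) * h * ((h : G) * g)⁻¹ ∈ K :=
          mul_mem (mul_mem g.2 h.2) (inv_mem (mul_mem h.2 g.2))
        have h5 := h4 _ (mul_mem h.2 g.2) _ hzK h3
        have h6 := key _ (mul_mem (mul_mem (inv_mem (mul_mem h.2 g.2)) hzK) (mul_mem h.2 g.2)) _
          (mul_mem h.2 g.2)
        rw [h5, show ((h : G) * g) * (((h : G) * g)⁻¹ * ((g : G) * h * ((h : G) * g)⁻¹) *
          ((h : G) * g)) * ((h : G) * g)⁻¹ = (g : G) * h * ((h : G) * g)⁻¹ by group] at h6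
        exact h6
      rw [commutator_top hK] at hle
      exact fun m hm => hle (Subgroup.mem_top (⟨m, hm⟩ : ↥K))
    -- an element central modulo `J`
    set z := x₀ + σ x₀ with hz
    have hann : ∀ r, r * z ∈ J → r ∈ J := by
      intro r hr
      by_contra hr'
      let I : TwoSidedIdeal ↥R := TwoSidedIdeal.mk' {r | r * z ∈ J} (by simp [zero_mem])
        (fun {x y} hx hy => by
          show (x + y) * z ∈ J
          rw [add_mul]; exact add_mem hx hy)
        (fun {x} hx => by
          show -x * z ∈ J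
          rw [neg_mul]; exact neg_mem hx)
        (fun {x y} hy => by
          show x * y * z ∈ J
          rw [mul_assoc]; exact J.mul_mem_left _ _ hy)
        (fun {x y} hx => by
          show x * y * z ∈ J
          rw [mul_assoc, ← (hcent x₀ y).eq, ← mul_assoc]
          exact J.mul_mem_right _ _ hx)
      have hI : ∀ r, r ∈ I ↔ r * z ∈ J := fun r => by simp [I]
      have := hmax I (lt_of_le_not_ge (fun x hx => (hI x).mpr (J.mul_mem_right _ _ hx))
        fun h => hr' (h ((hI r).mpr hr)))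
      exact hx₀ (by simpa using (hI 1).mp (this ▸ trivial))
    rcases halt with hall | ⟨b, hb, hbN, hbC, hbfix⟩
    · have h1 : ∀ m k : ↥K, (ρ m - 1) * (ρ k + ρ k⁻¹) = 0 := fun m k => hext _ _ (by
        have hfk : φ (k : G) w + φ (k : G)⁻¹ w = Hm k w := by
          have h := hall c hc (φ (k : G) w)
          rw [← conj_apply φ a (k : G) w hwa, hswap k k.2] at h
          simp only [sub_eq_add_neg, hneg, map_add] at h
          show _ = φ (c * (k : G) * c⁻¹) w + φ (c * (k : G)⁻¹ * c⁻¹) w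
          rw [conj_apply φ c _ w hcw, conj_apply φ c _ w hcw, add_comm (φ c (φ (k : G) w)), h,
            add_comm]
        rw [map_zero, ZeroMemClass.coe_zero, sub_mul, one_mul, map_sub, AddSubgroup.coe_sub,
          hevmul, map_add, AddSubgroup.coe_add, hevρ, hevρ, InvMemClass.coe_inv, hfk,
          hHw k k.2 m m.2, sub_self])
      have h2 : ∀ m : ↥K, ∀ x, (ρ m - 1) * (x + σ x) = 0 := by
        intro m x
        have hx : x ∈ AddSubgroup.closure (Set.range ρ) := hspan ▸ AddSubgroup.mem_top x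
        induction hx using AddSubgroup.closure_induction with
        | mem y hy => obtain ⟨k, rfl⟩ := hy; rw [hσρ, h1]
        | zero => rw [map_zero, add_zero, mul_zero]
        | add x y _ _ hx hy =>
          rw [map_add, show x + y + (σ x + σ y) = (x + σ x) + (y + σ y) by abel, mul_add, hx, hy,
            add_zero]
        | neg x _ hx => rw [map_neg, ← neg_add, mul_neg, hx, neg_zero]
      have hJ : ∀ m, ρ m - 1 ∈ J := fun m => hann _ (by rw [hz, h2]; exact zero_mem J)
      have hJ' : ∀ x y, x * y - y * x ∈ J := by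
        intro x y
        have hx : x ∈ AddSubgroup.closure (Set.range ρ) := hspan ▸ AddSubgroup.mem_top x
        induction hx using AddSubgroup.closure_induction with
        | mem u hu =>
          obtain ⟨k, rfl⟩ := hu
          rw [show ρ k * y - y * ρ k = (ρ k - 1) * y - y * (ρ k - 1) by noncomm_ring]
          exact sub_mem (J.mul_mem_right _ _ (hJ k)) (J.mul_mem_left _ _ (hJ k))
        | zero => simp [zero_mem]
        | add u u' _ _ hu hu' =>
          rw [show (u + u') * y - y * (u + u') = (u * y - y * u) + (u' * y - y * u') by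
            noncomm_ring]
          exact add_mem hu hu'
        | neg u _ hu =>
          rw [show -u * y - y * -u = -(u * y - y * u) by noncomm_ring]
          exact neg_mem hu
      exact hrs (hJ' r₀ s₀)
    · have hbK : ∀ k ∈ K, b * k * b⁻¹ ∈ K := fun k hk =>
        (Subgroup.mem_normalizer_iff.mp hbN k).mp hk
      have hbw : φ b w = w := hwA b hb
      have h1 : ∀ k m : ↥K, (ρ m + ρ m⁻¹) * (ρ ⟨_, hbK k k.2⟩ - ρ k) = 0 := fun k m => hext _ _ (by
        set ε : V := φ (b * (k : G) * b⁻¹) w - φ (k : G) w with hε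
        -- `ε` is fixed by `c`
        have hεc : φ c ε = ε := by
          rw [hε, conj_apply φ b _ w hbw]
          have hbc : ∀ x : V, φ c (φ b x) = φ b (φ c x) := fun x => by
            show (φ c * φ b) x = (φ b * φ c) x
            rw [← map_mul, hAc c hc b hb, map_mul]
          have h := hbfix c hc (φ (k : G) w)
          rw [map_sub, sub_eq_iff_eq_add] at h
          rw [map_sub, hbc, h]
          abel
        -- so the operators of the third conjugate kill it
        have h0 : Hm (m : G) ε = 0 := by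
          have hH : ∀ x ∈ K, Hm (m : G) (φ x w) = Hm (m : G) w := fun x hx => by
            rw [← hHw _ m.2 x hx]
            exact DFunLike.congr_fun
              ((hPcomm x hx _ m.2).add_right (hPcomm x hx _ (inv_mem m.2))).symm.eq w
          rw [hε, map_sub, hH _ (hbK k k.2), hH _ k.2, sub_self]
        have hPc : ∀ z : G, P z ε = φ c (φ z ε) := fun z => conj_apply φ c z ε hεc
        have h0' : φ c (φ (m : G) ε + φ (m : G)⁻¹ ε) = 0 := by
          rw [map_add, ← hPc, ← hPc]; exact h0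
        have h0'' : φ (m : G) ε + φ (m : G)⁻¹ ε = 0 := by
          have h := congrArg (φ c⁻¹) h0'
          rwa [show φ c⁻¹ (φ c (φ (m : G) ε + φ (m : G)⁻¹ ε)) =
            (φ c⁻¹ * φ c) (φ (m : G) ε + φ (m : G)⁻¹ ε) from rfl, ← map_mul, inv_mul_cancel,
            map_one, map_zero] at h
        rw [map_zero, ZeroMemClass.coe_zero, add_mul, map_add, AddSubgroup.coe_add, hevmul,
          hevmul, map_sub, AddSubgroup.coe_sub, hevρ, hevρ, InvMemClass.coe_inv]
        exact h0'')
      have h2 : ∀ k : ↥K, ∀ x, (x + σ x) * (ρ ⟨_, hbK k k.2⟩ - ρ k) = 0 := by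
        intro k x
        have hx : x ∈ AddSubgroup.closure (Set.range ρ) := hspan ▸ AddSubgroup.mem_top x
        induction hx using AddSubgroup.closure_induction with
        | mem y hy => obtain ⟨m, rfl⟩ := hy; rw [hσρ, h1]
        | zero => rw [map_zero, add_zero, zero_mul]
        | add x y _ _ hx hy =>
          rw [map_add, show x + y + (σ x + σ y) = (x + σ x) + (y + σ y) by abel, add_mul, hx, hy,
            add_zero]
        | neg x _ hx => rw [map_neg, ← neg_add, neg_mul, hx, neg_zero]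
      have hJ : ∀ k : ↥K, ρ ⟨_, hbK k k.2⟩ - ρ k ∈ J := fun k => hann _ (by
        rw [← (hcent x₀ _).eq, h2]; exact zero_mem J)
      let π := J.ringCon.mk'
      have hπ : ∀ x y, π x = π y ↔ x - y ∈ J := fun x y => by
        rw [← sub_eq_zero, ← map_sub]
        exact ⟨fun h => (J.mem_iff _).mpr ((RingCon.eq _).mp h),
          fun h => (RingCon.eq _).mpr ((J.mem_iff _).mp h)⟩
      let K₀ : Subgroup ↥K := (π.toMonoidHom.comp ρ).toHomUnits.ker
      have hK₀ : ∀ g, g ∈ K₀ ↔ π (ρ g) = 1 := fun g =>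
        ⟨fun hg => congrArg Units.val (hg : _ = _), fun hg => Units.ext hg⟩
      rcases center_or_top hK K₀ inferInstance with htop | hle
      · refine hrs ?_
        rw [← hπ, map_mul, map_mul]
        refine (QuadAlg.ring_comm_of_group (π.toMonoidHom.comp ρ)
          (QuadAlg.span_quotient ρ hspan π Quotient.mk''_surjective) (fun g k => ?_) _ _).eq
        show Commute (π (ρ g)) (π (ρ k))
        rw [(hK₀ g).mp (htop ▸ trivial)]
        exact Commute.one_left _
      · refine hbC (commute_of_central hK hbN fun k => hle ((hK₀ _).mpr ?_))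
        rw [map_mul, map_mul, (hπ _ _).mpr (hJ k), ← map_mul, ← map_mul, mul_inv_cancel, map_one,
          map_one]
  -- counting
  set A₀ := A ⊓ Subgroup.normalizer (K : Set G) with hA₀
  let γf : ↥A₀ → ↥R → ↥R := fun c r =>
    eqv.symm ⟨φ (c : G) (ev r : V), hcU c c.2.1 c.2.2 _ (ev r).2⟩
  have hγev : ∀ c r, (ev (γf c r) : V) = φ (c : G) (ev r : V) := fun c r =>
    congrArg Subtype.val (eqv.apply_symm_apply _)
  let θ : ↥A₀ →* MulAut ↥K :=
    (Subgroup.normalizerMonoidHom K).comp (Subgroup.inclusion inf_le_right)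
  have hθ : ∀ (c : ↥A₀) (k : ↥K), ((θ c k : ↥K) : G) = (c : G) * k * (c : G)⁻¹ := fun c k => rfl
  have hA₀sq : ∀ c : ↥A₀, c * c = 1 := fun c => Subtype.ext (by
    rw [Subgroup.coe_mul, ← pow_two]; exact hAp c c.2.1)
  have hγγ : ∀ c r, γf c (γf c r) = r := fun c r => hext _ _ (by
    rw [hγev, hγev]
    show (φ (c : G) * φ (c : G)) (ev r : V) = _
    rw [← map_mul, ← Subgroup.coe_mul, hA₀sq, OneMemClass.coe_one, map_one]; rfl)
  have hγρmul : ∀ (c : ↥A₀) (k : ↥K) r, γf c (ρ k * r) = ρ (θ c k) * γf c r := fun c k r =>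
    hext _ _ (by
      rw [hγev, hevmul, hevmul, hγev, hθ]
      show (φ (c : G) * φ (k : G)) _ = (φ ((c : G) * k * (c : G)⁻¹) * φ (c : G)) _
      rw [← map_mul, ← map_mul, inv_mul_cancel_right])
  have hγρ : ∀ (c : ↥A₀) (k : ↥K), γf c (ρ k) = ρ (θ c k) := fun c k => hext _ _ (by
    rw [hγev, hevρ, hevρ, hθ, conj_apply φ _ _ w (hwA c c.2.1)])
  have hγadd : ∀ c r s, γf c (r + s) = γf c r + γf c s := fun c r s => hext _ _ (by
    rw [hγev, map_add, map_add, AddSubgroup.coe_add, AddSubgroup.coe_add, map_add, hγev, hγev])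
  have hγmul : ∀ c r s, γf c (r * s) = γf c r * γf c s := by
    intro c r s
    have hr : r ∈ AddSubgroup.closure (Set.range ρ) := hspan ▸ AddSubgroup.mem_top r
    induction hr using AddSubgroup.closure_induction with
    | mem x hx => obtain ⟨k, rfl⟩ := hx; rw [hγρmul, hγρ]
    | zero =>
      have h0 : γf c 0 = 0 := by
        have h := hγadd c 0 0
        rwa [add_zero, left_eq_add] at h
      rw [zero_mul, h0, zero_mul]
    | add x y _ _ hx hy => rw [add_mul, hγadd, hγadd, hx, hy, add_mul]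
    | neg x _ hx =>
      have hn : ∀ z, γf c (-z) = -γf c z := fun z => hext _ _ (by
        rw [hγev, map_neg, map_neg, AddSubgroup.coe_neg, AddSubgroup.coe_neg, map_neg, hγev])
      rw [neg_mul, hn, hn, hx, neg_mul]
  let γ : ↥A₀ →* RingAut ↥R :=
    { toFun := fun c => { toFun := γf c, invFun := γf c, left_inv := hγγ c, right_inv := hγγ c,
                          map_mul' := hγmul c, map_add' := hγadd c }
      map_one' := RingEquiv.ext fun r => hext _ _ (by
        show (ev (γf 1 r) : V) = (ev r : V)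
        rw [hγev, OneMemClass.coe_one, map_one]; rfl)
      map_mul' := fun c d => RingEquiv.ext fun r => hext _ _ (by
        show (ev (γf (c * d) r) : V) = (ev (γf c (γf d r)) : V)
        rw [hγev, hγev, hγev, Subgroup.coe_mul, map_mul]; rfl) }
  have hγσ : ∀ c x, γ c (σ x) = σ (γ c x) := fun c x => hext _ _ (by
    show (ev (γf c (σ x)) : V) = (ev (σ (γf c x)) : V)
    rw [hγev, hσev, hσev, hγev]
    show (φ (c : G) * φ a) _ = (φ a * φ (c : G)) _
    rw [← map_mul, hAc c c.2.1 a ha, map_mul])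
  have hb : θ.ker = ⊤ ∨ ∃ b, θ b ≠ 1 ∧ ∀ x, γ b (x + σ x) = x + σ x := by
    rcases halt with hall | ⟨b, hb, hbN, hbC, hbfix⟩
    · by_cases h : θ.ker = ⊤
      · exact Or.inl h
      obtain ⟨c, hc⟩ : ∃ c, c ∉ θ.ker := by
        by_contra hh
        simp only [not_exists, not_not] at hh
        exact h (eq_top_iff.mpr fun c _ => hh c)
      refine Or.inr ⟨c, hc, fun x => hext _ _ ?_⟩
      show (ev (γf c (x + σ x)) : V) = _
      rw [hγev, htr]
      exact hall c c.2.1 (ev x : V)
    · refine Or.inr ⟨⟨b, hb, hbN⟩, fun h => hbC fun k hk => mul_inv_eq_iff_eq_mul.mp ?_,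
        fun x => hext _ _ ?_⟩
      · exact congrArg Subtype.val (DFunLike.congr_fun h ⟨k, hk⟩)
      · show (ev (γf _ (x + σ x)) : V) = _
        rw [hγev, htr]
        exact hbfix a ha (ev x : V)
  refine QuadAlg.count_false h2R (commutator_top hK) (center_or_top hK) ρ hspan hρne σ hmul hσσ
    hcent hA₀sq γ hγσ θ hγρ hb ?_
  -- the inequality
  have hA : Nat.card A ≤ 2 * Nat.card A₀ := by
    rw [← Fintype.card_fin 2, ← Nat.card_eq_fintype_card (α := Fin 2), ← Nat.card_prod]
    refine Nat.card_le_card_of_injective (fun c : ↥A =>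
      if h : (c : G) ∈ Subgroup.normalizer (K : Set G) then ((0 : Fin 2), (⟨c, c.2, h⟩ : ↥A₀))
      else ((1 : Fin 2), (⟨a * c, mul_mem ha c.2, (horbit c c.2).resolve_left h⟩ : ↥A₀))) ?_
    intro c d h
    simp only at h
    split_ifs at h with h1 h2
    · exact Subtype.ext (congrArg (fun q : Fin 2 × ↥A₀ => ((q.2 : ↥A₀) : G)) h)
    · simp at h
    · simp at h
    · exact Subtype.ext (mul_left_cancel (congrArg (fun q : Fin 2 × ↥A₀ => ((q.2 : ↥A₀) : G)) h))
  have hkerle : Nat.card θ.ker ≤ Nat.card ↥(A ⊓ Subgroup.centralizer (K : Set G)) := by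
    refine Nat.card_le_card_of_injective (fun c : θ.ker => (⟨((c : ↥A₀) : G), (c : ↥A₀).2.1,
      Subgroup.mem_centralizer_iff.mpr fun k hk => (mul_inv_eq_iff_eq_mul.mp
        (congrArg Subtype.val (DFunLike.congr_fun (MonoidHom.mem_ker.mp c.2) (⟨k, hk⟩ : ↥K)) :
          ((c : ↥A₀) : G) * k * ((c : ↥A₀) : G)⁻¹ = k)).symm⟩ :
        ↥(A ⊓ Subgroup.centralizer (K : Set G)))) fun c d h => ?_
    exact Subtype.ext (Subtype.ext (Subtype.mk_eq_mk.mp h :))
  have hUle := card_mul_card_le_addSubgroup U (fixSub φ A)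
  have hsup := AddSubgroup.card_le_card_addGroup (U ⊔ fixSub φ A)
  have hF : Nat.card ↥(U ⊓ fixSub φ A) ≤
      Nat.card {x : ↥R // σ x = x ∧ ∀ c, γ c x = x} := by
    refine Nat.card_le_card_of_injective (fun u : ↥(U ⊓ fixSub φ A) =>
      (⟨eqv.symm ⟨u, u.2.1⟩, ?_, ?_⟩ : {x : ↥R // σ x = x ∧ ∀ c, γ c x = x})) fun u v h => ?_
    · refine hext _ _ ?_
      rw [hσev, show (ev (eqv.symm ⟨(u : V), u.2.1⟩) : V) = (u : V) from
        congrArg Subtype.val (eqv.apply_symm_apply _)]
      exact u.2.2 a ha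
    · intro c
      refine hext _ _ ?_
      show (ev (γf c (eqv.symm ⟨(u : V), u.2.1⟩)) : V) = _
      rw [hγev, show (ev (eqv.symm ⟨(u : V), u.2.1⟩) : V) = (u : V) from
        congrArg Subtype.val (eqv.apply_symm_apply _)]
      exact u.2.2 c c.2.1
    · exact Subtype.ext (Subtype.mk_eq_mk.mp (eqv.symm.injective (Subtype.mk_eq_mk.mp h :)) :)
  set B := A ⊓ Subgroup.centralizer (K : Set G)
  have hposC : 0 < Nat.card (fixSub φ A) := Nat.card_pos
  rw [Nat.card_congr eqv.toEquiv]
  refine Nat.le_of_mul_le_mul_right ?_ hposC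
  calc Nat.card U * Nat.card θ.ker * Nat.card (fixSub φ A)
      ≤ Nat.card U * Nat.card (fixSub φ A) * Nat.card ↥B := by
        rw [mul_right_comm]; exact Nat.mul_le_mul_left _ hkerle
    _ ≤ Nat.card V * Nat.card ↥(U ⊓ fixSub φ A) * Nat.card ↥B :=
        Nat.mul_le_mul_right _ (hUle.trans (Nat.mul_le_mul_right _ hsup))
    _ = (Nat.card ↥B * Nat.card V) * Nat.card ↥(U ⊓ fixSub φ A) := by ring
    _ ≤ (Nat.card A * Nat.card (fixSub φ A)) * _ := Nat.mul_le_mul hmeas hF
    _ ≤ (2 * Nat.card A₀ * Nat.card (fixSub φ A)) * _ :=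
        Nat.mul_le_mul_right _ (Nat.mul_le_mul_right _ hA)
    _ = _ := by ring

/-- The P(G,V) theorem. -/
theorem normalizes (hV : ∀ v : V, p • v = 0) (φ : G →* AddMonoid.End V)
    (hφ : Function.Injective φ) {A : Subgroup G} (hAc : ∀ a ∈ A, ∀ b ∈ A, a * b = b * a)
    (hAp : ∀ a ∈ A, a ^ p = 1) (hmax : ∀ B ≤ A, measure φ B ≤ measure φ A) {K : Subgroup G}
    (hK : IsComponent K) : A ≤ Subgroup.normalizer (K : Set G) := by
  classical
  by_contra hcon
  obtain ⟨a₀, ha₀, ha₀N⟩ := SetLike.not_le_iff_exists.mp hcon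
  set B := A ⊓ Subgroup.centralizer (K : Set G) with hB
  set G₁ := K ⊔ A with hG₁
  set W := fixSub φ B with hW
  have hBcomm : ∀ b ∈ B, ∀ g ∈ G₁, b * g = g * b := by
    intro b hb g hg
    have hle : G₁ ≤ Subgroup.centralizer ({b} : Set G) := sup_le
      (fun k hk => Subgroup.mem_centralizer_singleton_iff.mpr
        (Subgroup.mem_centralizer_iff.mp hb.2 k hk))
      (fun c hc => Subgroup.mem_centralizer_singleton_iff.mpr (hAc c hc b hb.1))
    exact (Subgroup.mem_centralizer_singleton_iff.mp (hle hg)).symm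
  have hWinv : ∀ g ∈ G₁, ∀ v ∈ W, φ g v ∈ W := fun g hg v hv =>
    conj_mem_fixSub (fun b hb => hBcomm b hb g hg) hv
  let φ₁ : ↥G₁ →* AddMonoid.End ↥W :=
    { toFun := fun g => ((φ (g : G)).comp W.subtype).codRestrict W fun v => hWinv g g.2 v v.2
      map_one' := AddMonoidHom.ext fun v => Subtype.ext (by
        show φ ((1 : ↥G₁) : G) (v : V) = (v : V)
        rw [OneMemClass.coe_one, map_one]; rfl)
      map_mul' := fun g h => AddMonoidHom.ext fun v => Subtype.ext (by
        show φ ((g * h : ↥G₁) : G) (v : V) = φ (g : G) (φ (h : G) (v : V))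
        rw [Subgroup.coe_mul, map_mul]; rfl) }
  have hφ₁ : ∀ g v, ((φ₁ g v : ↥W) : V) = φ (g : G) (v : V) := fun g v => rfl
  set K₁ := K.subgroupOf G₁ with hK₁def
  set A₁ := A.subgroupOf G₁ with hA₁def
  have hK₁ : IsComponent K₁ := Layer.isComponent_subgroupOf hK le_sup_left
  have htop : K₁ ⊔ A₁ = ⊤ := by
    rw [← Subgroup.subgroupOf_sup le_sup_left le_sup_right, Subgroup.subgroupOf_self]
  -- `K` acts nontrivially on `W`
  have hBp : IsPGroup p B := fun b => ⟨1, Subtype.ext (by
    rw [pow_one, SubmonoidClass.coe_pow]; exact hAp b b.2.1)⟩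
  have hnt : ∃ k ∈ K₁, φ₁ k ≠ 1 := by
    by_contra h
    simp only [not_exists, not_and, not_not] at h
    have hWK : ∀ v ∈ W, ∀ k ∈ K, φ k v = v := fun v hv k hk =>
      congrArg Subtype.val
        (DFunLike.congr_fun (h ⟨k, Subgroup.mem_sup_left hk⟩ hk) (⟨v, hv⟩ : ↥W))
    set X := fixSub φ K with hX
    have hXinv : ∀ b ∈ B, ∀ v ∈ X, φ b v ∈ X := fun b hb v hv =>
      conj_mem_fixSub (fun k hk => Subgroup.mem_centralizer_iff.mp hb.2 k hk) hv
    let act : ↥B →* Function.End (V ⧸ X) :=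
      { toFun := fun b q => QuotientAddGroup.map X X (φ (b : G))
          (fun v hv => hXinv b b.2 v hv) q
        map_one' := by
          funext q
          induction q using QuotientAddGroup.induction_on with
          | H v =>
            refine congrArg QuotientAddGroup.mk ?_
            show φ ((1 : ↥B) : G) v = v
            rw [OneMemClass.coe_one, map_one]; rfl
        map_mul' := fun a b => by
          funext q
          induction q using QuotientAddGroup.induction_on with
          | H v =>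
            refine congrArg QuotientAddGroup.mk ?_
            show φ ((a * b : ↥B) : G) v = φ (a : G) (φ (b : G) v)
            rw [Subgroup.coe_mul, map_mul]; rfl }
    letI : MulAction ↥B (V ⧸ X) := MulAction.compHom _ act
    obtain ⟨v₁, hv₁⟩ : ∃ v, v ∉ X := by
      by_contra hh
      simp only [not_exists, not_not] at hh
      exact Layer.ne_bot_of_isComponent hK ((Subgroup.eq_bot_iff_forall _).mpr fun k hk =>
        hφ (by rw [map_one]; exact DFunLike.ext _ _ fun v => hh v k hk))
    have hdvd : p ∣ Nat.card (V ⧸ X) := by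
      have h : addOrderOf (v₁ : V ⧸ X) = p := addOrderOf_eq_prime
        (by rw [← QuotientAddGroup.mk_nsmul, hV, QuotientAddGroup.mk_zero])
        (fun e => hv₁ ((QuotientAddGroup.eq_zero_iff _).mp e))
      exact h ▸ addOrderOf_dvd_natCard _
    obtain ⟨q, hqfix, hq0⟩ := hBp.exists_fixed_point_of_prime_dvd_card_of_fixed_point (V ⧸ X) hdvd
      (a := 0) (show ∀ b : ↥B, act b 0 = 0 from fun b => map_zero (QuotientAddGroup.map X X
        (φ (b : G)) (fun v hv => hXinv b b.2 v hv)))
    obtain ⟨v, rfl⟩ := QuotientAddGroup.mk_surjective q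
    have hfix : ∀ b ∈ B, φ b v - v ∈ X := fun b hb => by
      have h := QuotientAddGroup.eq.mp
        (show (QuotientAddGroup.mk (φ b v) : V ⧸ X) = QuotientAddGroup.mk v from hqfix ⟨b, hb⟩)
      have h' : -(φ b v) + v ∈ X := h
      rw [← neg_mem_iff, neg_sub]
      rwa [neg_add_eq_sub] at h'
    have hdW : ∀ k ∈ K, φ k v - v ∈ W := fun k hk b hb => by
      have hx := hfix b hb k hk
      rw [map_sub, show φ k (φ b v) = (φ k * φ b) v from rfl, ← map_mul,
        ← hBcomm b hb k (Subgroup.mem_sup_left hk), map_mul] at hx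
      have hx' : φ b (φ k v) - φ k v = φ b v - v := hx
      rw [map_sub]
      exact sub_eq_sub_iff_sub_eq_sub.mp hx'
    let e : ↥K →* Multiplicative V :=
      { toFun := fun k => Multiplicative.ofAdd (φ (k : G) v - v)
        map_one' := by
          rw [OneMemClass.coe_one, map_one]
          exact congrArg Multiplicative.ofAdd (sub_self v)
        map_mul' := fun k m => by
          rw [← ofAdd_add, Subgroup.coe_mul, map_mul]
          refine congrArg Multiplicative.ofAdd ?_
          have h1 := hWK _ (hdW m m.2) k k.2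
          rw [map_sub, sub_eq_iff_eq_add] at h1
          show φ (k : G) (φ (m : G) v) - v = _
          rw [h1]; abel }
    have he := QuadAlg.eq_one_of_commute (commutator_top hK) e fun g k => Commute.all _ _
    exact hq0 (((QuotientAddGroup.eq_zero_iff _).mpr (show v ∈ X from fun k hk =>
      sub_eq_zero.mp (congrArg Multiplicative.toAdd (he ⟨k, hk⟩)))).symm)
  have hA₁c : ∀ a ∈ A₁, ∀ b ∈ A₁, a * b = b * a := fun a ha b hb => Subtype.ext (hAc a ha b hb)
  have hA₁p : ∀ a ∈ A₁, a ^ p = 1 := fun a ha => Subtype.ext (by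
    rw [SubmonoidClass.coe_pow]; exact hAp a ha)
  have hfixW : ∀ D : Subgroup ↥G₁, Nat.card (fixSub φ₁ D) =
      Nat.card (fixSub φ (D.map G₁.subtype ⊔ B)) := fun D => Nat.card_congr
    { toFun := fun v => ⟨(v.1 : V), by
        refine fixSub_inf_le φ (D.map G₁.subtype) B ⟨?_, v.1.2⟩
        rintro _ ⟨d, hd, rfl⟩
        exact congrArg Subtype.val (v.2 d hd)⟩
      invFun := fun v => ⟨⟨v.1, fixSub_anti φ le_sup_right v.2⟩, fun d hd => Subtype.ext
        (v.2 _ (Subgroup.mem_sup_left ⟨d, hd, rfl⟩))⟩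
      left_inv := fun v => rfl
      right_inv := fun v => rfl }
  have hA₁map : A₁.map G₁.subtype = A := Subgroup.map_subgroupOf_eq_of_le le_sup_right
  have hm₁ : measure φ₁ A₁ = measure φ A := by
    rw [measure, measure, hfixW, hA₁map, sup_eq_left.mpr (inf_le_left : B ≤ A),
      Nat.card_congr (Subgroup.subgroupOfEquivOfLe (le_sup_right : A ≤ G₁)).toEquiv]
  have hmax₁ : ∀ D ≤ A₁, measure φ₁ D ≤ measure φ₁ A₁ := fun D hD => by
    rw [hm₁]
    refine le_trans ?_ (hmax (D.map G₁.subtype ⊔ B)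
      (sup_le ((Subgroup.map_mono hD).trans hA₁map.le) inf_le_left))
    rw [measure, measure, hfixW]
    refine Nat.mul_le_mul_right _ ?_
    rw [← Subgroup.card_map_of_injective G₁.subtype_injective]
    exact Subgroup.card_le_of_le le_sup_left
  have hcent₁ : ∀ c ∈ A₁, (∀ k ∈ K₁, c * k = k * c) → φ₁ c = 1 := fun c hc h =>
    DFunLike.ext _ _ fun v => Subtype.ext (v.2 _ ⟨hc, Subgroup.mem_centralizer_iff.mpr fun k hk =>
      (congrArg Subtype.val (h ⟨k, Subgroup.mem_sup_left hk⟩ hk)).symm⟩)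
  have hV₁ : ∀ v : ↥W, p • v = 0 := fun v =>
    Subtype.ext ((AddSubgroupClass.coe_nsmul _ _).trans (hV _))
  have hmove₁ : ∃ a ∈ A₁, a ∉ Subgroup.normalizer (K₁ : Set ↥G₁) := by
    refine ⟨⟨a₀, Subgroup.mem_sup_right ha₀⟩, ha₀, fun h => ha₀N ?_⟩
    refine Subgroup.mem_normalizer_iff.mpr fun k => ?_
    have h' := Subgroup.mem_normalizer_iff.mp h
    constructor
    · intro hk
      exact (h' ⟨k, Subgroup.mem_sup_left hk⟩).mp hk
    · intro hk
      have hkG : k ∈ G₁ := by
        have h2 : a₀ * k * a₀⁻¹ ∈ G₁ := Subgroup.mem_sup_left hk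
        have h3 : a₀ ∈ G₁ := Subgroup.mem_sup_right ha₀
        have h4 := mul_mem (mul_mem (inv_mem h3) h2) h3
        rwa [show a₀⁻¹ * (a₀ * k * a₀⁻¹) * a₀ = k by group] at h4
      exact (h' ⟨k, hkG⟩).mpr hk
  obtain ⟨a, ha, haN, hFix, halt⟩ :=
    exists_fixing hV₁ φ₁ hK₁ hA₁c hA₁p hmax₁ hnt hcent₁ hmove₁
  -- factor out the fixed points of the conjugates of `K`
  let X : AddSubgroup ↥W :=
    { carrier := {v | ∀ g : ↥G₁, ∀ k ∈ K₁, φ₁ (g * k * g⁻¹) v = v}
      zero_mem' := fun g k _ => map_zero _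
      add_mem' := fun {x y} hx hy g k hk => by rw [map_add, hx g k hk, hy g k hk]
      neg_mem' := fun {x} hx g k hk => by rw [map_neg, hx g k hk] }
  have hXinv : ∀ h, ∀ v ∈ X, φ₁ h v ∈ X := fun h v hv g k hk => by
    have := hv (h⁻¹ * g) k hk
    calc φ₁ (g * k * g⁻¹) (φ₁ h v) = φ₁ h (φ₁ ((h⁻¹ * g) * k * (h⁻¹ * g)⁻¹) v) := by
          show (φ₁ (g * k * g⁻¹) * φ₁ h) v = (φ₁ h * φ₁ ((h⁻¹ * g) * k * (h⁻¹ * g)⁻¹)) v
          rw [← map_mul, ← map_mul]
          congr 2
          group
      _ = φ₁ h v := by rw [this]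
  let φ₂ : ↥G₁ →* AddMonoid.End (↥W ⧸ X) :=
    { toFun := fun g => QuotientAddGroup.map X X (φ₁ g) (fun v hv => hXinv g v hv)
      map_one' := AddMonoidHom.ext fun q => by
        induction q using QuotientAddGroup.induction_on with
        | H v =>
          refine congrArg QuotientAddGroup.mk ?_
          rw [map_one]; rfl
      map_mul' := fun g h => AddMonoidHom.ext fun q => by
        induction q using QuotientAddGroup.induction_on with
        | H v =>
          refine congrArg QuotientAddGroup.mk ?_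
          rw [map_mul]; rfl }
  have hφ₂ : ∀ g v, φ₂ g (QuotientAddGroup.mk v) = QuotientAddGroup.mk (φ₁ g v) := fun g v => rfl
  haveI : Finite (↥W ⧸ X) := Finite.of_surjective _ QuotientAddGroup.mk_surjective
  have hV₂ : ∀ q : ↥W ⧸ X, p • q = 0 := fun q => by
    induction q using QuotientAddGroup.induction_on with
    | H v => rw [← QuotientAddGroup.mk_nsmul, hV₁, QuotientAddGroup.mk_zero]
  have hfix₂ : ∀ g c, g ∈ fixRange φ₁ c → g ∈ fixRange φ₂ c := fun g c hg q => by
    induction q using QuotientAddGroup.induction_on with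
    | H v => rw [hφ₂, ← QuotientAddGroup.mk_sub, hφ₂, hg v]
  have hX0 : ∀ q : ↥W ⧸ X, (∀ g : ↥G₁, ∀ k ∈ K₁, φ₂ (g * k * g⁻¹) q = q) → q = 0 := by
    intro q hq
    obtain ⟨v, rfl⟩ := QuotientAddGroup.mk_surjective q
    rw [QuotientAddGroup.eq_zero_iff]
    intro g k hk
    have hmem : ∀ m ∈ K₁, φ₁ (g * m * g⁻¹) v - v ∈ X := fun m hm => by
      have h := QuotientAddGroup.eq.mp (hq g m hm).symm
      rwa [neg_add_eq_sub] at h
    let e : ↥K₁ →* Multiplicative ↥W :=
      { toFun := fun m => Multiplicative.ofAdd (φ₁ (g * (m : ↥G₁) * g⁻¹) v - v)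
        map_one' := by
          rw [OneMemClass.coe_one, mul_one, mul_inv_cancel, map_one]
          exact congrArg Multiplicative.ofAdd (sub_self v)
        map_mul' := fun m n => by
          rw [← ofAdd_add]
          refine congrArg Multiplicative.ofAdd ?_
          have h1 := hmem n n.2 g m m.2
          rw [map_sub, sub_eq_iff_eq_add] at h1
          rw [Subgroup.coe_mul,
            show g * ((m : ↥G₁) * n) * g⁻¹ = (g * (m : ↥G₁) * g⁻¹) * (g * n * g⁻¹) by group,
            map_mul]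
          show φ₁ (g * (m : ↥G₁) * g⁻¹) (φ₁ (g * n * g⁻¹) v) - v = _
          rw [h1]; abel }
    have he := QuadAlg.eq_one_of_commute (commutator_top hK₁) e fun g k => Commute.all _ _
    exact sub_eq_zero.mp (congrArg Multiplicative.toAdd (he ⟨k, hk⟩))
  have hVne : ∃ k ∈ K₁, φ₂ k ≠ 1 := by
    by_contra h
    simp only [not_exists, not_and, not_not] at h
    have hall : ∀ v : ↥W, v ∈ X := fun v => (QuotientAddGroup.eq_zero_iff v).mp
      (hX0 _ fun g k hk => by
        rw [map_mul, map_mul, h k hk, mul_one, ← map_mul, mul_inv_cancel, map_one]; rfl)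
    obtain ⟨k, hk, hk1⟩ := hnt
    refine hk1 (DFunLike.ext _ _ fun v => ?_)
    have := hall v 1 k hk
    rwa [one_mul, inv_one, mul_one] at this
  have hA₁pg : IsPGroup p A₁ := fun c => ⟨1, Subtype.ext (by
    rw [pow_one, SubmonoidClass.coe_pow]; exact hA₁p c c.2)⟩
  -- a fixed vector among the commutators
  let t : (↥W ⧸ X) →+ (↥W ⧸ X) := AddMonoidHom.mk' (fun v => φ₂ a v - v) fun u v => by
    rw [map_add, add_sub_add_comm]
  obtain ⟨q₀, hq₀⟩ : ∃ q, t q ≠ 0 := by
    by_contra h
    simp only [not_exists, not_not] at h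
    obtain ⟨k, hk, hk1⟩ := hVne
    exact hk1 (trivial_of_moved hK₁ haN (DFunLike.ext _ _ fun v => sub_eq_zero.mp (h v)) k hk)
  obtain ⟨w, hwr, hw0, hwA⟩ := exists_fixed hV₂ φ₂ hA₁pg (W := t.range) (fun c hc u hu => by
    obtain ⟨v, rfl⟩ := hu
    refine ⟨φ₂ c v, ?_⟩
    show φ₂ a (φ₂ c v) - φ₂ c v = φ₂ c (φ₂ a v - v)
    rw [map_sub]
    congr 1
    show (φ₂ a * φ₂ c) v = (φ₂ c * φ₂ a) v
    rw [← map_mul, hA₁c a ha c hc, map_mul]) ⟨q₀, rfl⟩ hq₀
  obtain ⟨v₂, hv₂⟩ := hwr
  have hwK : ∃ k ∈ K₁, φ₂ k w ≠ w := by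
    by_contra h
    simp only [not_exists, not_and, not_not] at h
    refine hw0 (hX0 w fun g k hk => ?_)
    let St : Subgroup ↥G₁ :=
      { carrier := {g | φ₂ g w = w}
        one_mem' := by show φ₂ 1 w = w; rw [map_one]; rfl
        mul_mem' := fun {g h} hg hh => by
          show φ₂ (g * h) w = w
          rw [map_mul]
          show φ₂ g (φ₂ h w) = w
          rw [hh, hg]
        inv_mem' := fun {g} hg => by
          show φ₂ g⁻¹ w = w
          conv_lhs => rw [← hg]
          show (φ₂ g⁻¹ * φ₂ g) w = w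
          rw [← map_mul, inv_mul_cancel, map_one]; rfl }
    have hSt : (⊤ : Subgroup ↥G₁) ≤ St :=
      htop ▸ sup_le (fun k hk => h k hk) (fun c hc => hwA c hc)
    exact hSt (Subgroup.mem_top (g * k * g⁻¹))
  rcases hp.out.eq_two_or_odd' with rfl | hodd
  · have hmeas : Nat.card ↥(A₁ ⊓ Subgroup.centralizer (K₁ : Set ↥G₁)) * Nat.card (↥W ⧸ X) ≤
        Nat.card A₁ * Nat.card (fixSub φ₂ A₁) := by
      have h1 := hmax₁ (A₁ ⊓ Subgroup.centralizer (K₁ : Set ↥G₁)) inf_le_left
      have hB1 : fixSub φ₁ (A₁ ⊓ Subgroup.centralizer (K₁ : Set ↥G₁)) = ⊤ :=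
        eq_top_iff.mpr fun v _ c hc => by
          rw [hcent₁ c hc.1 fun k hk => (Subgroup.mem_centralizer_iff.mp hc.2 k hk).symm]; rfl
      rw [measure, measure, hB1, AddSubgroup.card_top,
        AddSubgroup.card_eq_card_quotient_mul_card_addSubgroup X] at h1
      have hfix : Nat.card (fixSub φ₁ A₁) ≤ Nat.card (fixSub φ₂ A₁) * Nat.card X := by
        let g : fixSub φ₁ A₁ →+ ↥W ⧸ X := (QuotientAddGroup.mk' X).comp (fixSub φ₁ A₁).subtype
        rw [AddSubgroup.card_eq_card_quotient_mul_card_addSubgroup g.ker,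
          Nat.card_congr (QuotientAddGroup.quotientKerEquivRange g).toEquiv]
        refine Nat.mul_le_mul ?_ ?_
        · refine AddSubgroup.card_le_of_le ?_
          rintro _ ⟨x, rfl⟩ c hc
          show φ₂ c (QuotientAddGroup.mk (x : ↥W)) = QuotientAddGroup.mk (x : ↥W)
          rw [hφ₂, x.2 c hc]
        · exact Nat.card_le_card_of_injective
            (fun x : g.ker => (⟨x.1.1, (QuotientAddGroup.eq_zero_iff _).mp x.2⟩ : X))
            fun x y h => Subtype.ext (Subtype.ext (Subtype.mk_eq_mk.mp h :))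
      refine Nat.le_of_mul_le_mul_right ?_ (Nat.card_pos (α := ↥X))
      calc _ = Nat.card ↥(A₁ ⊓ Subgroup.centralizer (K₁ : Set ↥G₁)) *
            (Nat.card (↥W ⧸ X) * Nat.card X) := by ring
        _ ≤ Nat.card A₁ * Nat.card (fixSub φ₁ A₁) := h1
        _ ≤ Nat.card A₁ * (Nat.card (fixSub φ₂ A₁) * Nat.card X) := Nat.mul_le_mul_left _ hfix
        _ = _ := by ring
    refine core_two hV₂ φ₂ hK₁ hA₁c hA₁p ha haN (fun y hy => hfix₂ _ _ (hFix y hy)) ?_ hwA
      ⟨v₂, hv₂⟩ hwK hmeas
    rcases halt with h | ⟨b, hb, hbN, hbC, hbfix⟩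
    · exact Or.inl fun c hc => hfix₂ _ _ (h c hc)
    · exact Or.inr ⟨b, hb, hbN, hbC, fun c hc => hfix₂ _ _ (hbfix c hc)⟩
  · refine core_odd hodd hV₂ φ₂ hK₁ (hA₁p a ha) haN (fun y hy => hfix₂ _ _ (hFix y hy))
      (hwA a ha) (fun y hy => ?_) hwK
    rw [← hv₂]
    exact hfix₂ _ _ (hFix y hy) v₂

end CfsgLib.Offender.Component
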