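import Cfsg.Agent.Lib.PushUp.Basic
import Cfsg.Agent.Lib.Baer.Basic

/-!
Best offenders on a normal elementary abelian `2`-subgroup `V` of an `S₄`-free group, when every
`2`-subgroup of the automizer acts quadratically on `V`: they generate `2`-groups with their
conjugates.
-/

set_option autoImplicit false
set_option linter.style.haveILetI false

namespace CfsgLib.QuadSylow

universe u

variable {G : Type u} [Group G]

/-- The commutator map `v ↦ h v h⁻¹ v⁻¹`. -/
def dd (h v : G) : G := h * v * h⁻¹ * v⁻¹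

theorem dd_spec (h v : G) : h * v * h⁻¹ = dd h v * v := by unfold dd; group

theorem dd_mul_left (s t v : G) : dd (s * t) v = s * dd t v * s⁻¹ * dd s v := by unfold dd; group

theorem dd_eq_one {h v : G} : dd h v = 1 ↔ h * v * h⁻¹ = v := by
  unfold dd; rw [mul_inv_eq_one]

@[simp] theorem dd_one_left (v : G) : dd 1 v = 1 := by unfold dd; group

/-- The setting. -/
structure Data (V : Subgroup G) : Prop where
  normal : V.Normal
  comm : ∀ x ∈ V, ∀ y ∈ V, x * y = y * x
  sq : ∀ v ∈ V, v * v = 1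
  quad : ∀ (N : Subgroup G) [N.Normal], N = Subgroup.centralizer (V : Set G) →
    ∀ (T : Subgroup (G ⧸ N)), IsPGroup 2 T → ∀ s t v : G, v ∈ V → (s : G ⧸ N) ∈ T →
      (t : G ⧸ N) ∈ T → t * dd s v * t⁻¹ = dd s v
  free : ¬ Cfsg.Involves (Equiv.Perm (Fin 4)) G

variable {V : Subgroup G}

theorem Data.inv_eq (D : Data V) {v : G} (hv : v ∈ V) : v⁻¹ = v :=
  inv_eq_of_mul_eq_one_right (D.sq v hv)

theorem Data.dd_mem (D : Data V) {h v : G} (hv : v ∈ V) : dd h v ∈ V :=
  V.mul_mem (D.normal.conj_mem v hv h) (V.inv_mem hv)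

theorem Data.dd_mul (D : Data V) (h : G) {u v : G} (hu : u ∈ V) (hv : v ∈ V) :
    dd h (u * v) = dd h u * dd h v := by
  have h1 := D.comm _ (D.dd_mem (h := h) hv) _ (V.inv_mem hu)
  calc dd h (u * v) = h * u * h⁻¹ * (dd h v * u⁻¹) := by unfold dd; group
    _ = h * u * h⁻¹ * (u⁻¹ * dd h v) := by rw [h1]
    _ = dd h u * dd h v := by unfold dd; group

theorem Data.dd_sq (D : Data V) (h : G) {v : G} (hv : v ∈ V) :
    dd (h * h) v = dd h (dd h v) := by
  have hm := D.dd_mem (h := h) hv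
  rw [dd_mul_left, dd_spec h (dd h v), mul_assoc, D.sq _ hm, mul_one]

/-- The elements normalizing `P` and moving `M` into `P` only. -/
def st [Finite G] (V : Subgroup G) (D : Data V) (M : Set G) (hM : M ⊆ V) (P : Subgroup G) :
    Subgroup G where
  carrier := {h | h ∈ Subgroup.normalizer (P : Set G) ∧ ∀ m ∈ M, dd h m ∈ P}
  one_mem' := ⟨one_mem _, fun m _ => by rw [dd_one_left]; exact one_mem P⟩
  mul_mem' := fun {a b} ha hb => ⟨mul_mem ha.1 hb.1, fun m hm => by
    rw [dd_mul_left]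
    exact mul_mem ((Subgroup.mem_normalizer_iff.1 ha.1 _).1 (hb.2 m hm)) (ha.2 m hm)⟩
  inv_mem' := fun {a} ha => by
    have hpow : ∀ n : ℕ, a ^ n ∈ Subgroup.normalizer (P : Set G) ∧ ∀ m ∈ M, dd (a ^ n) m ∈ P := by
      intro n
      induction n with
      | zero => rw [pow_zero]; exact ⟨one_mem _, fun m _ => by rw [dd_one_left]; exact one_mem P⟩
      | succ n ih =>
        refine ⟨pow_mem ha.1 _, fun m hm => ?_⟩
        rw [pow_succ', dd_mul_left]
        exact mul_mem ((Subgroup.mem_normalizer_iff.1 ha.1 _).1 (ih.2 m hm)) (ha.2 m hm)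
    obtain ⟨n, hn⟩ : ∃ n : ℕ, a⁻¹ = a ^ n := by
      refine ⟨orderOf a - 1, inv_eq_of_mul_eq_one_right ?_⟩
      rw [← pow_succ', Nat.sub_add_cancel (orderOf_pos a), pow_orderOf_eq_one]
    rw [hn]
    exact hpow n

theorem mem_st [Finite G] (D : Data V) {M : Set G} {hM : M ⊆ V} {P : Subgroup G} {h : G} :
    h ∈ st V D M hM P ↔ h ∈ Subgroup.normalizer (P : Set G) ∧ ∀ m ∈ M, dd h m ∈ P := Iff.rfl

section Quot

variable (V) in
/-- The kernel of the action. -/
abbrev ker : Subgroup G := Subgroup.centralizer (V : Set G)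

theorem ker_normal (D : Data V) : (ker V).Normal := by
  haveI := D.normal
  infer_instance

theorem act_eq {N : Subgroup G} [N.Normal] (hN : N = ker V) {s t v : G}
    (h : (s : G ⧸ N) = t) (hv : v ∈ V) : s * v * s⁻¹ = t * v * t⁻¹ := by
  have h1 : s⁻¹ * t ∈ ker V := hN ▸ QuotientGroup.eq.1 h
  have h2 : v * (s⁻¹ * t) = s⁻¹ * t * v := h1 v hv
  calc s * v * s⁻¹ = s * (v * (s⁻¹ * t)) * t⁻¹ := by group
    _ = t * v * t⁻¹ := by rw [h2]; group

theorem mk_eq {N : Subgroup G} [N.Normal] (hN : N = ker V) {s t : G}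
    (h : ∀ v ∈ V, s * v * s⁻¹ = t * v * t⁻¹) : (s : G ⧸ N) = t := by
  rw [QuotientGroup.eq, hN]
  intro v hv
  calc v * (s⁻¹ * t) = s⁻¹ * (s * v * s⁻¹) * t := by group
    _ = s⁻¹ * (t * v * t⁻¹) * t := by rw [h v hv]
    _ = s⁻¹ * t * v := by group

/-- The automizer image. -/
def img (N : Subgroup G) [N.Normal] (A : Subgroup G) : Subgroup (G ⧸ N) :=
  A.map (QuotientGroup.mk' N)

theorem mem_img {N : Subgroup G} [N.Normal] {A : Subgroup G} {a : G} (ha : a ∈ A) :
    (a : G ⧸ N) ∈ img N A := ⟨a, ha, rfl⟩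

theorem quad_of (D : Data V) {N : Subgroup G} [hNn : N.Normal] (hN : N = ker V) {s t v : G}
    (hv : v ∈ V) {T : Subgroup (G ⧸ N)} (hT : IsPGroup 2 T) (hs : (s : G ⧸ N) ∈ T)
    (ht : (t : G ⧸ N) ∈ T) : t * dd s v * t⁻¹ = dd s v := by
  exact D.quad N hN T hT s t v hv hs ht

theorem commute_of (D : Data V) {N : Subgroup G} [hNn : N.Normal] (hN : N = ker V) {s t : G}
    {T : Subgroup (G ⧸ N)} (hT : IsPGroup 2 T) (hs : (s : G ⧸ N) ∈ T) (ht : (t : G ⧸ N) ∈ T) :
    (s : G ⧸ N) * t = t * s := by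
  rw [← QuotientGroup.mk_mul, ← QuotientGroup.mk_mul]
  refine mk_eq hN fun v hv => ?_
  rw [dd_spec, dd_spec, dd_mul_left, dd_mul_left, quad_of D hN hv hT ht hs,
    quad_of D hN hv hT hs ht, D.comm _ (D.dd_mem hv) _ (D.dd_mem hv)]

theorem sq_of (D : Data V) {N : Subgroup G} [hNn : N.Normal] (hN : N = ker V) {s : G}
    {T : Subgroup (G ⧸ N)} (hT : IsPGroup 2 T) (hs : (s : G ⧸ N) ∈ T) :
    (s : G ⧸ N) * s = 1 := by
  rw [← QuotientGroup.mk_mul, ← QuotientGroup.mk_one]
  refine mk_eq hN fun v hv => ?_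
  rw [dd_spec, dd_spec, D.dd_sq s hv, dd_eq_one.2 (quad_of D hN hv hT hs hs), dd_one_left]

end Quot

variable [Finite G]

/-- `A` is a best offender on `V` inducing a `2`-group. -/
structure Best (V : Subgroup G) (N : Subgroup G) [N.Normal] (A : Subgroup G) : Prop where
  two : IsPGroup 2 (img N A)
  best : ∀ B : Subgroup G, B ≤ A →
    Nat.card B * Nat.card ↥(V ⊓ Subgroup.centralizer (B : Set G)) ≤
      Nat.card A * Nat.card ↥(V ⊓ Subgroup.centralizer (A : Set G))

omit [Finite G] in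
theorem map_conj_self {W : Subgroup G} (hW : W.Normal) (g : G) :
    W.map (MulAut.conj g).toMonoidHom = W := by
  refine le_antisymm (Subgroup.map_le_iff_le_comap.2 fun x hx => hW.conj_mem x hx g) fun x hx => ?_
  exact ⟨g⁻¹ * x * g, hW.conj_mem' x hx g, by simp [mul_assoc]⟩

omit [Finite G] in
theorem map_fix (hV : V.Normal) (B : Subgroup G) (g : G) :
    (V ⊓ Subgroup.centralizer (B : Set G)).map (MulAut.conj g).toMonoidHom =
      V ⊓ Subgroup.centralizer ((B.map (MulAut.conj g).toMonoidHom : Subgroup G) : Set G) := by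
  rw [Subgroup.map_inf _ _ _ (MulAut.conj g).injective, map_conj_self hV]
  congr 1
  ext x
  constructor
  · rintro ⟨y, hy, rfl⟩ _ ⟨b, hb, rfl⟩
    simp only [MulEquiv.coe_toMonoidHom, ← map_mul, hy b hb]
  · intro hx
    refine ⟨g⁻¹ * x * g, fun b hb => ?_, by simp [mul_assoc]⟩
    have h1 := hx (g * b * g⁻¹) ⟨b, hb, by simp⟩
    calc b * (g⁻¹ * x * g) = g⁻¹ * (g * b * g⁻¹ * x) * g := by group
      _ = g⁻¹ * (x * (g * b * g⁻¹)) * g := by rw [h1]
      _ = g⁻¹ * x * g * b := by group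

omit [Finite G] in
theorem img_conj (N : Subgroup G) [N.Normal] (A : Subgroup G) (g : G) :
    img N (A.map (MulAut.conj g).toMonoidHom) =
      (img N A).map (MulAut.conj (g : G ⧸ N)).toMonoidHom := by
  rw [img, img, Subgroup.map_map, Subgroup.map_map]
  congr 1

theorem Best.conj (hV : V.Normal) {N : Subgroup G} [N.Normal] {A : Subgroup G} (h : Best V N A)
    (g : G) : Best V N (A.map (MulAut.conj g).toMonoidHom) := by
  refine ⟨img_conj N A g ▸ h.two.map _, fun B hB => ?_⟩
  have e : (B.map (MulAut.conj g⁻¹).toMonoidHom).map (MulAut.conj g).toMonoidHom = B := by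
    rw [Subgroup.map_map]
    convert Subgroup.map_id B using 2
    ext x
    simp [mul_assoc]
  have hB' : B.map (MulAut.conj g⁻¹).toMonoidHom ≤ A := by
    rintro _ ⟨b, hb, rfl⟩
    obtain ⟨a, ha, rfl⟩ := hB hb
    simpa [mul_assoc] using ha
  have := h.best _ hB'
  have hc : ∀ (H : Subgroup G), Nat.card (H.map (MulAut.conj g).toMonoidHom) = Nat.card H :=
    fun H => Subgroup.card_map_of_injective (MulAut.conj g).injective
  rw [← e, ← map_fix hV _ g, ← map_fix hV A g, hc, hc, hc, hc]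
  exact this

/-- Pairs of conjugate best offenders generate `2`-groups inside `L`. -/
def Good (V N : Subgroup G) [N.Normal] (L : Subgroup G) : Prop :=
  ∀ A : Subgroup G, A ≤ L → Best V N A → ∀ g ∈ L,
    IsPGroup 2 ↥(img N A ⊔ img N (A.map (MulAut.conj g).toMonoidHom))

omit [Finite G] in
theorem isPGroup_sup {Q : Type u} [Group Q] {X Y : Subgroup Q} (hX : IsPGroup 2 X)
    (hY : IsPGroup 2 Y) (h : X ≤ Subgroup.normalizer (Y : Set Q)) : IsPGroup 2 ↥(X ⊔ Y) :=
  IsPGroup.to_sup_of_normal_right' hX hY h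

/-- Baer–Suzuki inside `L`. -/
theorem Good.normal_two {N L : Subgroup G} [N.Normal] (hL : Good V N L) {A : Subgroup G}
    (hA : A ≤ L) (hb : Best V N A) :
    ∃ R : Subgroup (G ⧸ N), IsPGroup 2 R ∧ R ≤ img N L ∧
      img N L ≤ Subgroup.normalizer (R : Set (G ⧸ N)) ∧ img N A ≤ R := by
  haveI : Fact (Nat.Prime 2) := ⟨Nat.prime_two⟩
  set Lb := img N L with hLb
  have hAL : img N A ≤ Lb := Subgroup.map_mono hA
  obtain ⟨R, hRn, hR2, hAR⟩ := CfsgLib.Baer.baer_suzuki ((img N A).subgroupOf Lb)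
    (hb.two.comap_of_injective Lb.subtype Lb.subtype_injective) fun g => by
    obtain ⟨g₀, hg₀, hg⟩ := g.2
    have h := hL A hA hb g₀ hg₀
    rw [img_conj, show ((g₀ : G) : G ⧸ N) = (g : G ⧸ N) from hg] at h
    refine (h.comap_of_injective Lb.subtype Lb.subtype_injective).to_le ?_
    rintro x hx
    refine Subgroup.mem_comap.2 ?_
    have h2 : ((img N A).subgroupOf Lb ⊔ ((img N A).subgroupOf Lb).map
        (MulAut.conj g).toMonoidHom).map Lb.subtype ≤
        img N A ⊔ (img N A).map (MulAut.conj (g : G ⧸ N)).toMonoidHom := by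
      rw [Subgroup.map_sup]
      refine sup_le_sup (Subgroup.map_comap_le _ _) ?_
      rintro _ ⟨_, ⟨a, ha, rfl⟩, rfl⟩
      exact ⟨a, ha, rfl⟩
    exact h2 ⟨x, hx, rfl⟩
  refine ⟨R.map Lb.subtype, hR2.map _, Subgroup.map_subtype_le R, ?_, fun a ha => ?_⟩
  · rw [← Subgroup.normal_subgroupOf_iff_le_normalizer (Subgroup.map_subtype_le R),
      Subgroup.subgroupOf, Subgroup.comap_map_eq_self_of_injective Lb.subtype_injective]
    exact hRn
  · exact ⟨⟨a, hAL ha⟩, hAR ha, rfl⟩

section Pair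

variable {N : Subgroup G} [N.Normal] {X : Subgroup G}

/-- `C_V(X)`. -/
abbrev fixV (V X : Subgroup G) : Subgroup G := V ⊓ Subgroup.centralizer (X : Set G)

omit [Finite G] in
theorem fixV_fix {A : Subgroup G} {v a : G} (hv : v ∈ fixV V A) (ha : a ∈ A) :
    a * v * a⁻¹ = v := by
  rw [hv.2 a ha, mul_inv_cancel_right]

omit [Finite G] in
theorem dd_fix {A : Subgroup G} {v a : G} (hv : v ∈ fixV V A) (ha : a ∈ A) : dd a v = 1 :=
  dd_eq_one.2 (fixV_fix hv ha)

omit [Finite G] in
theorem dd_mem_fix (D : Data V) (hN : N = ker V) {A : Subgroup G} (hA : IsPGroup 2 (img N A))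
    {a v : G} (ha : a ∈ A) (hv : v ∈ V) : dd a v ∈ fixV V A :=
  ⟨D.dd_mem hv, fun t ht => by
    have h := quad_of D hN hv hA (mem_img ha) (mem_img ht)
    exact mul_inv_eq_iff_eq_mul.1 h⟩

/-- Elements moved only into `C_V(X)`. -/
def nearFix (D : Data V) (X : Subgroup G) : Subgroup G where
  carrier := {v | v ∈ V ∧ ∀ h ∈ X, dd h v ∈ fixV V X}
  one_mem' := ⟨one_mem V, fun h _ => by
    rw [show dd h 1 = 1 by unfold dd; group]; exact one_mem _⟩
  mul_mem' := fun {u v} hu hv => ⟨mul_mem hu.1 hv.1, fun h hh => by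
    rw [D.dd_mul h hu.1 hv.1]; exact mul_mem (hu.2 h hh) (hv.2 h hh)⟩
  inv_mem' := fun {u} hu => by rwa [D.inv_eq hu.1]

omit [Finite G] in
theorem nearFix_le (D : Data V) : nearFix D X ≤ V := fun _ h => h.1

omit [Finite G] in
theorem fixV_le_nearFix (D : Data V) : fixV V X ≤ nearFix D X := fun v hv =>
  ⟨hv.1, fun h hh => by rw [dd_fix hv hh]; exact one_mem _⟩

omit [Finite G] in
theorem nearFix_conj (D : Data V) {h v : G} (hh : h ∈ X) (hv : v ∈ nearFix D X) :
    h * v * h⁻¹ ∈ nearFix D X := by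
  rw [dd_spec]
  exact mul_mem (fixV_le_nearFix D (hv.2 h hh)) hv

/-- The asymmetric half: a commutator `[C_V(A), B]` outside `nearFix` gives an `S₄`-section. -/
theorem half (D : Data V) (hN : N = ker V) {A B : Subgroup G} (hX : A ⊔ B = X)
    (hA : Best V N A) (hB : Best V N B) {g : G} (hg : g ∈ X)
    (hgB : A.map (MulAut.conj g).toMonoidHom = B)
    (hind : ∀ L : Subgroup G, Nat.card L < Nat.card X → Good V N L) :
    ∀ u ∈ fixV V A, ∀ b ∈ B, dd b u ∈ nearFix D X := by
  classical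
  haveI : Fact (Nat.Prime 2) := ⟨Nat.prime_two⟩
  by_contra! hcon
  obtain ⟨u, hu, b, hb, hw⟩ := hcon
  set w := dd b u with hwdef
  have hAX : A ≤ X := hX ▸ le_sup_left
  have hBX : B ≤ X := hX ▸ le_sup_right
  set C₀ := fixV V X with hC₀
  set cA := fixV V A with hcA
  set cB := fixV V B with hcB
  have hC₀A : C₀ ≤ cA := inf_le_inf_left V (Subgroup.centralizer_le hAX)
  have hC₀B : C₀ ≤ cB := inf_le_inf_left V (Subgroup.centralizer_le hBX)
  have hinter : cA ⊓ cB ≤ C₀ := fun v hv =>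
    ⟨hv.1.1, Subgroup.le_centralizer_iff.1 (hX ▸ sup_le
      (Subgroup.le_centralizer_iff.1 (show Subgroup.zpowers v ≤ _ from Subgroup.zpowers_le.2 hv.1.2))
      (Subgroup.le_centralizer_iff.1 (show Subgroup.zpowers v ≤ _ from Subgroup.zpowers_le.2 hv.2.2)))
      (Subgroup.mem_zpowers v)⟩
  have hwB : w ∈ cB := dd_mem_fix D hN hB.two hb hu.1
  have hwV : w ∈ V := hwB.1
  -- the kernel of `a ↦ [a, w]` modulo `C₀`
  haveI : (C₀.subgroupOf V).Normal := ⟨fun n hn x => by
    have : x * n * x⁻¹ = n := Subtype.ext (by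
      show (x : G) * n * (x : G)⁻¹ = n
      rw [D.comm _ x.2 _ n.2, mul_inv_cancel_right])
    rwa [this]⟩
  let q : V →* V ⧸ C₀.subgroupOf V := QuotientGroup.mk' _
  let f : A →* V ⧸ C₀.subgroupOf V :=
    MonoidHom.mk' (fun a => q ⟨dd a w, D.dd_mem hwV⟩) fun a a' => by
      rw [← map_mul]
      refine congrArg q (Subtype.ext ?_)
      show dd ((a : G) * a') w = dd (a : G) w * dd (a' : G) w
      rw [dd_mul_left, fixV_fix (dd_mem_fix D hN hA.two a'.2 hwV) a.2,
        D.comm _ (D.dd_mem hwV) _ (D.dd_mem hwV)]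
  have hfker : ∀ a : A, a ∈ f.ker ↔ dd (a : G) w ∈ C₀ := fun a => by
    show q ⟨dd a w, D.dd_mem hwV⟩ = 1 ↔ _
    rw [QuotientGroup.mk'_apply, QuotientGroup.eq_one_iff]
    rfl
  set K := f.ker.map A.subtype with hK
  have hXC₀ : X ≤ Subgroup.normalizer (C₀ : Set G) := fun h hh =>
    Subgroup.mem_normalizer_fintype fun c hc => by rw [fixV_fix hc hh]; exact hc
  have hKfix : ∀ k ∈ K, ∀ v ∈ cA ⊔ cB, k * v * k⁻¹ = v := by
    rintro _ ⟨k, hk, rfl⟩
    rw [SetLike.mem_coe, hfker] at hk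
    -- the proper subgroup fixing the coset of `w`
    set L := X ⊓ st V D {w} (by simpa using hwV) C₀ with hL
    have hLX : L ≤ X := inf_le_left
    have hmem : ∀ h ∈ X, dd h w ∈ C₀ → h ∈ L := fun h hh hd =>
      ⟨hh, hXC₀ hh, fun m hm => by rw [Set.mem_singleton_iff.1 hm]; exact hd⟩
    have hLlt : Nat.card L < Nat.card X := by
      refine lt_of_le_of_ne (Subgroup.card_le_of_le hLX) fun he => hw ?_
      refine ⟨hwV, fun h hh => ?_⟩
      have hh' : h ∈ L := (Subgroup.eq_of_le_of_card_ge hLX he.ge).ge hh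
      exact (mem_st D).1 hh'.2 |>.2 w rfl
    have hBL : B ≤ L := fun h hh => hmem h (hBX hh) (by
      rw [dd_fix hwB hh]; exact one_mem _)
    have hkL : (k : G) ∈ L := hmem _ (hAX k.2) hk
    obtain ⟨R, hR2, -, hLR, hBR⟩ := (hind L hLlt).normal_two hBL hB
    have hk2 : IsPGroup 2 (Subgroup.zpowers ((k : G) : G ⧸ N)) :=
      hA.two.to_le (Subgroup.zpowers_le.2 (mem_img k.2))
    have hT := isPGroup_sup hk2 hR2 (Subgroup.zpowers_le.2 (hLR (mem_img hkL)))
    have hcent : X ≤ (Subgroup.centralizer {((k : G) : G ⧸ N)}).comap (QuotientGroup.mk' N) := by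
      rw [← hX]
      refine sup_le (fun a ha => ?_) (fun b' hb' => ?_)
      · rw [Subgroup.mem_comap, Subgroup.mem_centralizer_singleton_iff]
        exact commute_of D hN hA.two (mem_img ha) (mem_img k.2)
      · rw [Subgroup.mem_comap, Subgroup.mem_centralizer_singleton_iff]
        exact commute_of D hN hT (Subgroup.mem_sup_right (hBR (mem_img hb')))
          (Subgroup.mem_sup_left (Subgroup.mem_zpowers _))
    intro v hv
    have hle : cA ⊔ cB ≤ fixV V (Subgroup.zpowers (k : G)) := by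
      refine sup_le (fun c hc => ⟨hc.1, ?_⟩) (fun c hc => ⟨hc.1, ?_⟩)
      · exact Subgroup.centralizer_le (Subgroup.zpowers_le.2 k.2) hc.2
      · rw [hcB] at hc
        have hc : c ∈ V ⊓ Subgroup.centralizer
            ((A.map (MulAut.conj g).toMonoidHom : Subgroup G) : Set G) := by rw [hgB]; exact hc
        rw [← map_fix D.normal] at hc
        obtain ⟨c', hc', rfl⟩ := hc
        have hgk : ((g : G) : G ⧸ N) * (k : G) = (k : G) * (g : G) :=
          Subgroup.mem_centralizer_singleton_iff.1 (hcent hg)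
        have he := act_eq (s := (k : G) * g) (t := g * k) hN
          (by rw [QuotientGroup.mk_mul, QuotientGroup.mk_mul, hgk]) hc'.1
        refine fun z hz => ?_
        have hfix : (k : G) * (g * c' * g⁻¹) * (k : G)⁻¹ = g * c' * g⁻¹ := by
          calc (k : G) * (g * c' * g⁻¹) * (k : G)⁻¹ = (k : G) * g * c' * ((k : G) * g)⁻¹ := by group
            _ = g * ((k : G) * c' * (k : G)⁻¹) * g⁻¹ := by rw [he]; group
            _ = g * c' * g⁻¹ := by rw [fixV_fix hc' k.2]
        have hc2 : g * c' * g⁻¹ ∈ Subgroup.centralizer {(k : G)} :=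
          Subgroup.mem_centralizer_singleton_iff.2 (mul_inv_eq_iff_eq_mul.1 hfix).symm
        have hz' : z ∈ Subgroup.centralizer {g * c' * g⁻¹} :=
          Subgroup.zpowers_le.2 (Subgroup.mem_centralizer_singleton_iff.2
            (Subgroup.mem_centralizer_singleton_iff.1 hc2).symm) hz
        exact Subgroup.mem_centralizer_singleton_iff.1 hz'
    exact fixV_fix (hle hv) (Subgroup.mem_zpowers _)
  have hKle : cA ⊔ cB ≤ fixV V K := fun v hv =>
    ⟨(sup_le inf_le_left inf_le_left : cA ⊔ cB ≤ V) hv, fun k hk =>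
      mul_inv_eq_iff_eq_mul.1 (hKfix k hk v hv)⟩
  have hcAcB : Nat.card cB = Nat.card cA := by
    rw [hcB, fixV, ← hgB, ← map_fix D.normal, Subgroup.card_map_of_injective (MulAut.conj g).injective]
  have hcount : Nat.card cA * Nat.card cA ≤ Nat.card C₀ * Nat.card ↥(fixV V K) := by
    have hle : cB.relIndex cA ≤ cB.relIndex (fixV V K) :=
      Subgroup.relIndex_le_of_le_right ((le_sup_left : cA ≤ cA ⊔ cB).trans hKle)
        Subgroup.index_ne_zero_of_finite
    have e1 : Nat.card C₀ * cB.relIndex cA = Nat.card cA := by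
      rw [← Subgroup.inf_relIndex_right, show cB ⊓ cA = C₀ from
        le_antisymm (inf_comm cA cB ▸ hinter) (le_inf hC₀B hC₀A),
        ← Subgroup.relIndex_bot_left, ← Subgroup.relIndex_bot_left cA,
        Subgroup.relIndex_mul_relIndex _ _ _ bot_le hC₀A]
    have e2 : Nat.card cB * cB.relIndex (fixV V K) = Nat.card ↥(fixV V K) := by
      rw [← Subgroup.relIndex_bot_left, ← Subgroup.relIndex_bot_left (fixV V K),
        Subgroup.relIndex_mul_relIndex _ _ _ bot_le ((le_sup_right : cB ≤ cA ⊔ cB).trans hKle)]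
    calc Nat.card cA * Nat.card cA = Nat.card C₀ * (Nat.card cA * cB.relIndex cA) := by
          conv_lhs => arg 2; rw [← e1]
          ring
      _ ≤ Nat.card C₀ * (Nat.card cA * cB.relIndex (fixV V K)) := by gcongr
      _ = Nat.card C₀ * Nat.card ↥(fixV V K) := by rw [← hcAcB, e2]
  -- surjectivity onto `C_V(A)` modulo `C₀`
  have hcAV : cA ≤ V := inf_le_left
  set cA' := (cA.subgroupOf V).map q with hcA'
  have hrange : f.range ≤ cA' := by
    rintro _ ⟨a, rfl⟩
    exact ⟨⟨dd a w, D.dd_mem hwV⟩, dd_mem_fix D hN hA.two a.2 hwV, rfl⟩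
  have hcard' : Nat.card cA' * Nat.card C₀ = Nat.card cA := by
    rw [hcA', ← Subgroup.relIndex_ker, QuotientGroup.ker_mk',
      Subgroup.relIndex_subgroupOf hcAV, mul_comm, ← Subgroup.relIndex_bot_left,
      ← Subgroup.relIndex_bot_left cA, Subgroup.relIndex_mul_relIndex _ _ _ bot_le hC₀A]
  have hKcard : Nat.card K * Nat.card f.range = Nat.card A := by
    rw [hK, Subgroup.card_map_of_injective A.subtype_injective, ← Subgroup.index_ker,
      Subgroup.card_mul_index]
  have hsurj : cA' ≤ f.range := by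
    refine (Subgroup.eq_of_le_of_card_ge hrange ?_).ge
    have hb := hA.best K (Subgroup.map_subtype_le _)
    have h1 : Nat.card K * (Nat.card cA * Nat.card cA) ≤
        Nat.card K * (Nat.card f.range * (Nat.card cA * Nat.card C₀)) :=
      calc Nat.card K * (Nat.card cA * Nat.card cA)
          ≤ Nat.card K * (Nat.card C₀ * Nat.card ↥(fixV V K)) := by gcongr
        _ = Nat.card C₀ * (Nat.card K * Nat.card ↥(fixV V K)) := by ring
        _ ≤ Nat.card C₀ * (Nat.card A * Nat.card cA) := Nat.mul_le_mul_left _ hb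
        _ = Nat.card K * (Nat.card f.range * (Nat.card cA * Nat.card C₀)) := by
          rw [← hKcard]; ring
    have h2 := Nat.le_of_mul_le_mul_left h1 Nat.card_pos
    rw [mul_comm (Nat.card cA) (Nat.card C₀), ← mul_assoc] at h2
    have h3 := Nat.le_of_mul_le_mul_right h2 Nat.card_pos
    rw [← hcard'] at h3
    exact Nat.le_of_mul_le_mul_right h3 Nat.card_pos
  obtain ⟨⟨a, ha⟩, hau⟩ := hsurj ⟨⟨u, hu.1⟩, hu, rfl⟩
  set c := u⁻¹ * dd a w with hcdef
  have hc : c ∈ C₀ := by
    have := QuotientGroup.eq.1 hau.symm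
    exact this
  have hcV : c ∈ V := hc.1
  have hAw : a * w * a⁻¹ = u * c * w := by rw [dd_spec, hcdef, mul_inv_cancel_left]
  have hBu : b * u * b⁻¹ = w * u := dd_spec b u
  have hAu : a * u * a⁻¹ = u := fixV_fix hu ha
  have hBw : b * w * b⁻¹ = w := fixV_fix hwB hb
  have hfc : ∀ h ∈ X, h * c * h⁻¹ = c := fun h hh => fixV_fix hc hh
  -- the rotation
  set x := a * b with hx
  have hx1 : x * u * x⁻¹ = w * c := by
    calc x * u * x⁻¹ = a * (b * u * b⁻¹) * a⁻¹ := by rw [hx]; group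
      _ = (a * w * a⁻¹) * (a * u * a⁻¹) := by rw [hBu]; group
      _ = u * (c * w) * u := by rw [hAw, hAu]; group
      _ = c * w * (u * u) := by
        rw [D.comm u hu.1 _ (mul_mem hcV hwV), mul_assoc]
      _ = w * c := by rw [D.sq u hu.1, mul_one, D.comm c hcV w hwV]
  have hxw : x * w * x⁻¹ = u * c * w := by
    calc x * w * x⁻¹ = a * (b * w * b⁻¹) * a⁻¹ := by rw [hx]; group
      _ = u * c * w := by rw [hBw, hAw]
  have hxc : x * c * x⁻¹ = c := hfc x (mul_mem (hAX ha) (hBX hb))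
  have hx2 : x ^ 2 * u * (x ^ 2)⁻¹ = u * w := by
    calc x ^ 2 * u * (x ^ 2)⁻¹ = x * (x * u * x⁻¹) * x⁻¹ := by rw [pow_two]; group
      _ = (x * w * x⁻¹) * (x * c * x⁻¹) := by rw [hx1]; group
      _ = u * c * (w * c) := by rw [hxw, hxc]; group
      _ = u * c * (c * w) := by rw [D.comm w hwV c hcV]
      _ = u * (c * c) * w := by group
      _ = u * w := by rw [D.sq c hcV, mul_one]
  have hx3 : x ^ 3 * u * (x ^ 3)⁻¹ = u := by
    calc x ^ 3 * u * (x ^ 3)⁻¹ = x * (x ^ 2 * u * (x ^ 2)⁻¹) * x⁻¹ := by rw [pow_succ']; group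
      _ = (x * u * x⁻¹) * (x * w * x⁻¹) := by rw [hx2]; group
      _ = w * c * (u * c * w) := by rw [hx1, hxw]
      _ = w * c * ((c * w) * u) := by rw [D.comm _ (mul_mem hcV hwV) u hu.1, mul_assoc u c w]
      _ = w * (c * c) * w * u := by group
      _ = w * w * u := by rw [D.sq c hcV, mul_one]
      _ = u := by rw [D.sq w hwV, one_mul]
  -- the four-group over `C₀`
  obtain ⟨k, n, hn, hkn⟩ := Nat.exists_eq_two_pow_mul_odd (orderOf_pos x).ne'
  set y := x ^ 2 ^ k with hy
  set M := (C₀ ⊔ Subgroup.zpowers u) ⊔ Subgroup.zpowers w with hM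
  have hMV : M ≤ V := sup_le (sup_le inf_le_left (Subgroup.zpowers_le.2 hu.1))
    (Subgroup.zpowers_le.2 hwV)
  have hC₀M : C₀ ≤ M := le_sup_left.trans le_sup_left
  have huM : u ∈ M := Subgroup.mem_sup_left (Subgroup.mem_sup_right (Subgroup.mem_zpowers u))
  have hwM : w ∈ M := Subgroup.mem_sup_right (Subgroup.mem_zpowers w)
  have hnormM : ∀ h ∈ X, h * u * h⁻¹ ∈ M → h * w * h⁻¹ ∈ M →
      h ∈ Subgroup.normalizer (M : Set G) := by
    intro h hh hu' hw'
    refine Subgroup.mem_normalizer_fintype fun m hm => ?_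
    have hle : M ≤ M.comap (MulAut.conj h).toMonoidHom := by
      refine sup_le (sup_le (fun c' hc' => ?_) (Subgroup.zpowers_le.2 ?_)) (Subgroup.zpowers_le.2 ?_)
      · show h * c' * h⁻¹ ∈ M
        rw [fixV_fix hc' hh]; exact hC₀M hc'
      · exact hu'
      · exact hw'
    exact hle hm
  have haM : a ∈ Subgroup.normalizer (M : Set G) := hnormM a (hAX ha) (hAu.symm ▸ huM)
    (hAw.symm ▸ mul_mem (mul_mem huM (hC₀M hc)) hwM)
  have hbM : b ∈ Subgroup.normalizer (M : Set G) := hnormM b (hBX hb)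
    (hBu.symm ▸ mul_mem hwM huM) (hBw.symm ▸ hwM)
  have hcentC : ∀ h ∈ X, h ∈ Subgroup.centralizer (C₀ : Set G) := fun h hh c' hc' =>
    (hc'.2 h hh).symm
  have hMidx : C₀.relIndex M ≤ 4 := by
    have key : ∀ (H : Subgroup G) (v : G), H ≤ V → v ∈ V →
        Nat.card ↥(H ⊔ Subgroup.zpowers v) ≤ 2 * Nat.card H := by
      intro H v hH hv
      have hVm : ∀ z, z ∈ H ∨ z * v ∈ H → z ∈ V := by
        rintro z (h | h)
        · exact hH h
        · simpa [mul_assoc, D.sq v hv] using mul_mem (hH h) hv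
      let H₂ : Subgroup G :=
        { carrier := {z | z ∈ H ∨ z * v ∈ H}
          one_mem' := Or.inl (one_mem H)
          mul_mem' := by
            intro z z' hz hz'
            have e : z * v * z' = z * (z' * v) := by
              rw [mul_assoc, D.comm v hv z' (hVm _ hz')]
            rcases hz with h | h <;> rcases hz' with h' | h'
            · exact Or.inl (mul_mem h h')
            · exact Or.inr (by rw [mul_assoc]; exact mul_mem h h')
            · exact Or.inr (by rw [mul_assoc, D.comm z' (hH h') v hv, ← mul_assoc]; exact mul_mem h h')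
            · refine Or.inl ?_
              have h2 := mul_mem h h'
              rwa [mul_assoc, ← mul_assoc v, D.comm v hv z' (hVm _ (Or.inr h')), mul_assoc z' v,
                D.sq v hv, mul_one] at h2
          inv_mem' := fun {z} hz => by
            show z⁻¹ ∈ H ∨ z⁻¹ * v ∈ H
            rw [D.inv_eq (hVm z hz)]; exact hz }
      have hle : H ⊔ Subgroup.zpowers v ≤ H₂ := sup_le (fun z hz => Or.inl hz)
        (Subgroup.zpowers_le.2 (Or.inr (by rw [D.sq v hv]; exact one_mem H)))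
      refine (Subgroup.card_le_of_le hle).trans ?_
      have hsub : (H₂ : Set G) ⊆ (H : Set G) ∪ (fun t => t * v) '' (H : Set G) := by
        rintro z (h | h)
        · exact Or.inl h
        · exact Or.inr ⟨z * v, h, by simp [mul_assoc, D.sq v hv]⟩
      rw [← SetLike.coe_sort_coe, ← SetLike.coe_sort_coe, Nat.card_coe_set_eq,
        Nat.card_coe_set_eq]
      calc (H₂ : Set G).ncard ≤ ((H : Set G) ∪ (fun t => t * v) '' (H : Set G)).ncard :=
            Set.ncard_le_ncard hsub (Set.toFinite _)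
        _ ≤ (H : Set G).ncard + ((fun t => t * v) '' (H : Set G)).ncard := Set.ncard_union_le _ _
        _ ≤ 2 * (H : Set G).ncard := by
          have := Set.ncard_image_le (f := fun t => t * v) (Set.toFinite (H : Set G))
          omega
    have h1 := key C₀ u inf_le_left hu.1
    have h2 := key (C₀ ⊔ Subgroup.zpowers u) w
      (sup_le inf_le_left (Subgroup.zpowers_le.2 hu.1)) hwV
    have e : Nat.card C₀ * C₀.relIndex M = Nat.card M := by
      rw [← Subgroup.relIndex_bot_left, ← Subgroup.relIndex_bot_left M,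
        Subgroup.relIndex_mul_relIndex _ _ _ bot_le hC₀M]
    refine Nat.le_of_mul_le_mul_left ?_ (Nat.card_pos (α := C₀))
    rw [e, hM]
    linarith
  have hxX : x ∈ X := mul_mem (hAX ha) (hBX hb)
  have hyn : y ^ n = 1 := by rw [hy, ← pow_mul, ← hkn, pow_orderOf_eq_one]
  have hinv : ∀ v ∈ M, (a * y * a⁻¹) * v * (a * y * a⁻¹)⁻¹ = y⁻¹ * v * y := by
    intro v hv
    have hconj : ((a * x * a⁻¹ : G) : G ⧸ N) = ((x⁻¹ : G) : G ⧸ N) := by
      have ha2 := sq_of D hN hA.two (mem_img ha)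
      have hb2 := sq_of D hN hB.two (mem_img hb)
      simp only [hx, mul_inv_rev, QuotientGroup.mk_mul, QuotientGroup.mk_inv,
        inv_eq_of_mul_eq_one_right ha2, inv_eq_of_mul_eq_one_right hb2]
      rw [← mul_assoc, ha2, one_mul]
    have hpow : ((a * y * a⁻¹ : G) : G ⧸ N) = ((y⁻¹ : G) : G ⧸ N) := by
      rw [hy, ← conj_pow, QuotientGroup.mk_pow, hconj, ← QuotientGroup.mk_pow, inv_pow]
    rw [act_eq hN hpow (hMV hv), inv_inv]
  have hpair := CfsgLib.PushUp.pair D.free hC₀M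
    (fun m => ⟨1, Subtype.ext (by simpa [pow_two] using D.sq m (hMV m.2))⟩)
    (fun m hm => Subgroup.mem_normalizer_fintype fun c' hc' => by
      rw [SetLike.mem_coe] at hc'
      rw [D.comm m (hMV hm) c' hc'.1, mul_inv_cancel_right]; exact hc')
    hMidx haM (pow_mem (mul_mem haM hbM) _) (hcentC a (hAX ha)) (hcentC y (pow_mem hxX _)) hinv hn
    (by rw [hyn]; exact one_mem _)
  have hyu : x ^ 2 ^ k * u * (x ^ 2 ^ k)⁻¹ = u :=
    CfsgLib.PushUp.mem_centralizer_iff_conj.1 hpair u huM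
  have hmod : x ^ (2 ^ k % 3) * u * (x ^ (2 ^ k % 3))⁻¹ = u := by
    have h3 : x ^ 3 ∈ Subgroup.centralizer {u} :=
      Subgroup.mem_centralizer_singleton_iff.2 (mul_inv_eq_iff_eq_mul.1 hx3)
    have h4 : x ^ (3 * (2 ^ k / 3)) ∈ Subgroup.centralizer {u} := by
      rw [pow_mul]; exact pow_mem h3 _
    rw [← Nat.mod_add_div (2 ^ k) 3, pow_add] at hyu
    rw [Subgroup.mem_centralizer_singleton_iff] at h4
    calc x ^ (2 ^ k % 3) * u * (x ^ (2 ^ k % 3))⁻¹
        = x ^ (2 ^ k % 3) * (x ^ (3 * (2 ^ k / 3)) * u * (x ^ (3 * (2 ^ k / 3)))⁻¹) *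
            (x ^ (2 ^ k % 3))⁻¹ := by
          rw [show x ^ (3 * (2 ^ k / 3)) * u = u * x ^ (3 * (2 ^ k / 3)) from h4, mul_inv_cancel_right]
      _ = u := by simpa [mul_assoc] using hyu
  have hw1 : w ≠ 1 := fun h => hw (h ▸ one_mem _)
  have hk3 : 2 ^ k % 3 = 1 ∨ 2 ^ k % 3 = 2 := by
    have h : ¬ 3 ∣ 2 ^ k := fun h => by
      have := Nat.Prime.dvd_of_dvd_pow Nat.prime_three h
      omega
    omega
  rcases hk3 with h | h <;> rw [h] at hmod
  · rw [pow_one, hx1] at hmod
    have h1 : w = u * c := by rw [← hmod, mul_assoc, D.sq c hcV, mul_one]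
    have hwA : w ∈ cA := h1 ▸ mul_mem hu (hC₀A hc)
    exact hw (fixV_le_nearFix D (hinter ⟨hwA, hwB⟩))
  · rw [hx2] at hmod
    exact hw1 (mul_eq_left.1 hmod)

/-- Best offenders generate `2`-groups with their conjugates. -/
theorem good_all (D : Data V) (hN : N = ker V) : ∀ L : Subgroup G, Good V N L := by
  intro L
  induction hn : Nat.card L using Nat.strong_induction_on generalizing L with
  | _ n ih =>
  intro A hAL hA g hg
  subst hn
  haveI : Fact (Nat.Prime 2) := ⟨Nat.prime_two⟩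
  set B := A.map (MulAut.conj g).toMonoidHom with hBdef
  have hB : Best V N B := hA.conj D.normal g
  set X := A ⊔ B with hX
  have hAX : A ≤ X := le_sup_left
  have hBX : B ≤ X := le_sup_right
  have hBL : B ≤ L := by
    rintro _ ⟨a, ha, rfl⟩
    exact mul_mem (mul_mem hg (hAL ha)) (inv_mem hg)
  have hXL : X ≤ L := sup_le hAL hBL
  have himg : img N A ⊔ img N B = img N X := (Subgroup.map_sup _ _ _).symm
  rcases lt_or_eq_of_le (Subgroup.card_le_of_le hXL) with hlt | heq
  · have hgood := ih _ hlt X rfl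
    obtain ⟨R, hR2, hRX, hXR, hAR⟩ := hgood.normal_two hAX hA
    obtain ⟨R', hR2', hRX', hXR', hBR⟩ := hgood.normal_two hBX hB
    exact (isPGroup_sup hR2 hR2' (hRX.trans hXR')).to_le (sup_le_sup hAR hBR)
  · have hXeq : X = L := Subgroup.eq_of_le_of_card_ge hXL heq.ge
    have hind : ∀ L' : Subgroup G, Nat.card L' < Nat.card X → Good V N L' := fun L' h =>
      ih _ (heq ▸ h) L' rfl
    have hgX : g ∈ X := hXeq ▸ hg
    have hhalf1 := half D hN (hX.symm : A ⊔ B = X) hA hB hgX rfl hind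
    have hAB : B.map (MulAut.conj g⁻¹).toMonoidHom = A := by
      rw [hBdef, Subgroup.map_map]
      convert Subgroup.map_id A using 2
      ext x
      simp [mul_assoc]
    have hhalf2 := half D hN ((sup_comm B A).trans hX.symm) hB hA (inv_mem hgX) hAB hind
    set C₀ := fixV V X with hC₀
    set P := nearFix D X with hP
    set M := fixV V A ⊔ fixV V B ⊔ P with hM
    have hMV : M ≤ V := sup_le (sup_le inf_le_left inf_le_left) (nearFix_le D)
    have hnormP : ∀ h ∈ X, h ∈ Subgroup.normalizer (P : Set G) := fun h hh =>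
      Subgroup.mem_normalizer_fintype fun p hp => nearFix_conj D hh hp
    have hdP : ∀ h ∈ X, ∀ m ∈ P, dd h m ∈ C₀ := fun h hh m hm => hm.2 h hh
    -- `X` moves `M` into `P`
    have hXM : X ≤ st V D M (fun m hm => hMV hm) P := by
      have gen : ∀ h ∈ X, (∀ m ∈ fixV V A, dd h m ∈ P) → (∀ m ∈ fixV V B, dd h m ∈ P) →
          h ∈ st V D M (fun m hm => hMV hm) P := by
        intro h hh h1 h2
        refine ⟨hnormP h hh, ?_⟩
        let S : Subgroup G :=
          { carrier := {m | m ∈ V ∧ dd h m ∈ P}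
            one_mem' := ⟨one_mem V, by rw [show dd h 1 = 1 by unfold dd; group]; exact one_mem P⟩
            mul_mem' := fun {u v} hu hv => ⟨mul_mem hu.1 hv.1, by
              rw [D.dd_mul h hu.1 hv.1]; exact mul_mem hu.2 hv.2⟩
            inv_mem' := fun {u} hu => by rwa [D.inv_eq hu.1] }
        have hle : M ≤ S := sup_le (sup_le (fun m hm => ⟨hm.1, h1 m hm⟩)
          (fun m hm => ⟨hm.1, h2 m hm⟩))
          (fun m hm => ⟨hm.1, fixV_le_nearFix D (hdP h hh m hm)⟩)
        exact fun m hm => (hle hm).2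
      refine sup_le (fun a ha => gen a (hAX ha) (fun m hm => ?_) (fun m hm => hhalf2 m hm a ha))
        (fun b hb => gen b (hBX hb) (fun m hm => hhalf1 m hm b hb) (fun m hm => ?_))
      · rw [dd_fix hm ha]; exact one_mem _
      · rw [dd_fix hm hb]; exact one_mem _
    have hnormM : ∀ h ∈ X, h ∈ Subgroup.normalizer (M : Set G) := fun h hh =>
      Subgroup.mem_normalizer_fintype fun m hm => by
        rw [SetLike.mem_coe] at hm ⊢
        rw [dd_spec]
        exact mul_mem (Subgroup.mem_sup_right ((hXM hh).2 m hm)) hm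
    have hXV : X ≤ st V D (V : Set G) (fun m hm => hm) M := by
      refine sup_le (fun a ha => ⟨hnormM a (hAX ha), fun m hm => ?_⟩)
        (fun b hb => ⟨hnormM b (hBX hb), fun m hm => ?_⟩)
      · exact Subgroup.mem_sup_left (Subgroup.mem_sup_left (dd_mem_fix D hN hA.two ha hm))
      · exact Subgroup.mem_sup_left (Subgroup.mem_sup_right (dd_mem_fix D hN hB.two hb hm))
    refine IsPGroup.to_le ?_ himg.le
    rintro ⟨_, h, hh, rfl⟩
    refine ⟨2, Subtype.ext ?_⟩
    show (QuotientGroup.mk' N h) ^ (2 ^ 2) = 1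
    rw [← map_pow, QuotientGroup.mk'_apply, ← QuotientGroup.mk_one]
    refine mk_eq hN fun v hv => ?_
    rw [one_mul, inv_one, mul_one, ← dd_eq_one, show h ^ (2 ^ 2) = (h * h) * (h * h) by
      norm_num [pow_succ, mul_assoc], D.dd_sq _ hv, D.dd_sq _ hv]
    have hm : dd h v ∈ M := (hXV hh).2 v hv
    have hp : dd h (dd h v) ∈ P := (hXM hh).2 _ hm
    have hp' : dd (h * h) (dd h (dd h v)) = dd h (dd h (dd h (dd h v))) := D.dd_sq _ hp.1
    rw [hp', dd_fix (hdP h hh _ hp) hh]

end Pair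

end CfsgLib.QuadSylow
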